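import Mathlib
import Cfsg.Prelude.Def_Blocks
import Cfsg.Agent.Lib.Helper16.Cover
import Cfsg.Agent.Lib.Helper16.ZR
import Cfsg.Agent.Lib.Helper16.NormalP

/-!
# Blocks covering blocks of a normal subgroup containing `C_G(Q)`, `Q` a normal `p`-subgroup
-/

set_option autoImplicit false

namespace Cfsg.Agent.Lib.Helper16.Cover2

open Cfsg Cfsg.Agent.Lib.Helper77.LocalRing Cfsg.Agent.Lib.CT.Wedderburn
  Cfsg.Agent.Lib.Helper16.ZR Cfsg.Agent.Lib.Helper16.Cover

universe u
variable {G : Type u} [Group G] {M : Ideal AlgInt}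

theorem inducedCentralChar_eq_zero_of_not_mem (H : Subgroup G) [hH : H.Normal] (θ : H → ℂ)
    (g : G) (hg : g ∉ H) : inducedCentralChar H θ g = 0 := by
  unfold inducedCentralChar
  apply finsum_mem_eq_zero_of_forall_eq_zero
  intro h hh
  exfalso
  apply hg
  obtain ⟨c, hc⟩ := isConj_iff.mp hh
  have h1 : g = c⁻¹ * (h : G) * c⁻¹⁻¹ := by
    rw [← hc]
    group
  rw [h1]
  exact hH.conj_mem _ h.2 _

/-- If `Q` is a normal `p`-subgroup, `H` a normal subgroup containing `C_G(Q)`, and the block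
`B` of `G` covers the block `b` of `H`, then `b^G = B`. -/
theorem isInducedBlock_of_cover [Fintype G] {p : ℕ} [Fact p.Prime] (hM : IsPModular p M)
    (Q : Subgroup G) [Q.Normal] (hQ : IsPGroup p Q) (H : Subgroup G) [hH : H.Normal]
    [Fintype H] (hCH : Subgroup.centralizer (Q : Set G) ≤ H) (b : Set (IrrCharacter H))
    (hb : IsPBlock M b) (B : Set (IrrCharacter G)) (hB : IsPBlock M B) (χ : IrrCharacter G)
    (hχ : χ ∈ B) (θ : IrrCharacter H) (hθ : θ ∈ b)
    (hcon : classInner (fun n : H => (χ : G → ℂ) n) (θ : H → ℂ) ≠ 0) :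
    IsInducedBlock M H b B := by
  have hMp := isPrime_of_isPModular hM
  refine ⟨hb, hB, ?_⟩
  intro ξ hξ χ' hχ' g
  have t1 := Cfsg.Agent.Lib.Helper16.Induced.induced_sub_induced_mem hM.2.1 H (ξ : H → ℂ)
    (θ : H → ℂ) (fun x k => irr_conj_inv ξ k x) (fun x k => irr_conj_inv θ k x)
    (sameBlock_of_mem hMp hb hξ hθ) g
  have t2 : MemLocalIdeal M (inducedCentralChar H (θ : H → ℂ) g - centralChar (χ : G → ℂ) g) := by
    by_cases hg : g ∈ H
    · have := centralChar_eq_induced_of_constituent H hH χ θ hcon ⟨g, hg⟩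
      rw [← this, sub_self]
      exact memLocalIdeal_zero hMp
    · rw [inducedCentralChar_eq_zero_of_not_mem H _ g hg, zero_sub]
      exact memLocalIdeal_neg
        (Cfsg.Agent.Lib.Helper16.NormalP.centralChar_mem_of_not_centralizer p M hM Q hQ χ.1 χ.2 g
          (fun hc => hg (hCH hc)))
  have t3 : MemLocalIdeal M (centralChar (χ : G → ℂ) g - centralChar (χ' : G → ℂ) g) :=
    sameBlock_of_mem hMp hB hχ hχ' g
  have := memLocalIdeal_add hMp (memLocalIdeal_add hMp t1 t2) t3
  convert this using 1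
  ring

end Cfsg.Agent.Lib.Helper16.Cover2
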