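import Mathlib
import Cfsg.Prelude.Def_Blocks
import Cfsg.Agent.Lib.Helper16.Defect
import Cfsg.Agent.Lib.Helper81.SemiChar
import Cfsg.Agent.Lib.CT.LinChar
import Cfsg.Agent.Lib.CT.DefectZeroBlock

/-!
# Character values on `p`-sections

* `memLocalIdeal_sub_one_of_pow_eq_one`: `ζ - 1` lies in the local ideal for a `p`-power root of
  unity `ζ`.
* `char_mul_sub_mem`: `χ(xy) ≡ χ(y)` modulo the local ideal for a `p`-element `x` commuting
  with `y`.
* `factorization_card_centralizer_of_isDefectClass`: `ν_p |C(g)| = d(B)` for a defect class.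
* `factorization_charDegree_of_height_zero`.
* `not_memLocalIdeal_apply_of_height_zero`, `not_memLocalIdeal_centralChar_mul` (S0927).
-/

set_option autoImplicit false

namespace Cfsg.Agent.Lib.Helper16.PSection

open Cfsg Cfsg.Agent.Lib.Helper77.LocalRing Cfsg.Agent.Lib.Helper77.CentralChar
  Cfsg.Agent.Lib.Helper77.ClassSum Cfsg.Agent.Lib.Helper77.BlockIdem
  Cfsg.Agent.Lib.Helper16.ZR Cfsg.Agent.Lib.CT.Wedderburn Cfsg.Agent.Lib.Helper16.MinMax
  Cfsg.Agent.Lib.Helper16.Defect Cfsg.Agent.Lib.CT.LinChar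
open scoped ComplexConjugate

universe u
variable {G : Type u} [Group G] {M : Ideal AlgInt}

/-- `ζ - 1` lies in the local ideal for a `p`-power root of unity `ζ`. -/
theorem memLocalIdeal_sub_one_of_pow_eq_one {p : ℕ} (hM : IsPModular p M) (ζ : ℂ) (k : ℕ)
    (h : ζ ^ p ^ k = 1) : MemLocalIdeal M (ζ - 1) := by
  have hMp := isPrime_of_isPModular hM
  have hp := hM.1
  have hint : IsIntegral ℤ ζ := by
    refine ⟨Polynomial.X ^ (p ^ k) - 1, Polynomial.monic_X_pow_sub_C 1 (pow_pos hp.pos k).ne', ?_⟩
    simp [h]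
  let z : AlgInt := ⟨ζ, hint⟩
  have hz : z ^ p ^ k = 1 := Subtype.ext (by simpa using h)
  obtain ⟨r, hr⟩ := exists_add_pow_prime_pow_eq hp (z - 1) 1 k
  rw [sub_add_cancel, hz, one_pow] at hr
  have h1 : (z - 1) ^ p ^ k = -((p : AlgInt) * (z - 1) * 1 * r) := by
    linear_combination -hr
  have h2 : (z - 1) ^ p ^ k ∈ M := by
    rw [h1]
    apply M.neg_mem
    rw [mul_assoc, mul_assoc]
    exact M.mul_mem_right _ hM.2.2
  have h3 : z - 1 ∈ M := hMp.mem_of_pow_mem _ h2
  have h4 := memLocalIdeal_algInt hMp h3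
  simpa [z] using h4

/-- `χ(xy) ≡ χ(y)` modulo the local ideal, for a `p`-element `x` commuting with `y`. -/
theorem char_mul_sub_mem [Finite G] {p : ℕ} (hM : IsPModular p M) {χ : G → ℂ}
    (hχ : IsCharacter G χ) (x y : G) (hxy : Commute x y) (k : ℕ) (hx : x ^ p ^ k = 1) :
    MemLocalIdeal M (χ (x * y) - χ y) := by
  classical
  have hMp := isPrime_of_isPModular hM
  have hS : ({x, y} : Set G) ⊆ Subgroup.centralizer ({x, y} : Set G) := by
    intro a ha
    rw [SetLike.mem_coe, Subgroup.mem_centralizer_iff]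
    intro b hb
    rcases ha with rfl | rfl <;> rcases hb with rfl | rfl
    · rfl
    · exact hxy.eq.symm
    · exact hxy.eq
    · rfl
  have hA : ∀ a b : Subgroup.closure ({x, y} : Set G), a * b = b * a := by
    intro a b
    have h1 : Subgroup.closure ({x, y} : Set G) ≤ Subgroup.centralizer
        ((Subgroup.closure ({x, y} : Set G) : Subgroup G) : Set G) := by
      rw [Subgroup.centralizer_closure]
      exact (Subgroup.closure_le _).mpr hS
    have h2 := Subgroup.mem_centralizer_iff.mp (h1 b.2) a a.2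
    exact Subtype.ext h2
  cases nonempty_fintype G
  let _ : Fintype (Subgroup.closure ({x, y} : Set G)) := Fintype.ofFinite _
  have hfin := finite_irrCharacter (Subgroup.closure ({x, y} : Set G))
  let _ := Fintype.ofFinite (IrrCharacter (Subgroup.closure ({x, y} : Set G)))
  have hres : IsCharacter (Subgroup.closure ({x, y} : Set G))
      (fun a : Subgroup.closure ({x, y} : Set G) => χ a) :=
    Cfsg.Agent.Lib.CT.Ops.isCharacter_restrict _ hχ
  have hexp := Cfsg.Agent.Lib.CT.Orth.classFunction_expand_sum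
    (fun a : Subgroup.closure ({x, y} : Set G) => χ a) (char_isClassFunction hres)
  have hnat : ∀ μ : IrrCharacter (Subgroup.closure ({x, y} : Set G)), ∃ m : ℕ,
      classInner (fun a : Subgroup.closure ({x, y} : Set G) => χ a) μ.1 = m :=
    fun μ => Cfsg.Agent.Lib.CT.Clifford.classInner_char_nat hres (isCharacter_of_irr μ.2)
  choose m hm using hnat
  let xa : Subgroup.closure ({x, y} : Set G) := ⟨x, Subgroup.subset_closure (by simp)⟩
  let ya : Subgroup.closure ({x, y} : Set G) := ⟨y, Subgroup.subset_closure (by simp)⟩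
  have hlin : ∀ μ : IrrCharacter (Subgroup.closure ({x, y} : Set G)), μ.1 1 = 1 :=
    fun μ => Cfsg.Agent.Lib.Helper81.SemiChar.abelian_linear hA μ
  have e1 := hexp (xa * ya)
  have e2 := hexp ya
  have h3 : χ (x * y) - χ y = ∑ μ : IrrCharacter (Subgroup.closure ({x, y} : Set G)),
      (m μ : ℂ) * ((μ.1 xa - 1) * μ.1 ya) := by
    have e3 : χ (x * y) = χ ((xa * ya : Subgroup.closure ({x, y} : Set G)) : G) := rfl
    have e4 : χ y = χ ((ya : Subgroup.closure ({x, y} : Set G)) : G) := rfl
    rw [e3, e4, e1, e2, ← Finset.sum_sub_distrib]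
    apply Finset.sum_congr rfl
    intro μ _
    rw [hm, linear_mul (isCharacter_of_irr μ.2) (hlin μ) xa ya]
    ring
  rw [h3]
  apply memLocalIdeal_sum hMp
  intro μ _
  apply memLocalIdeal_mul_left hMp (memLocalRing_natCast hMp _)
  apply memLocalIdeal_mul_right hMp
  · apply memLocalIdeal_sub_one_of_pow_eq_one hM _ k
    rw [← linear_pow (isCharacter_of_irr μ.2) (hlin μ) xa (p ^ k)]
    have h4 : xa ^ p ^ k = 1 := Subtype.ext (by
      rw [Subgroup.coe_pow]
      exact hx)
    rw [h4]
    exact hlin μ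
  · exact memLocalRing_of_isIntegral hMp
      (Cfsg.Agent.Lib.Helper80.Integrality.isIntegral_of_isCharacter (isCharacter_of_irr μ.2) ya)

/-- `ν_p |C(g)| = d(B)` for a defect class `g` of `B`. -/
theorem factorization_card_centralizer_of_isDefectClass [Finite G] (p : ℕ) [Fact p.Prime]
    (hM : IsPModular p M) (B : Set (IrrCharacter G)) (hB : IsPBlock M B) (g : G)
    (hg : IsDefectClass M B g) :
    (Nat.card (Subgroup.centralizer ({g} : Set G))).factorization p = blockDefect p B := by
  have hp : p.Prime := Fact.out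
  obtain ⟨P⟩ : Nonempty (Sylow p (Subgroup.centralizer ({g} : Set G))) := inferInstance
  have hD : IsDefectGroup p M B
      ((P : Subgroup _).map (Subgroup.centralizer ({g} : Set G)).subtype) := ⟨g, hg, P, rfl⟩
  have h1 := card_defectGroup p hM B hB _ hD
  rw [Subgroup.card_map_of_injective (Subgroup.subtype_injective _), P.card_eq_multiplicity] at h1
  exact Nat.pow_right_injective hp.two_le h1

/-- The `p`-part of the degree of a height-zero character of `B` is the `p`-part of the size
of a defect class. -/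
theorem factorization_charDegree_of_height_zero [Finite G] (p : ℕ) [Fact p.Prime]
    (hM : IsPModular p M) (B : Set (IrrCharacter G)) (hB : IsPBlock M B) (g : G)
    (hg : IsDefectClass M B g) (χ : IrrCharacter G) (hχ : χ ∈ B)
    (hht : blockHeight p B (χ : G → ℂ) = 0) :
    (charDegree (χ : G → ℂ)).factorization p
      = ((Subgroup.centralizer ({g} : Set G)).index).factorization p := by
  apply le_antisymm _ (factorization_index_le_charDegree hM χ g (hg.2.2 χ hχ))
  have h1 := factorization_card_centralizer_of_isDefectClass p hM B hB g hg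
  have hmul : (Subgroup.centralizer ({g} : Set G)).index
      * Nat.card (Subgroup.centralizer ({g} : Set G)) = Nat.card G := Subgroup.index_mul_card _
  have hidx0 : (Subgroup.centralizer ({g} : Set G)).index ≠ 0 := Subgroup.index_ne_zero_of_finite
  have hC0 : Nat.card (Subgroup.centralizer ({g} : Set G)) ≠ 0 := Nat.card_pos.ne'
  have hfac : ((Subgroup.centralizer ({g} : Set G)).index).factorization p
      + (Nat.card (Subgroup.centralizer ({g} : Set G))).factorization p
      = (Nat.card G).factorization p := by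
    rw [← hmul, Nat.factorization_mul hidx0 hC0, Finsupp.add_apply]
  have h2 : sInf ((fun χ : IrrCharacter G => (charDegree (χ : G → ℂ)).factorization p) '' B)
      ≤ (charDegree (χ : G → ℂ)).factorization p := Nat.sInf_le (Set.mem_image_of_mem _ hχ)
  have h3 := Cfsg.Agent.Lib.CT.DefectZeroBlock.factorization_charDegree_le p χ
  unfold blockHeight at hht
  unfold blockDefect at h1
  omega

theorem exists_height_zero (p : ℕ) (B : Set (IrrCharacter G)) (χ : IrrCharacter G)
    (hχ : χ ∈ B) : ∃ χ₀ ∈ B, blockHeight p B (χ₀ : G → ℂ) = 0 := by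
  have h1 : sInf ((fun χ : IrrCharacter G => (charDegree (χ : G → ℂ)).factorization p) '' B)
      ∈ (fun χ : IrrCharacter G => (charDegree (χ : G → ℂ)).factorization p) '' B :=
    Nat.sInf_mem ⟨_, Set.mem_image_of_mem _ hχ⟩
  obtain ⟨χ₀, hχ₀, h2⟩ := h1
  refine ⟨χ₀, hχ₀, ?_⟩
  have h2' : (charDegree (χ₀ : G → ℂ)).factorization p
      = sInf ((fun χ : IrrCharacter G => (charDegree (χ : G → ℂ)).factorization p) '' B) := h2
  unfold blockHeight
  rw [h2', Nat.sub_self]

/-- A height-zero character of `B` does not vanish modulo the local ideal on the `p`-section of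
a defect class. -/
theorem not_memLocalIdeal_apply_of_height_zero [Finite G] (p : ℕ) [Fact p.Prime]
    (hM : IsPModular p M) (B : Set (IrrCharacter G)) (hB : IsPBlock M B) (y : G)
    (hy : IsDefectClass M B y) (x : G) (hxy : Commute x y) (k : ℕ) (hx : x ^ p ^ k = 1)
    (χ : IrrCharacter G) (hχ : χ ∈ B) (hht : blockHeight p B (χ : G → ℂ) = 0) :
    ¬ MemLocalIdeal M ((χ : G → ℂ) (x * y)) := by
  have hMp := isPrime_of_isPModular hM
  have hfac := factorization_charDegree_of_height_zero p hM B hB y hy χ hχ hht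
  have hdeg0 : charDegree (χ : G → ℂ) ≠ 0 := (irr_charDegree_pos χ.2).ne'
  have hq : MemLocalRing M (((Subgroup.centralizer ({y} : Set G)).index : ℂ)
      / (charDegree (χ : G → ℂ) : ℂ)) :=
    natCast_div_memLocalRing hM _ _ hdeg0 (by rw [hfac]; exact Nat.ordProj_dvd _ _)
  have hχy : ¬ MemLocalIdeal M ((χ : G → ℂ) y) := by
    intro h
    apply hy.2.2 χ hχ
    have h1 : centralChar (χ : G → ℂ) y = (((Subgroup.centralizer ({y} : Set G)).index : ℂ)
        / (charDegree (χ : G → ℂ) : ℂ)) * (χ : G → ℂ) y := by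
      unfold centralChar
      rw [char_natCast_charDegree (isCharacter_of_irr χ.2)]
      have h10 := irr_one_ne_zero χ.2
      field_simp
    rw [h1]
    exact memLocalIdeal_mul_left hMp hq h
  intro h
  apply hχy
  have h1 := char_mul_sub_mem hM (isCharacter_of_irr χ.2) x y hxy k hx
  have h2 := memLocalIdeal_sub hMp h h1
  rwa [sub_sub_cancel] at h2

/-- The central characters of the members of `B` are units on `x y`, for `y` a defect class
and `x` central in a Sylow `p`-subgroup `D` of `C(y)`. -/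
theorem not_memLocalIdeal_centralChar_mul [Finite G] (p : ℕ) [Fact p.Prime]
    (hM : IsPModular p M) (B : Set (IrrCharacter G)) (hB : IsPBlock M B) (y : G)
    (hy : IsDefectClass M B y) (D : Subgroup G)
    (hD : Cfsg.Agent.Lib.Helper33.Conj.IsSylIn p D (Subgroup.centralizer ({y} : Set G)))
    (x : G) (hxD : x ∈ D) (hxc : ∀ w ∈ D, x * w = w * x) (χ : IrrCharacter G) (hχ : χ ∈ B) :
    ¬ MemLocalIdeal M (centralChar (χ : G → ℂ) (x * y)) := by
  have hp : p.Prime := Fact.out
  have hMp := isPrime_of_isPModular hM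
  have hxy : Commute x y := (mem_centralizer_singleton.mp (hD.1 hxD)).symm
  obtain ⟨k, hk⟩ := hD.2.1 ⟨x, hxD⟩
  have hx : x ^ p ^ k = 1 := by
    have h1 := congrArg Subtype.val hk
    rw [Subgroup.coe_pow] at h1
    exact h1
  have hyreg : ¬ p ∣ orderOf y := by
    intro h
    apply hy.2.1
    rw [Cfsg.Agent.Lib.Helper77.OsimaVanish.blockCoeff_eq_zero_of_singular p M hM B hB y h]
    exact memLocalIdeal_zero hMp
  -- `C(xy) ≤ C(y)`
  obtain ⟨c, hc⟩ := exists_pow_eq_self_of_coprime (x := y) (n := p ^ k)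
    (Nat.Coprime.pow_left k ((Nat.Prime.coprime_iff_not_dvd hp).mpr hyreg))
  have hpow : ((x * y) ^ p ^ k) ^ c = y := by
    rw [hxy.mul_pow, hx, one_mul, hc]
  have hle : Subgroup.centralizer ({x * y} : Set G) ≤ Subgroup.centralizer ({y} : Set G) := by
    intro w hw
    rw [mem_centralizer_singleton] at hw ⊢
    have h1 : Commute (x * y) w := hw
    have h2 : Commute (((x * y) ^ p ^ k) ^ c) w := (h1.pow_left _).pow_left _
    rw [hpow] at h2
    exact h2
  have hDle : D ≤ Subgroup.centralizer ({x * y} : Set G) := by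
    intro w hw
    rw [mem_centralizer_singleton]
    have h1 : y * w = w * y := mem_centralizer_singleton.mp (hD.1 hw)
    calc x * y * w = x * (y * w) := mul_assoc _ _ _
      _ = x * (w * y) := by rw [h1]
      _ = (x * w) * y := (mul_assoc _ _ _).symm
      _ = (w * x) * y := by rw [hxc w hw]
      _ = w * (x * y) := mul_assoc _ _ _
  have hidx := Subgroup.relIndex_mul_index hle
  have hpt : ¬ p ∣ (Subgroup.centralizer ({x * y} : Set G)).relIndex
      (Subgroup.centralizer ({y} : Set G)) := by
    intro h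
    apply hD.2.2
    rw [← Subgroup.relIndex_mul_relIndex D _ _ hDle hle]
    exact h.mul_left _
  obtain ⟨χ₀, hχ₀, hht⟩ := exists_height_zero p B χ hχ
  have hfac := factorization_charDegree_of_height_zero p hM B hB y hy χ₀ hχ₀ hht
  have hdeg0 : charDegree (χ₀ : G → ℂ) ≠ 0 := (irr_charDegree_pos χ₀.2).ne'
  have hidx0 : (Subgroup.centralizer ({y} : Set G)).index ≠ 0 := Subgroup.index_ne_zero_of_finite
  have hq : MemLocalRing M (((Subgroup.centralizer ({y} : Set G)).index : ℂ)
      / (charDegree (χ₀ : G → ℂ) : ℂ)) :=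
    natCast_div_memLocalRing hM _ _ hdeg0 (by rw [hfac]; exact Nat.ordProj_dvd _ _)
  have hqinv : MemLocalRing M ((charDegree (χ₀ : G → ℂ) : ℂ)
      / ((Subgroup.centralizer ({y} : Set G)).index : ℂ)) :=
    natCast_div_memLocalRing hM _ _ hidx0 (by rw [← hfac]; exact Nat.ordProj_dvd _ _)
  have hq' : ¬ MemLocalIdeal M (((Subgroup.centralizer ({y} : Set G)).index : ℂ)
      / (charDegree (χ₀ : G → ℂ) : ℂ)) := by
    intro h
    have h1 := memLocalIdeal_mul_right hMp h hqinv
    have h2 : ((Subgroup.centralizer ({y} : Set G)).index : ℂ) / (charDegree (χ₀ : G → ℂ) : ℂ)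
        * ((charDegree (χ₀ : G → ℂ) : ℂ) / ((Subgroup.centralizer ({y} : Set G)).index : ℂ))
        = 1 := by
      have ha : ((Subgroup.centralizer ({y} : Set G)).index : ℂ) ≠ 0 := Nat.cast_ne_zero.mpr hidx0
      have hb : (charDegree (χ₀ : G → ℂ) : ℂ) ≠ 0 := Nat.cast_ne_zero.mpr hdeg0
      field_simp
    rw [h2] at h1
    exact not_memLocalIdeal_one hMp h1
  have hv := not_memLocalIdeal_apply_of_height_zero p hM B hB y hy x hxy k hx χ₀ hχ₀ hht
  have ht : ¬ MemLocalIdeal M (((Subgroup.centralizer ({x * y} : Set G)).relIndex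
      (Subgroup.centralizer ({y} : Set G)) : ℕ) : ℂ) := by
    rw [memLocalIdeal_natCast_iff hM]
    exact hpt
  have hcc : centralChar (χ₀ : G → ℂ) (x * y)
      = (((Subgroup.centralizer ({x * y} : Set G)).relIndex
          (Subgroup.centralizer ({y} : Set G)) : ℕ) : ℂ)
        * ((((Subgroup.centralizer ({y} : Set G)).index : ℂ)
          / (charDegree (χ₀ : G → ℂ) : ℂ)) * (χ₀ : G → ℂ) (x * y)) := by
    unfold centralChar
    rw [← hidx, char_natCast_charDegree (isCharacter_of_irr χ₀.2)]
    have h10 := irr_one_ne_zero χ₀.2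
    push_cast
    field_simp
  have h0 : ¬ MemLocalIdeal M (centralChar (χ₀ : G → ℂ) (x * y)) := by
    rw [hcc]
    exact not_memLocalIdeal_mul hMp (memLocalRing_natCast hMp _) ht
      (not_memLocalIdeal_mul hMp hq hq' hv)
  intro h
  apply h0
  have hs := sameBlock_of_mem hMp hB hχ₀ hχ (x * y)
  have h3 := memLocalIdeal_add hMp hs h
  rwa [sub_add_cancel] at h3

end Cfsg.Agent.Lib.Helper16.PSection
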