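import Mathlib
import Cfsg.Prelude.Def_Blocks
import Cfsg.Agent.Lib.Helper16.PSection
import Cfsg.Agent.Lib.Helper16.Idem
import Cfsg.Agent.Lib.Helper16.QuotP
import Cfsg.Agent.Lib.Helper16.NormalP
import Cfsg.Agent.Lib.Helper16.IndBlock
import Cfsg.Agent.Lib.Helper16.Induced
import Cfsg.Agent.Lib.CT.Kernel
import Cfsg.Agent.Lib.CT.SectionOrth

/-!
# Classes on which a block's central character is a unit

* `blockDefect_le_of_induced`: `d(b) ≤ d(b^G)`.
* `not_dvd_orderOf_mk`: a character trivial on the normal subgroup `N` and of full `p`-defect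
  modulo `N` vanishes outside the elements that are `p`-regular modulo `N`.
* `centralizes_and_pRegular_mod`: for a normal `p`-subgroup `Q` with `d(B) ≤ ν_p|Q|`, an element
  where the central character of `B` is a unit centralizes `Q` and is `p`-regular modulo `Q`.
* `exists_conj_centralizing` (S0929): a class where the central character of `B` is a unit has a
  member centralizing the defect group `P`, with `p`-part in `Z(P)`.
-/

set_option autoImplicit false

namespace Cfsg.Agent.Lib.Helper16.NormalDefect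

open Cfsg Cfsg.Agent.Lib.Helper77.LocalRing Cfsg.Agent.Lib.Helper77.CentralChar
  Cfsg.Agent.Lib.Helper16.ZR Cfsg.Agent.Lib.CT.Wedderburn Cfsg.Agent.Lib.Helper16.MinMax
  Cfsg.Agent.Lib.Helper16.Defect Cfsg.Agent.Lib.Helper16.IndBlock
  Cfsg.Agent.Lib.Helper16.Idem Cfsg.Agent.Lib.Helper16.QuotP Cfsg.Agent.Lib.Helper33.Conj

universe u
variable {G : Type u} [Group G] {M : Ideal AlgInt}

/-- `d(b) ≤ d(b^G)`. -/
theorem blockDefect_le_of_induced [Finite G] (p : ℕ) [Fact p.Prime] (hM : IsPModular p M)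
    (H : Subgroup G) (b : Set (IrrCharacter H)) (B : Set (IrrCharacter G))
    (hind : IsInducedBlock M H b B) : blockDefect p b ≤ blockDefect p B := by
  have hp : p.Prime := Fact.out
  obtain ⟨D, hD⟩ := exists_defectGroup hM b hind.1
  obtain ⟨E, hE, hDE⟩ := defectGroup_le_of_induced hM H b B hind D hD
  have h1 := card_defectGroup p hM b hind.1 D hD
  have h2 := card_defectGroup p hM B hind.2.1 E hE
  have h3 : Nat.card (D.map H.subtype) = Nat.card D :=
    Subgroup.card_map_of_injective (Subgroup.subtype_injective _)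
  have h4 : Nat.card (D.map H.subtype) ≤ Nat.card E := Subgroup.card_le_of_le hDE
  rw [h3, h1, h2] at h4
  exact (Nat.pow_le_pow_iff_right hp.one_lt).mp h4

/-- A character trivial on the normal subgroup `N` and of full `p`-defect modulo `N` vanishes
outside the elements that are `p`-regular modulo `N`. -/
theorem not_dvd_orderOf_mk [Finite G] {p : ℕ} [Fact p.Prime] (hM : IsPModular p M)
    (N : Subgroup G) [N.Normal] (χ : IrrCharacter G)
    (hN : ∀ n ∈ N, (χ : G → ℂ) n = (χ : G → ℂ) 1)
    (hdeg : (Nat.card G).factorization p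
      ≤ (charDegree (χ : G → ℂ)).factorization p + (Nat.card N).factorization p)
    (g : G) (hg : (χ : G → ℂ) g ≠ 0) : ¬ p ∣ orderOf (g : G ⧸ N) := by
  obtain ⟨χbar, hirr, hval⟩ := Cfsg.Agent.Lib.CT.Kernel.exists_quotient_irr N χ.2 hN
  have hdeg' : charDegree χbar = charDegree (χ : G → ℂ) := by
    unfold charDegree
    rw [← hval 1]
    rfl
  have hcard := Subgroup.card_eq_card_quotient_mul_card_subgroup N
  have hq0 : Nat.card (G ⧸ N) ≠ 0 := Nat.card_pos.ne'
  have hn0 : Nat.card N ≠ 0 := Nat.card_pos.ne'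
  have hfac : (Nat.card G).factorization p
      = (Nat.card (G ⧸ N)).factorization p + (Nat.card N).factorization p := by
    rw [hcard, Nat.factorization_mul hq0 hn0, Finsupp.add_apply]
  have hle := Cfsg.Agent.Lib.CT.DefectZeroBlock.factorization_charDegree_le p
    (⟨χbar, hirr⟩ : IrrCharacter (G ⧸ N))
  have heq : (charDegree ((⟨χbar, hirr⟩ : IrrCharacter (G ⧸ N)) : G ⧸ N → ℂ)).factorization p
      = (Nat.card (G ⧸ N)).factorization p := by
    have h1 : charDegree ((⟨χbar, hirr⟩ : IrrCharacter (G ⧸ N)) : G ⧸ N → ℂ)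
        = charDegree (χ : G → ℂ) := hdeg'
    rw [h1] at hle ⊢
    omega
  intro hdvd
  apply hg
  rw [← hval g]
  exact Cfsg.Agent.Lib.CT.DefectZeroBlock.irr_eq_zero_of_defect_zero hM
    (⟨χbar, hirr⟩ : IrrCharacter (G ⧸ N)) heq _ hdvd

/-- For a normal `p`-subgroup `Q` with `d(B) ≤ ν_p|Q|`, an element where the central character
of `B` is a unit centralizes `Q` and is `p`-regular modulo `Q`. -/
theorem centralizes_and_pRegular_mod [Finite G] (p : ℕ) [Fact p.Prime] (hM : IsPModular p M)
    (B : Set (IrrCharacter G)) (hB : IsPBlock M B) (Q : Subgroup G) [hQn : Q.Normal]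
    (hQ : IsPGroup p Q) (hd : blockDefect p B ≤ (Nat.card Q).factorization p) (g : G)
    (hg : ∃ χ ∈ B, ¬ MemLocalIdeal M (centralChar (χ : G → ℂ) g)) :
    g ∈ Subgroup.centralizer (Q : Set G) ∧ ¬ p ∣ orderOf (g : G ⧸ Q) := by
  have hMp := isPrime_of_isPModular hM
  obtain ⟨χ, hχ, hχg⟩ := hg
  refine ⟨?_, ?_⟩
  · by_contra h
    exact hχg (Cfsg.Agent.Lib.Helper16.NormalP.centralChar_mem_of_not_centralizer p M hM Q hQ
      (χ : G → ℂ) χ.2 g h)
  · obtain ⟨θ, hθ, hθQ⟩ := exists_trivial_on_normal_pGroup p hM B hB Q hQn hQ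
    have hs := sameBlock_of_mem hMp hB hχ hθ g
    have hθg : ¬ MemLocalIdeal M (centralChar (θ : G → ℂ) g) := by
      intro h
      apply hχg
      have h3 := memLocalIdeal_add hMp hs h
      rwa [sub_add_cancel] at h3
    have hne : (θ : G → ℂ) g ≠ 0 := by
      intro h0
      apply hθg
      unfold centralChar
      rw [h0, mul_zero, zero_div]
      exact memLocalIdeal_zero hMp
    apply not_dvd_orderOf_mk hM Q θ hθQ ?_ g hne
    have h2 : sInf ((fun χ : IrrCharacter G => (charDegree (χ : G → ℂ)).factorization p) '' B)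
        ≤ (charDegree (θ : G → ℂ)).factorization p := Nat.sInf_le (Set.mem_image_of_mem _ hθ)
    unfold blockDefect at hd
    omega

/-- A `p`-element that is a power of an element `p`-regular modulo `N` lies in `N`. -/
theorem pow_mem_of_not_dvd_orderOf_mk {p : ℕ} (hp : p.Prime) (N : Subgroup G) [N.Normal] (g : G)
    (hg : ¬ p ∣ orderOf (g : G ⧸ N)) (e k : ℕ) (h : orderOf (g ^ e) = p ^ k) : g ^ e ∈ N := by
  rw [← QuotientGroup.eq_one_iff]
  have h1 : orderOf ((g ^ e : G) : G ⧸ N) ∣ p ^ k := by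
    rw [← h]
    exact orderOf_map_dvd (QuotientGroup.mk' N) (g ^ e)
  have h2 : orderOf ((g ^ e : G) : G ⧸ N) ∣ orderOf (g : G ⧸ N) := by
    rw [QuotientGroup.mk_pow]
    exact orderOf_pow_dvd e
  obtain ⟨j, -, hj2⟩ := (Nat.dvd_prime_pow hp).mp h1
  rcases j with _ | j
  · rw [pow_zero] at hj2
    exact orderOf_eq_one_iff.mp hj2
  · exfalso
    apply hg
    exact dvd_trans (by rw [hj2]; exact dvd_pow_self p (Nat.succ_ne_zero j)) h2

/-- A class on which the central character of `B` is a unit has a member centralizing the defect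
group `P` and with `p`-part in `Z(P)`. -/
theorem exists_conj_centralizing [Finite G] (p : ℕ) [Fact p.Prime] (hM : IsPModular p M)
    (B : Set (IrrCharacter G)) (hB : IsPBlock M B) (P : Subgroup G)
    (hP : IsDefectGroup p M B P) (g : G)
    (hg : ∃ χ ∈ B, ¬ MemLocalIdeal M (centralChar (χ : G → ℂ) g)) :
    ∃ x : G, IsConj g x ∧ x ∈ Subgroup.centralizer (P : Set G) ∧
      ∀ z : G, IsPPart p x z → z ∈ P ∧ ∀ w ∈ P, z * w = w * z := by
  classical
  have hp : p.Prime := Fact.out
  have hMp := isPrime_of_isPModular hM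
  obtain ⟨y, hy, hsyl⟩ := isDefectGroup_iff.mp hP
  have hPp : IsPGroup p P := hsyl.2.1
  have hPH : P ≤ Subgroup.normalizer (P : Set G) := Subgroup.le_normalizer
  have hCH : Subgroup.centralizer (P : Set G) ≤ Subgroup.normalizer (P : Set G) :=
    Subgroup.centralizer_le_normalizer _
  have hn : (P.subgroupOf (Subgroup.normalizer (P : Set G))).Normal :=
    (Subgroup.normal_subgroupOf_iff_le_normalizer hPH).mpr le_rfl
  obtain ⟨b, hind⟩ := exists_induced_of_le_defect p hM P (Subgroup.normalizer (P : Set G)) hPp hPH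
    hCH le_rfl B hB P hP 1 (by rw [cj_one])
  have hdb := blockDefect_le_of_induced p hM _ b B hind
  have hcardP := card_defectGroup p hM B hB P hP
  have hcardQ : Nat.card (P.subgroupOf (Subgroup.normalizer (P : Set G))) = Nat.card P :=
    Nat.card_congr (Subgroup.subgroupOfEquivOfLe hPH).toEquiv
  have hd : blockDefect p b
      ≤ (Nat.card (P.subgroupOf (Subgroup.normalizer (P : Set G)))).factorization p := by
    rw [hcardQ, hcardP, Nat.Prime.factorization_pow hp, Finsupp.single_eq_same]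
    exact hdb
  obtain ⟨χ, hχ, hχg⟩ := hg
  obtain ⟨ξ, hξ⟩ := isPBlock_nonempty hMp hind.1
  have hi : ¬ MemLocalIdeal M
      (inducedCentralChar (Subgroup.normalizer (P : Set G)) (ξ : _ → ℂ) g) := by
    intro h
    apply hχg
    have h1 := hind.2.2 ξ hξ χ hχ g
    have h2 := memLocalIdeal_sub hMp h h1
    rwa [sub_sub_cancel] at h2
  obtain ⟨R, hR, hsum⟩ := Cfsg.Agent.Lib.Helper16.Induced.inducedCentralChar_eq_sum_reps
    (Subgroup.normalizer (P : Set G)) g
  have hcf : ∀ x k : Subgroup.normalizer (P : Set G),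
      (ξ : _ → ℂ) (k * x * k⁻¹) = (ξ : _ → ℂ) x := fun x k =>
    char_isClassFunction (isCharacter_of_irr ξ.2) x k
  rw [hsum _ hcf] at hi
  have hex : ∃ r ∈ R, ¬ MemLocalIdeal M (centralChar (ξ : _ → ℂ) r) := by
    by_contra hcon
    push Not at hcon
    exact hi (memLocalIdeal_sum hMp _ _ hcon)
  obtain ⟨r, hrR, hr⟩ := hex
  have hmain := centralizes_and_pRegular_mod p hM b hind.1
    (P.subgroupOf (Subgroup.normalizer (P : Set G))) hPp.comap_subtype hd r ⟨ξ, hξ, hr⟩
  have hcomm : ∀ w ∈ P, w * (r : G) = (r : G) * w := by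
    intro w hw
    have h1 := Subgroup.mem_centralizer_iff.mp hmain.1 ⟨w, hPH hw⟩ (Subgroup.mem_subgroupOf.mpr hw)
    exact congrArg Subtype.val h1
  refine ⟨(r : G), hR r hrR, ?_, ?_⟩
  · rw [Subgroup.mem_centralizer_iff]
    exact hcomm
  · intro z hz
    obtain ⟨e, he⟩ := Cfsg.Agent.Lib.CT.SectionOrth.isPPart_exists_pow hp hz
    obtain ⟨y', -, -, ⟨k, hk⟩, -⟩ := hz
    have hord : orderOf (r ^ e) = p ^ k := by
      rw [← hk, he, ← Subgroup.orderOf_coe, Subgroup.coe_pow]
    have hmem := pow_mem_of_not_dvd_orderOf_mk hp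
      (P.subgroupOf (Subgroup.normalizer (P : Set G))) r hmain.2 e k hord
    refine ⟨?_, ?_⟩
    · rw [he]
      have h1 := Subgroup.mem_subgroupOf.mp hmem
      rwa [Subgroup.coe_pow] at h1
    · intro w hw
      rw [he]
      have h1 : Commute (r : G) w := (hcomm w hw).symm
      exact (h1.pow_left e).eq

end Cfsg.Agent.Lib.Helper16.NormalDefect
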