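import Mathlib
import Cfsg.Agent.Lib.Helper16.MinMax

/-!
# Sylow fusion of classes with a given defect group

`IsSylIn p P C` is the predicate of `Cfsg.Agent.Lib.Helper33.Conj`.

* `isSylIn_of_le_of_card`: a `p`-subgroup of `H` of the order of a Sylow `p`-subgroup is one.
* `isSylIn_centralizer_of_isConj`: if `P` is Sylow in `C(g)` and `c ∼ g` centralizes `P`, then
  `P` is Sylow in `C(c)`.
* `exists_normalizer_conj`: conjugate elements in whose centralizers `P` is Sylow are conjugate
  under `N(P)`.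
* `isSylIn_of_inf_normalizer`: `P` Sylow in `C ⊓ N(P)` implies `P` Sylow in `C`.
-/

set_option autoImplicit false

namespace Cfsg.Agent.Lib.Helper16.SylFusion

open Cfsg Cfsg.Agent.Lib.Helper33.Conj Cfsg.Agent.Lib.Helper16.MinMax

universe u
variable {G : Type u} [Group G] {p : ℕ} [Fact p.Prime]

/-- A `p`-subgroup of `H` of the order of a Sylow `p`-subgroup of `H` is one. -/
theorem isSylIn_of_le_of_card [Finite G] {R H Q : Subgroup G} (h : IsSylIn p R H) (hQH : Q ≤ H)
    (hQ : IsPGroup p Q) (hcard : Nat.card Q = Nat.card R) : IsSylIn p Q H := by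
  obtain ⟨x, hxH, hx⟩ := h.exists_cj_le hQH hQ
  have heq : Q.map (MulAut.conj x).toMonoidHom = R := by
    apply Subgroup.eq_of_le_of_card_ge hx
    rw [card_cj, hcard]
  have h2 := h.cj x⁻¹
  rw [← heq, cj_inv_cj, cj_eq_self_of_mem (H.inv_mem hxH)] at h2
  exact h2

/-- If `P` is Sylow in `C(g)` and the conjugate `c` of `g` centralizes `P`, then `P` is Sylow in
`C(c)`. -/
theorem isSylIn_centralizer_of_isConj [Finite G] {P : Subgroup G} {g c : G}
    (h : IsSylIn p P (Subgroup.centralizer ({g} : Set G))) (hc : IsConj g c)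
    (hcP : c ∈ Subgroup.centralizer (P : Set G)) :
    IsSylIn p P (Subgroup.centralizer ({c} : Set G)) := by
  obtain ⟨a, ha⟩ := isConj_iff.mp hc
  have h2 := h.cj a
  rw [← centralizer_conj, ha] at h2
  refine isSylIn_of_le_of_card h2 ?_ h.2.1 (card_cj a P).symm
  intro w hw
  rw [mem_centralizer_singleton]
  exact (Subgroup.mem_centralizer_iff.mp hcP w hw).symm

/-- Conjugate elements in whose centralizers `P` is Sylow are conjugate under `N(P)`. -/
theorem exists_normalizer_conj [Finite G] {P : Subgroup G} {c₁ c₂ : G}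
    (h1 : IsSylIn p P (Subgroup.centralizer ({c₁} : Set G)))
    (h2 : IsSylIn p P (Subgroup.centralizer ({c₂} : Set G))) (hc : IsConj c₁ c₂) :
    ∃ n ∈ Subgroup.normalizer (P : Set G), n * c₁ * n⁻¹ = c₂ := by
  obtain ⟨t, ht⟩ := isConj_iff.mp hc
  have h3 := h1.cj t
  rw [← centralizer_conj, ht] at h3
  obtain ⟨u, hu, hu2⟩ := h2.exists_cj_eq h3
  rw [cj_cj] at hu2
  refine ⟨u * t, mem_normalizer_iff_cj_eq.mpr hu2, ?_⟩
  have h4 : c₂ * u = u * c₂ := mem_centralizer_singleton.mp hu
  calc u * t * c₁ * (u * t)⁻¹ = u * (t * c₁ * t⁻¹) * u⁻¹ := by group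
    _ = u * c₂ * u⁻¹ := by rw [ht]
    _ = c₂ * u * u⁻¹ := by rw [h4]
    _ = c₂ := by group

/-- `P` Sylow in `C ⊓ N(P)` implies `P` Sylow in `C`. -/
theorem isSylIn_of_inf_normalizer [Finite G] {P C : Subgroup G}
    (h : IsSylIn p P (C ⊓ Subgroup.normalizer (P : Set G))) : IsSylIn p P C := by
  have hPC : P ≤ C := h.1.trans inf_le_left
  obtain ⟨R, hPR, hR⟩ := exists_isSylIn hPC h.2.1
  have hRp : IsPGroup p R := hR.2.1
  suffices hRP : R = P by rw [← hRP]; exact hR
  by_contra hne
  have hnil : Group.IsNilpotent R := hRp.isNilpotent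
  have hnc : NormalizerCondition R := Group.normalizerCondition_of_isNilpotent
  have hlt : P.subgroupOf R < ⊤ := by
    rw [lt_top_iff_ne_top]
    intro htop
    apply hne
    apply le_antisymm _ hPR
    intro w hw
    have h1 : (⟨w, hw⟩ : R) ∈ P.subgroupOf R := by rw [htop]; exact Subgroup.mem_top _
    exact Subgroup.mem_subgroupOf.mp h1
  have h2 := hnc _ hlt
  obtain ⟨x, hxN, hxP⟩ := SetLike.exists_of_lt h2
  -- the subgroup generated by `P` and `x`
  have hxn : (x : G) ∈ Subgroup.normalizer (P : Set G) := by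
    rw [Subgroup.mem_normalizer_iff]
    intro w
    have h3 := Subgroup.mem_normalizer_iff.mp hxN
    constructor
    · intro hw
      have h4 := (h3 ⟨w, hPR hw⟩).mp (Subgroup.mem_subgroupOf.mpr hw)
      exact Subgroup.mem_subgroupOf.mp h4
    · intro hw
      have hwR : w ∈ R := by
        have h5 : w = (x : G)⁻¹ * ((x : G) * w * (x : G)⁻¹) * (x : G) := by group
        rw [h5]
        exact R.mul_mem (R.mul_mem (R.inv_mem x.2) (hPR hw)) x.2
      have h4 := (h3 ⟨w, hwR⟩).mpr (Subgroup.mem_subgroupOf.mpr hw)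
      exact Subgroup.mem_subgroupOf.mp h4
  have hQle : P ⊔ Subgroup.zpowers (x : G) ≤ R :=
    sup_le hPR ((Subgroup.zpowers_le).mpr x.2)
  have hQp : IsPGroup p (P ⊔ Subgroup.zpowers (x : G) : Subgroup G) := hRp.to_le hQle
  have hQC : P ⊔ Subgroup.zpowers (x : G) ≤ C ⊓ Subgroup.normalizer (P : Set G) := by
    apply sup_le h.1
    rw [Subgroup.zpowers_le]
    exact ⟨hR.1 x.2, hxn⟩
  have h6 := h.eq_of_le le_sup_left hQC hQp
  apply hxP
  rw [Subgroup.mem_subgroupOf, ← h6]
  exact Subgroup.mem_sup_right (Subgroup.mem_zpowers _)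

end Cfsg.Agent.Lib.Helper16.SylFusion
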