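import Mathlib
import Cfsg.Prelude.Def_Blocks
import Cfsg.Agent.Lib.Helper16.SylFusion
import Cfsg.Agent.Lib.Helper16.NormalDefect
import Cfsg.Agent.Lib.Helper16.Brauer
import Cfsg.Agent.S0912

/-!
# Brauer's first main theorem

`N = N_G(D)` for a `p`-subgroup `D`.

* `inducedCentralChar_eq_sum_reps'`: the induced central character as a sum over pairwise
  non-conjugate representatives.
* `isSylIn_of_subgroupOf`: Sylow subgroups of centralizers in a subgroup, read in the group.
* `induced_sub_centralChar_mem`: `ω_ξ^G(y) ≡ ω_ξ(y)` when `D` is Sylow in `C_G(y)`.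
* `isDefectGroup_induced`: a block of `N` with defect group `D` induces a block with defect
  group `D`.
* `exists_block_normalizer`, `block_normalizer_unique`: a block of `G` with defect group `D` is
  induced from exactly one block of `N` with defect group `D`.
-/

set_option autoImplicit false

namespace Cfsg.Agent.Lib.Helper16.FirstMain

open Cfsg Cfsg.Agent.Lib.Helper77.LocalRing Cfsg.Agent.Lib.Helper77.CentralChar
  Cfsg.Agent.Lib.Helper77.BlockIdem
  Cfsg.Agent.Lib.Helper16.ZR Cfsg.Agent.Lib.CT.Wedderburn Cfsg.Agent.Lib.Helper16.MinMax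
  Cfsg.Agent.Lib.Helper16.Defect Cfsg.Agent.Lib.Helper16.IndBlock
  Cfsg.Agent.Lib.Helper16.Idem Cfsg.Agent.Lib.Helper33.Conj
  Cfsg.Agent.Lib.Helper16.NormalDefect Cfsg.Agent.Lib.Helper16.SylFusion
  Cfsg.Agent.Lib.Helper16.CentralChar Cfsg.Agent.Lib.Helper16.Grouping

universe u
variable {G : Type u} [Group G] {M : Ideal AlgInt}

/-- A sum over a conjugation-stable finite set splits as a sum over pairwise non-conjugate class
representatives of sums over classes. -/
theorem sum_stable_reps [Finite G] {A : Type*} [AddCommMonoid A] (T : Finset G)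
    (hT : ∀ x ∈ T, ∀ h : G, h * x * h⁻¹ ∈ T) :
    ∃ R : Finset G, R ⊆ T ∧ (∀ r ∈ R, ∀ r' ∈ R, IsConj r r' → r = r') ∧
      (∀ x ∈ T, ∃ r ∈ R, IsConj x r) ∧
      ∀ f : G → A, ∑ x ∈ T, f x = ∑ r ∈ R, ∑ x ∈ conjFinset r, f x := by
  classical
  let rep : ConjClasses G → G := fun c => (ConjClasses.exists_rep c).choose
  have hout : ∀ c : ConjClasses G, ConjClasses.mk (rep c) = c := fun c =>
    (ConjClasses.exists_rep c).choose_spec
  have hstab : ∀ x ∈ T, ∀ y : G, IsConj x y → y ∈ T := by
    intro x hx y hxy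
    obtain ⟨c, hc⟩ := isConj_iff.mp hxy
    rw [← hc]
    exact hT x hx c
  refine ⟨(T.image ConjClasses.mk).image rep, ?_, ?_, ?_, ?_⟩
  · intro r hr
    rw [Finset.mem_image] at hr
    obtain ⟨c, hc, rfl⟩ := hr
    rw [Finset.mem_image] at hc
    obtain ⟨x0, hx0, rfl⟩ := hc
    exact hstab x0 hx0 _ (ConjClasses.mk_eq_mk_iff_isConj.mp (hout _).symm)
  · intro r hr r' hr' hconj
    rw [Finset.mem_image] at hr hr'
    obtain ⟨c, -, rfl⟩ := hr
    obtain ⟨c', -, rfl⟩ := hr'
    have h1 := ConjClasses.mk_eq_mk_iff_isConj.mpr hconj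
    rw [hout, hout] at h1
    rw [h1]
  · intro x hx
    refine ⟨rep (ConjClasses.mk x), Finset.mem_image_of_mem _ (Finset.mem_image_of_mem _ hx), ?_⟩
    exact ConjClasses.mk_eq_mk_iff_isConj.mp (hout _).symm
  · intro f
    calc ∑ x ∈ T, f x
        = ∑ c ∈ T.image ConjClasses.mk, ∑ x ∈ T with ConjClasses.mk x = c, f x :=
          (Finset.sum_fiberwise_of_maps_to (g := ConjClasses.mk) (t := T.image ConjClasses.mk)
            (fun x hx => Finset.mem_image_of_mem _ hx) f).symm
      _ = ∑ c ∈ T.image ConjClasses.mk, ∑ x ∈ conjFinset (rep c), f x := by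
          apply Finset.sum_congr rfl
          intro c hc
          rw [Finset.mem_image] at hc
          obtain ⟨x0, hx0, rfl⟩ := hc
          apply Finset.sum_congr _ (fun _ _ => rfl)
          ext x
          rw [Finset.mem_filter, mem_conjFinset]
          constructor
          · rintro ⟨_, hx⟩
            exact ConjClasses.mk_eq_mk_iff_isConj.mp ((hout _).trans hx.symm)
          · intro hx
            have h1 : IsConj x0 x :=
              (ConjClasses.mk_eq_mk_iff_isConj.mp (hout (ConjClasses.mk x0)).symm).trans hx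
            exact ⟨hstab x0 hx0 x h1, (ConjClasses.mk_eq_mk_iff_isConj.mpr h1).symm⟩
      _ = ∑ r ∈ (T.image ConjClasses.mk).image rep, ∑ x ∈ conjFinset r, f x := by
          refine (Finset.sum_image (s := T.image ConjClasses.mk) (g := rep)
            (f := fun r => ∑ x ∈ conjFinset r, f x) ?_).symm
          intro c _ c' _ h
          rw [← hout c, ← hout c', h]

/-- The induced central character is a sum of central characters over pairwise non-conjugate
representatives of the `H`-classes contained in the `G`-class of `g`. -/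
theorem inducedCentralChar_eq_sum_reps' [Finite G] (H : Subgroup G) (g : G) :
    ∃ R : Finset H, (∀ r ∈ R, IsConj g (r : G)) ∧ (∀ r ∈ R, ∀ r' ∈ R, IsConj r r' → r = r') ∧
      (∀ h : H, IsConj g (h : G) → ∃ r ∈ R, IsConj h r) ∧
      ∀ ξ : H → ℂ, (∀ x k : H, ξ (k * x * k⁻¹) = ξ x) →
        Cfsg.inducedCentralChar H ξ g = ∑ r ∈ R, Cfsg.centralChar ξ r := by
  classical
  cases nonempty_fintype G
  have : Fintype H := Fintype.ofFinite H
  set T : Finset H := Finset.univ.filter (fun h : H => IsConj g (h : G)) with hTdef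
  have hT : ∀ x ∈ T, ∀ k : H, k * x * k⁻¹ ∈ T := by
    intro x hx k
    rw [hTdef, Finset.mem_filter] at hx ⊢
    exact ⟨Finset.mem_univ _, hx.2.trans (isConj_iff.mpr ⟨(k : G), by simp⟩)⟩
  obtain ⟨R, hRT, hpw, hcomp, hsum⟩ := sum_stable_reps (A := ℂ) T hT
  refine ⟨R, ?_, hpw, ?_, ?_⟩
  · intro r hr
    have := hRT hr
    rw [hTdef, Finset.mem_filter] at this
    exact this.2
  · intro h hh
    exact hcomp h (by rw [hTdef, Finset.mem_filter]; exact ⟨Finset.mem_univ _, hh⟩)
  · intro ξ hξ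
    unfold Cfsg.inducedCentralChar
    rw [finsum_mem_eq_sum_filter_univ]
    have : Finset.univ.filter (· ∈ {h : H | IsConj g (h : G)}) = T := by
      ext h; simp [hTdef]
    rw [this, hsum]
    apply Finset.sum_congr rfl
    intro r _
    exact sum_conjFinset_div ξ hξ r

/-- The centralizer of an element of a subgroup, read in the group. -/
theorem map_centralizer_subtype (H : Subgroup G) (y : H) :
    (Subgroup.centralizer ({y} : Set H)).map H.subtype
      = Subgroup.centralizer ({(y : G)} : Set G) ⊓ H := by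
  ext w
  rw [Subgroup.mem_map, Subgroup.mem_inf, mem_centralizer_singleton]
  constructor
  · rintro ⟨w', hw', rfl⟩
    refine ⟨?_, w'.2⟩
    have h1 := mem_centralizer_singleton.mp hw'
    exact congrArg Subtype.val h1
  · rintro ⟨h1, h2⟩
    refine ⟨⟨w, h2⟩, ?_, rfl⟩
    rw [mem_centralizer_singleton]
    exact Subtype.ext h1

/-- Sylow subgroups of centralizers in a subgroup, read in the group. -/
theorem isSylIn_of_subgroupOf {p : ℕ} (H : Subgroup G) (D : Subgroup G) (hDH : D ≤ H) (y : H)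
    (h : IsSylIn p (D.subgroupOf H) (Subgroup.centralizer ({y} : Set H))) :
    IsSylIn p D (Subgroup.centralizer ({(y : G)} : Set G) ⊓ H) := by
  have h1 : IsSylIn p ((D.subgroupOf H).map H.subtype)
      ((Subgroup.centralizer ({y} : Set H)).map H.subtype) := by
    refine ⟨Subgroup.map_mono h.1, h.2.1.map _, ?_⟩
    rw [Subgroup.relIndex_map_map_of_injective _ _ (Subgroup.subtype_injective H)]
    exact h.2.2
  rw [Subgroup.map_subgroupOf_eq_of_le hDH, map_centralizer_subtype] at h1
  exact h1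

/-- `ω_ξ^G(y) ≡ ω_ξ(y)` for `ξ ∈ Irr(N_G(D))` when `D` is a Sylow `p`-subgroup of `C_G(y)`. -/
theorem induced_sub_centralChar_mem [Finite G] (p : ℕ) [Fact p.Prime] (hM : IsPModular p M)
    (D : Subgroup G) (y : Subgroup.normalizer (D : Set G))
    (hy : IsSylIn p D (Subgroup.centralizer ({(y : G)} : Set G)))
    (ξ : IrrCharacter (Subgroup.normalizer (D : Set G))) :
    MemLocalIdeal M (inducedCentralChar (Subgroup.normalizer (D : Set G)) (ξ : _ → ℂ) (y : G)
      - centralChar (ξ : _ → ℂ) y) := by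
  classical
  have hMp := isPrime_of_isPModular hM
  have hD : IsPGroup p D := hy.2.1
  have hDH : D ≤ Subgroup.normalizer (D : Set G) := Subgroup.le_normalizer
  have hn : (D.subgroupOf (Subgroup.normalizer (D : Set G))).Normal :=
    (Subgroup.normal_subgroupOf_iff_le_normalizer hDH).mpr le_rfl
  obtain ⟨R, hR, hpw, hcomp, hsum⟩ :=
    inducedCentralChar_eq_sum_reps' (Subgroup.normalizer (D : Set G)) (y : G)
  have hcf : ∀ x k : Subgroup.normalizer (D : Set G),
      (ξ : _ → ℂ) (k * x * k⁻¹) = (ξ : _ → ℂ) x := fun x k =>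
    char_isClassFunction (isCharacter_of_irr ξ.2) x k
  rw [hsum _ hcf]
  obtain ⟨r₀, hr₀, hyr₀⟩ := hcomp y (IsConj.refl _)
  rw [← Finset.add_sum_erase R _ hr₀, centralChar_eq_of_isConj ξ hyr₀, add_sub_cancel_left]
  apply memLocalIdeal_sum hMp
  intro r hr
  rw [Finset.mem_erase] at hr
  by_contra hnm
  have hrC : r ∈ Subgroup.centralizer
      ((D.subgroupOf (Subgroup.normalizer (D : Set G)) : Subgroup _) : Set _) := by
    by_contra h
    exact hnm (Cfsg.Agent.Lib.Helper16.NormalP.centralChar_mem_of_not_centralizer p M hM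
      (D.subgroupOf (Subgroup.normalizer (D : Set G))) hD.comap_subtype (ξ : _ → ℂ) ξ.2 r h)
  have hrC' : (r : G) ∈ Subgroup.centralizer (D : Set G) := by
    rw [Subgroup.mem_centralizer_iff]
    intro w hw
    have h1 := Subgroup.mem_centralizer_iff.mp hrC ⟨w, hDH hw⟩ (Subgroup.mem_subgroupOf.mpr hw)
    exact congrArg Subtype.val h1
  have hs2 := isSylIn_centralizer_of_isConj hy (hR r hr.2) hrC'
  obtain ⟨n, hn, hn2⟩ := exists_normalizer_conj hy hs2 (hR r hr.2)
  have hc : IsConj y r := isConj_iff.mpr ⟨⟨n, hn⟩, Subtype.ext hn2⟩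
  exact hr.1 (hpw r₀ hr₀ r hr.2 (hyr₀.symm.trans hc)).symm

/-- A block of `N_G(D)` with defect group `D` induces a block of `G` with defect group `D`. -/
theorem isDefectGroup_induced [Finite G] (p : ℕ) [Fact p.Prime] (hM : IsPModular p M)
    (D : Subgroup G) (b : Set (IrrCharacter (Subgroup.normalizer (D : Set G))))
    (hDb : IsDefectGroup p M b (D.subgroupOf (Subgroup.normalizer (D : Set G))))
    (B : Set (IrrCharacter G))
    (hind : IsInducedBlock M (Subgroup.normalizer (D : Set G)) b B) :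
    IsDefectGroup p M B D := by
  have hMp := isPrime_of_isPModular hM
  have hDH : D ≤ Subgroup.normalizer (D : Set G) := Subgroup.le_normalizer
  obtain ⟨y₀, hy₀, hsyl'⟩ := isDefectGroup_iff.mp hDb
  have hsyl : IsSylIn p D (Subgroup.centralizer ({(y₀ : G)} : Set G)) :=
    isSylIn_of_inf_normalizer (isSylIn_of_subgroupOf _ D hDH y₀ hsyl')
  obtain ⟨ξ, hξ⟩ := isPBlock_nonempty hMp hind.1
  obtain ⟨χ, hχ⟩ := isPBlock_nonempty hMp hind.2.1
  have h1 := induced_sub_centralChar_mem p hM D y₀ hsyl ξ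
  have h2 := hind.2.2 ξ hξ χ hχ (y₀ : G)
  have h3 : ¬ MemLocalIdeal M (centralChar (χ : G → ℂ) (y₀ : G)) := by
    intro h
    apply hy₀.2.2 ξ hξ
    have h4 := memLocalIdeal_sub hMp (memLocalIdeal_add hMp h2 h) h1
    have h5 : inducedCentralChar (Subgroup.normalizer (D : Set G)) (ξ : _ → ℂ) (y₀ : G)
        - centralChar (χ : G → ℂ) (y₀ : G) + centralChar (χ : G → ℂ) (y₀ : G)
        - (inducedCentralChar (Subgroup.normalizer (D : Set G)) (ξ : _ → ℂ) (y₀ : G)
          - centralChar (ξ : _ → ℂ) y₀) = centralChar (ξ : _ → ℂ) y₀ := by ring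
    rwa [h5] at h4
  obtain ⟨E, hE, hDE⟩ := defectGroup_le_of_induced hM _ b B hind _ hDb
  rw [Subgroup.map_subgroupOf_eq_of_le hDH] at hDE
  obtain ⟨g, hg, hEsyl⟩ := isDefectGroup_iff.mp hE
  obtain ⟨x, Q, hQ, hEQ⟩ := minmax_b hM B hind.2.1 g hg E hEsyl (y₀ : G) ⟨χ, hχ, h3⟩
  obtain ⟨z, -, hz⟩ := hsyl.exists_cj_eq hQ
  have hcard : Nat.card E ≤ Nat.card D := by
    rw [← hz, card_cj, ← card_cj x E]
    exact Subgroup.card_le_of_le hEQ
  have hDEeq : D = E := Subgroup.eq_of_le_of_card_ge hDE hcard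
  rw [hDEeq]
  exact hE

/-- A block of `G` with defect group `D` is induced from a block of `N_G(D)` with defect group
`D`. -/
theorem exists_block_normalizer [Finite G] (p : ℕ) [Fact p.Prime] (hM : IsPModular p M)
    (D : Subgroup G) (B : Set (IrrCharacter G)) (hB : IsPBlock M B)
    (hDB : IsDefectGroup p M B D) :
    ∃ b : Set (IrrCharacter (Subgroup.normalizer (D : Set G))),
      IsDefectGroup p M b (D.subgroupOf (Subgroup.normalizer (D : Set G))) ∧
      IsInducedBlock M (Subgroup.normalizer (D : Set G)) b B := by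
  have hMp := isPrime_of_isPModular hM
  obtain ⟨g, hg, hsyl⟩ := isDefectGroup_iff.mp hDB
  have hD : IsPGroup p D := hsyl.2.1
  have hDH : D ≤ Subgroup.normalizer (D : Set G) := Subgroup.le_normalizer
  have hCH : Subgroup.centralizer (D : Set G) ≤ Subgroup.normalizer (D : Set G) :=
    Subgroup.centralizer_le_normalizer _
  have hn : (D.subgroupOf (Subgroup.normalizer (D : Set G))).Normal :=
    (Subgroup.normal_subgroupOf_iff_le_normalizer hDH).mpr le_rfl
  have h2 : D.subgroupOf (Subgroup.normalizer (D : Set G))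
      ≤ Cfsg.pCore p (Subgroup.normalizer (D : Set G)) :=
    Cfsg.Agent.Lib.Helper78.Fitting.le_pCore hn hD.comap_subtype
  obtain ⟨b, hind⟩ := exists_induced_of_le_defect p hM D (Subgroup.normalizer (D : Set G)) hD hDH
    hCH le_rfl B hB D hDB 1 (by rw [cj_one])
  obtain ⟨Db, hDb⟩ := exists_defectGroup hM b hind.1
  have h1 : Cfsg.pCore p (Subgroup.normalizer (D : Set G)) ≤ Db :=
    Cfsg.Agent.S0912.result p M hM b hind.1 Db hDb
  obtain ⟨E, hE, hle⟩ := defectGroup_le_of_induced hM _ b B hind Db hDb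
  obtain ⟨x, hx⟩ := defectGroup_conj hM B hB hDB hE
  have hcardE : Nat.card E = Nat.card D := by rw [hx, card_cj]
  have hcardDb : Nat.card Db ≤ Nat.card (D.subgroupOf (Subgroup.normalizer (D : Set G))) := by
    rw [Nat.card_congr (Subgroup.subgroupOfEquivOfLe hDH).toEquiv, ← hcardE,
      ← Subgroup.card_map_of_injective (Subgroup.subtype_injective _)]
    exact Subgroup.card_le_of_le hle
  have heq : D.subgroupOf (Subgroup.normalizer (D : Set G)) = Db :=
    Subgroup.eq_of_le_of_card_ge (h2.trans h1) hcardDb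
  refine ⟨b, ?_, hind⟩
  rw [heq]
  exact hDb

/-- At most one block of `N_G(D)` with defect group `D` induces a given block of `G`. -/
theorem block_normalizer_unique [Finite G] (p : ℕ) [Fact p.Prime] (hM : IsPModular p M)
    (D : Subgroup G) (B : Set (IrrCharacter G))
    (b₁ b₂ : Set (IrrCharacter (Subgroup.normalizer (D : Set G))))
    (hD1 : IsDefectGroup p M b₁ (D.subgroupOf (Subgroup.normalizer (D : Set G))))
    (hind1 : IsInducedBlock M (Subgroup.normalizer (D : Set G)) b₁ B)
    (hind2 : IsInducedBlock M (Subgroup.normalizer (D : Set G)) b₂ B) : b₁ = b₂ := by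
  classical
  have hMp := isPrime_of_isPModular hM
  have hDH : D ≤ Subgroup.normalizer (D : Set G) := Subgroup.le_normalizer
  obtain ⟨g₁, hg₁, hs₁⟩ := isDefectGroup_iff.mp hD1
  have hD' : IsPGroup p (D.subgroupOf (Subgroup.normalizer (D : Set G))) := hs₁.2.1
  have hD : IsPGroup p D := by
    have h1 := hD'.map (Subgroup.normalizer (D : Set G)).subtype
    rwa [Subgroup.map_subgroupOf_eq_of_le hDH] at h1
  have hn : (D.subgroupOf (Subgroup.normalizer (D : Set G))).Normal :=
    (Subgroup.normal_subgroupOf_iff_le_normalizer hDH).mpr le_rfl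
  obtain ⟨ξ₁, hξ₁⟩ := isPBlock_nonempty hMp hind1.1
  obtain ⟨ξ₂, hξ₂⟩ := isPBlock_nonempty hMp hind2.1
  obtain ⟨χ, hχ⟩ := isPBlock_nonempty hMp hind1.2.1
  by_contra hne
  have hξ₂' : ξ₂ ∉ b₁ := by
    intro h
    apply hne
    rw [isPBlock_eq_blockOf hMp hind1.1 h, isPBlock_eq_blockOf hMp hind2.1 hξ₂]
  obtain ⟨R, hR⟩ := exists_reps_omega (G := Subgroup.normalizer (D : Set G))
  have e1 := hR (ξ₁ : _ → ℂ) (blockIdem b₁) (fun x g => irr_conj_inv ξ₁ x g)
    (blockIdem_mem_center b₁)
  have e2 := hR (ξ₂ : _ → ℂ) (blockIdem b₁) (fun x g => irr_conj_inv ξ₂ x g)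
    (blockIdem_mem_center b₁)
  rw [omega_blockIdem, if_pos hξ₁] at e1
  rw [omega_blockIdem, if_neg hξ₂'] at e2
  have e3 : (1 : ℂ) = ∑ r ∈ R, blockCoeff b₁ r
      * (centralChar (ξ₁ : _ → ℂ) r - centralChar (ξ₂ : _ → ℂ) r) := by
    have h1 : (1 : ℂ) = 1 - 0 := by ring
    rw [h1, e1, e2, ← Finset.sum_sub_distrib]
    apply Finset.sum_congr rfl
    intro r _
    rw [coeff_blockIdem]
    ring
  apply not_memLocalIdeal_one hMp (M := M)
  rw [e3]
  apply memLocalIdeal_sum hMp
  intro r _
  have haR : MemLocalRing M (blockCoeff b₁ r) := blockCoeff_memLocalRing p M hM b₁ hind1.1 r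
  have hc1 : MemLocalRing M (centralChar (ξ₁ : _ → ℂ) r) :=
    memLocalRing_of_isIntegral hMp (Cfsg.Agent.Lib.Helper77.ClassSum.isIntegral_centralChar ξ₁.2 r)
  have hc2 : MemLocalRing M (centralChar (ξ₂ : _ → ℂ) r) :=
    memLocalRing_of_isIntegral hMp (Cfsg.Agent.Lib.Helper77.ClassSum.isIntegral_centralChar ξ₂.2 r)
  by_cases ha : MemLocalIdeal M (blockCoeff b₁ r)
  · exact memLocalIdeal_mul_right hMp ha (memLocalRing_sub hMp hc1 hc2)
  apply memLocalIdeal_mul_left hMp haR
  by_cases hc : r ∈ Subgroup.centralizer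
      ((D.subgroupOf (Subgroup.normalizer (D : Set G)) : Subgroup _) : Set _)
  · -- `D` is a Sylow subgroup of the centralizer of `r`
    have hle : D.subgroupOf (Subgroup.normalizer (D : Set G))
        ≤ Subgroup.centralizer ({r} : Set (Subgroup.normalizer (D : Set G))) := by
      intro w hw
      rw [mem_centralizer_singleton]
      exact (Subgroup.mem_centralizer_iff.mp hc w hw).symm
    obtain ⟨Q, hD'Q, hQ⟩ := exists_isSylIn hle hD'
    obtain ⟨x, hx⟩ := minmax_a hM b₁ hind1.1 g₁ hg₁ _ hs₁ r ha Q hQ.2.1 hQ.1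
    have hcard : Nat.card Q ≤ Nat.card (D.subgroupOf (Subgroup.normalizer (D : Set G))) := by
      rw [← card_cj x (D.subgroupOf (Subgroup.normalizer (D : Set G)))]
      exact Subgroup.card_le_of_le hx
    have hQeq := Subgroup.eq_of_le_of_card_ge hD'Q hcard
    rw [← hQeq] at hQ
    have hsyl : IsSylIn p D (Subgroup.centralizer ({(r : G)} : Set G)) :=
      isSylIn_of_inf_normalizer (isSylIn_of_subgroupOf _ D hDH r hQ)
    have k1 := induced_sub_centralChar_mem p hM D r hsyl ξ₁
    have k2 := induced_sub_centralChar_mem p hM D r hsyl ξ₂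
    have k3 := hind1.2.2 ξ₁ hξ₁ χ hχ (r : G)
    have k4 := hind2.2.2 ξ₂ hξ₂ χ hχ (r : G)
    have k5 := memLocalIdeal_add hMp (memLocalIdeal_sub hMp (memLocalIdeal_sub hMp k3 k1) k4) k2
    have k6 : inducedCentralChar (Subgroup.normalizer (D : Set G)) (ξ₁ : _ → ℂ) (r : G)
        - centralChar (χ : G → ℂ) (r : G)
        - (inducedCentralChar (Subgroup.normalizer (D : Set G)) (ξ₁ : _ → ℂ) (r : G)
          - centralChar (ξ₁ : _ → ℂ) r)
        - (inducedCentralChar (Subgroup.normalizer (D : Set G)) (ξ₂ : _ → ℂ) (r : G)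
          - centralChar (χ : G → ℂ) (r : G))
        + (inducedCentralChar (Subgroup.normalizer (D : Set G)) (ξ₂ : _ → ℂ) (r : G)
          - centralChar (ξ₂ : _ → ℂ) r)
        = centralChar (ξ₁ : _ → ℂ) r - centralChar (ξ₂ : _ → ℂ) r := by ring
    rwa [k6] at k5
  · exact memLocalIdeal_sub hMp
      (Cfsg.Agent.Lib.Helper16.NormalP.centralChar_mem_of_not_centralizer p M hM
        (D.subgroupOf (Subgroup.normalizer (D : Set G))) hD' (ξ₁ : _ → ℂ) ξ₁.2 r hc)
      (Cfsg.Agent.Lib.Helper16.NormalP.centralChar_mem_of_not_centralizer p M hM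
        (D.subgroupOf (Subgroup.normalizer (D : Set G))) hD' (ξ₂ : _ → ℂ) ξ₂.2 r hc)

end Cfsg.Agent.Lib.Helper16.FirstMain
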