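import Mathlib
import Cfsg.Prelude.Def_Blocks
import Cfsg.Agent.Lib.Helper16.FirstMain
import Cfsg.Agent.Lib.Helper16.QuotP
import Cfsg.Agent.Lib.Helper75.DefectCount
import Cfsg.Agent.Lib.CT.Orth
import Cfsg.Agent.Lib.CT.Kernel
import Cfsg.Agent.Lib.Helper80.Integrality

/-!
# Blocks of a group with a normal Sylow `p`-subgroup

* `isConj_of_isConj_mk`: `p`-regular elements of `C(Q)` conjugate modulo the normal `p`-subgroup
  `Q` are conjugate.
* `card_classes_le_card_blocks`: for a normal Sylow `p`-subgroup `Q`, the number of `p`-regular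
  classes inside `C(Q)` is at most the number of blocks.
-/

set_option autoImplicit false

namespace Cfsg.Agent.Lib.Helper16.SylowBlocks

open Cfsg Cfsg.Agent.Lib.Helper77.LocalRing Cfsg.Agent.Lib.Helper77.CentralChar
  Cfsg.Agent.Lib.Helper77.BlockIdem
  Cfsg.Agent.Lib.Helper16.ZR Cfsg.Agent.Lib.CT.Wedderburn Cfsg.Agent.Lib.Helper16.MinMax
  Cfsg.Agent.Lib.Helper16.Defect Cfsg.Agent.Lib.Helper16.IndBlock
  Cfsg.Agent.Lib.Helper16.Idem Cfsg.Agent.Lib.Helper33.Conj
  Cfsg.Agent.Lib.Helper16.NormalDefect Cfsg.Agent.Lib.Helper16.SylFusion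
  Cfsg.Agent.Lib.Helper16.QuotP Cfsg.Agent.Lib.Helper75.DefectCount
open scoped ComplexConjugate

universe u
variable {G : Type u} [Group G] {M : Ideal AlgInt}

/-- `p`-regular elements of `C(Q)` conjugate modulo the normal `p`-subgroup `Q` are
conjugate. -/
theorem isConj_of_isConj_mk {p : ℕ} (hp : p.Prime) (Q : Subgroup G) [Q.Normal]
    (hQ : IsPGroup p Q) (k k' : G) (hk : ¬ p ∣ orderOf k) (hk' : ¬ p ∣ orderOf k')
    (hk'Q : k' ∈ Subgroup.centralizer (Q : Set G))
    (h : IsConj (k : G ⧸ Q) (k' : G ⧸ Q)) : IsConj k k' := by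
  obtain ⟨cbar, hc⟩ := isConj_iff.mp h
  obtain ⟨c, rfl⟩ := QuotientGroup.mk_surjective cbar
  have hmk : ((c * k * c⁻¹ : G) : G ⧸ Q) = (k' : G ⧸ Q) := by
    rw [← hc]
    rfl
  have hu : k'⁻¹ * (c * k * c⁻¹) ∈ Q := QuotientGroup.eq.mp hmk.symm
  have hcomm : Commute k' (k'⁻¹ * (c * k * c⁻¹)) :=
    (Subgroup.mem_centralizer_iff.mp hk'Q _ hu).symm
  have hcomm2 : Commute k'⁻¹ (c * k * c⁻¹) := by
    have h1 : c * k * c⁻¹ = k' * (k'⁻¹ * (c * k * c⁻¹)) := by group
    rw [h1]
    exact ((Commute.refl k').mul_right hcomm).inv_left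
  have ho1 : orderOf (c * k * c⁻¹) = orderOf k :=
    (orderOf_eq_of_isConj' (isConj_iff.mpr ⟨c, rfl⟩)).symm
  have hdvd := hcomm2.orderOf_mul_dvd_lcm
  rw [orderOf_inv, ho1] at hdvd
  have hnp : ¬ p ∣ orderOf (k'⁻¹ * (c * k * c⁻¹)) := by
    intro hpd
    have h2 := (hpd.trans hdvd).trans (Nat.lcm_dvd_mul _ _)
    rcases hp.dvd_mul.mp h2 with h3 | h3
    · exact hk' h3
    · exact hk h3
  obtain ⟨j, hj⟩ := hQ ⟨_, hu⟩
  have hj' : (k'⁻¹ * (c * k * c⁻¹)) ^ p ^ j = 1 := by
    have h2 := congrArg Subtype.val hj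
    rw [Subgroup.coe_pow] at h2
    exact h2
  obtain ⟨i, -, hi⟩ := (Nat.dvd_prime_pow hp).mp (orderOf_dvd_of_pow_eq_one hj')
  have hu1 : k'⁻¹ * (c * k * c⁻¹) = 1 := by
    rcases i with _ | i
    · rw [pow_zero] at hi
      exact orderOf_eq_one_iff.mp hi
    · exfalso
      apply hnp
      rw [hi]
      exact dvd_pow_self p (Nat.succ_ne_zero i)
  refine isConj_iff.mpr ⟨c, ?_⟩
  calc c * k * c⁻¹ = k' * (k'⁻¹ * (c * k * c⁻¹)) := by group
    _ = k' := by rw [hu1, mul_one]

/-- For a normal Sylow `p`-subgroup `Q`, the number of `p`-regular classes inside `C(Q)` is at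
most the number of blocks. -/
theorem card_classes_le_card_blocks [Finite G] (p : ℕ) [Fact p.Prime] (hM : IsPModular p M)
    (Q : Subgroup G) [Q.Normal] (hQ : IsPGroup p Q) (hidx : ¬ p ∣ Q.index) :
    Nat.card {C : ConjClasses G // ∀ n : G, ConjClasses.mk n = C →
        ¬ p ∣ orderOf n ∧ n ∈ Subgroup.centralizer (Q : Set G)}
      ≤ Nat.card {b : Set (IrrCharacter G) // IsPBlock M b} := by
  classical
  have hp : p.Prime := Fact.out
  have hMp := isPrime_of_isPModular hM
  have := Fintype.ofFinite G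
  have := finite_irrCharacter G
  have := finite_irrCharacter (G ⧸ Q)
  let _ : Fintype (IrrCharacter (G ⧸ Q)) := Fintype.ofFinite _
  let _ : Fintype (G ⧸ Q) := Fintype.ofFinite _
  have : Fintype {C : ConjClasses G // ∀ n : G, ConjClasses.mk n = C →
        ¬ p ∣ orderOf n ∧ n ∈ Subgroup.centralizer (Q : Set G)} := Fintype.ofFinite _
  have : Fintype {b : Set (IrrCharacter G) // IsPBlock M b} := Fintype.ofFinite _
  rw [Nat.card_eq_fintype_card, Nat.card_eq_fintype_card]
  have hex : ∀ b : {b : Set (IrrCharacter G) // IsPBlock M b}, ∃ χ : IrrCharacter G, χ ∈ b.1 :=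
    fun b => isPBlock_nonempty hMp b.2
  choose rep hrep using hex
  let infl : IrrCharacter (G ⧸ Q) → IrrCharacter G := fun ψ =>
    ⟨fun g : G => (ψ : G ⧸ Q → ℂ) (g : G ⧸ Q),
      Cfsg.Agent.Lib.CT.Kernel.isIrrCharacter_inflation Q ψ.2⟩
  have hcardQ : ¬ p ∣ Nat.card (G ⧸ Q) := by
    rw [← Subgroup.index_eq_card]
    exact hidx
  let V : {C : ConjClasses G // ∀ n : G, ConjClasses.mk n = C →
        ¬ p ∣ orderOf n ∧ n ∈ Subgroup.centralizer (Q : Set G)} → IrrCharacter (G ⧸ Q) → ℂ :=
    fun C ψ => (Nat.card (G ⧸ Q) : ℂ)⁻¹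
      * ((ψ : G ⧸ Q → ℂ) 1 * conj ((ψ : G ⧸ Q → ℂ) ((C.1.out : G) : G ⧸ Q)))
  have hV : ∀ C ψ, MemLocalRing M (V C ψ) := by
    intro C ψ
    refine memLocalRing_mul hMp (Cfsg.Agent.Lib.CT.DefectZeroBlock.memLocalRing_inv_natCast hM
      hcardQ) (memLocalRing_mul hMp ?_ ?_)
    · exact memLocalRing_of_isIntegral hMp
        (Cfsg.Agent.Lib.Helper80.Integrality.isIntegral_irrCharacter ψ 1)
    · rw [← char_apply_inv (isCharacter_of_irr ψ.2)]
      exact memLocalRing_of_isIntegral hMp
        (Cfsg.Agent.Lib.Helper80.Integrality.isIntegral_irrCharacter ψ _)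
  set A : Matrix {C : ConjClasses G // ∀ n : G, ConjClasses.mk n = C →
        ¬ p ∣ orderOf n ∧ n ∈ Subgroup.centralizer (Q : Set G)}
      {b : Set (IrrCharacter G) // IsPBlock M b} ℂ :=
    fun C b => ∑ ψ : IrrCharacter (G ⧸ Q), if infl ψ ∈ b.1 then V C ψ else 0 with hA
  set W : Matrix {b : Set (IrrCharacter G) // IsPBlock M b}
      {C : ConjClasses G // ∀ n : G, ConjClasses.mk n = C →
        ¬ p ∣ orderOf n ∧ n ∈ Subgroup.centralizer (Q : Set G)} ℂ :=
    fun b C => centralChar (rep b : G → ℂ) C.1.out with hW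
  refine card_le_of_congr_one hMp A W ?_
  intro C C'
  have hk := C.2 C.1.out (Quotient.out_eq C.1)
  have hk' := C'.2 C'.1.out (Quotient.out_eq C'.1)
  -- Claim 2: the orthogonality relation in the quotient
  have claim2 : ∑ ψ : IrrCharacter (G ⧸ Q), V C ψ * centralChar (infl ψ : G → ℂ) C'.1.out
      = (1 : Matrix _ _ ℂ) C C' := by
    have e1 : ∀ ψ : IrrCharacter (G ⧸ Q), V C ψ * centralChar (infl ψ : G → ℂ) C'.1.out
        = (Nat.card (G ⧸ Q) : ℂ)⁻¹
          * ((Subgroup.centralizer ({((C'.1.out : G) : G ⧸ Q)} : Set (G ⧸ Q))).index : ℂ)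
          * ((ψ : G ⧸ Q → ℂ) ((C'.1.out : G) : G ⧸ Q)
            * conj ((ψ : G ⧸ Q → ℂ) ((C.1.out : G) : G ⧸ Q))) := by
      intro ψ
      have h1 : centralChar (infl ψ : G → ℂ) C'.1.out
          = centralChar (ψ : G ⧸ Q → ℂ) ((C'.1.out : G) : G ⧸ Q) :=
        centralChar_comp_mk_of_centralizes hp Q hQ _ hk'.1 hk'.2 (ψ : G ⧸ Q → ℂ)
      rw [h1]
      have h10 := irr_one_ne_zero ψ.2
      simp only [V]
      unfold centralChar
      field_simp
    rw [Finset.sum_congr rfl (fun ψ _ => e1 ψ), ← Finset.mul_sum]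
    by_cases hCC : C = C'
    · subst hCC
      rw [Matrix.one_apply_eq,
        Cfsg.Agent.Lib.CT.Orth.second_orthogonality_sum_of_isConj _ _ (IsConj.refl _)]
      have h2 := Subgroup.index_mul_card
        (Subgroup.centralizer ({((C.1.out : G) : G ⧸ Q)} : Set (G ⧸ Q)))
      have h3 : (Nat.card (G ⧸ Q) : ℂ) ≠ 0 := Nat.cast_ne_zero.mpr Nat.card_pos.ne'
      rw [← h2] at h3 ⊢
      push_cast at h3 ⊢
      obtain ⟨ha, hb⟩ := mul_ne_zero_iff.mp h3
      field_simp
    · rw [Matrix.one_apply_ne hCC,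
        Cfsg.Agent.Lib.CT.Orth.second_orthogonality_sum_of_not_isConj, mul_zero]
      intro hconj
      apply hCC
      have h4 := isConj_of_isConj_mk hp Q hQ _ _ hk'.1 hk.1 hk.2 hconj
      apply Subtype.ext
      rw [← Quotient.out_eq C.1, ← Quotient.out_eq C'.1]
      exact (ConjClasses.mk_eq_mk_iff_isConj.mpr h4).symm
  -- Claim 1: congruence with the block-wise sum
  have hone : ∀ ψ : IrrCharacter (G ⧸ Q),
      ∑ b : {b : Set (IrrCharacter G) // IsPBlock M b},
        (if infl ψ ∈ b.1 then V C ψ * centralChar (infl ψ : G → ℂ) C'.1.out else 0)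
      = V C ψ * centralChar (infl ψ : G → ℂ) C'.1.out := by
    intro ψ
    rw [Finset.sum_eq_single (⟨blockOf M (infl ψ : G → ℂ), isPBlock_blockOf (infl ψ)⟩ :
      {b : Set (IrrCharacter G) // IsPBlock M b})]
    · rw [if_pos (mem_blockOf_self hMp (infl ψ))]
    · intro b _ hb
      rw [if_neg]
      intro hmem
      apply hb
      apply Subtype.ext
      exact isPBlock_eq_blockOf hMp b.2 hmem
    · intro h
      exact absurd (Finset.mem_univ _) h
  have claim1 : MemLocalIdeal M ((A * W) C C'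
      - ∑ ψ : IrrCharacter (G ⧸ Q), V C ψ * centralChar (infl ψ : G → ℂ) C'.1.out) := by
    rw [← Finset.sum_congr rfl (fun ψ _ => hone ψ), Finset.sum_comm, Matrix.mul_apply,
      ← Finset.sum_sub_distrib]
    apply memLocalIdeal_sum hMp
    intro b _
    simp only [hA, hW]
    rw [Finset.sum_mul, ← Finset.sum_sub_distrib]
    apply memLocalIdeal_sum hMp
    intro ψ _
    by_cases hmem : infl ψ ∈ b.1
    · rw [if_pos hmem, if_pos hmem, ← mul_sub]
      exact memLocalIdeal_mul_left hMp (hV C ψ) (sameBlock_of_mem hMp b.2 (hrep b) hmem _)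
    · rw [if_neg hmem, if_neg hmem, zero_mul, sub_zero]
      exact memLocalIdeal_zero hMp
  rw [← claim2]
  exact claim1

/-- The order of a `p`-subgroup of index prime to `p`. -/
theorem card_eq_of_not_dvd_index [Finite G] {p : ℕ} (hp : p.Prime) (Q : Subgroup G)
    (hQ : IsPGroup p Q) (hidx : ¬ p ∣ Q.index) :
    Nat.card Q = p ^ (Nat.card G).factorization p := by
  have : Fact p.Prime := ⟨hp⟩
  obtain ⟨k, hk⟩ := hQ.exists_card_eq
  have hmul := Q.card_mul_index
  have hi0 : Q.index ≠ 0 := Subgroup.index_ne_zero_of_finite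
  have hfac : (Nat.card G).factorization p = k := by
    rw [← hmul, hk, Nat.factorization_mul (pow_ne_zero k hp.ne_zero) hi0, Finsupp.add_apply,
      hp.factorization_pow, Finsupp.single_eq_same, Nat.factorization_eq_zero_of_not_dvd hidx,
      add_zero]
  rw [hfac, hk]

/-- With a normal Sylow `p`-subgroup, every block has full defect. -/
theorem blockDefect_eq_of_normal_sylow [Finite G] (p : ℕ) [Fact p.Prime] (hM : IsPModular p M)
    (Q : Subgroup G) [hQn : Q.Normal] (hQ : IsPGroup p Q) (hidx : ¬ p ∣ Q.index)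
    (b : Set (IrrCharacter G)) (hb : IsPBlock M b) :
    blockDefect p b = (Nat.card G).factorization p := by
  have hp : p.Prime := Fact.out
  obtain ⟨Db, hDb⟩ := exists_defectGroup hM b hb
  have h1 : Cfsg.pCore p G ≤ Db := Cfsg.Agent.S0912.result p M hM b hb Db hDb
  have h2 : Q ≤ Cfsg.pCore p G := Cfsg.Agent.Lib.Helper78.Fitting.le_pCore hQn hQ
  have hc := card_defectGroup p hM b hb Db hDb
  have hle : Nat.card Q ≤ Nat.card Db := Subgroup.card_le_of_le (h2.trans h1)
  rw [card_eq_of_not_dvd_index hp Q hQ hidx, hc] at hle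
  have h3 := (Nat.pow_le_pow_iff_right hp.one_lt).mp hle
  have h4 : blockDefect p b ≤ (Nat.card G).factorization p := by
    unfold blockDefect
    exact Nat.sub_le _ _
  omega

/-- With a normal Sylow `p`-subgroup `Q`, every block has defect group `Q`. -/
theorem isDefectGroup_of_normal_sylow [Finite G] (p : ℕ) [Fact p.Prime] (hM : IsPModular p M)
    (Q : Subgroup G) [hQn : Q.Normal] (hQ : IsPGroup p Q) (hidx : ¬ p ∣ Q.index)
    (b : Set (IrrCharacter G)) (hb : IsPBlock M b) : IsDefectGroup p M b Q := by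
  have hp : p.Prime := Fact.out
  obtain ⟨Db, hDb⟩ := exists_defectGroup hM b hb
  have h1 : Cfsg.pCore p G ≤ Db := Cfsg.Agent.S0912.result p M hM b hb Db hDb
  have h2 : Q ≤ Cfsg.pCore p G := Cfsg.Agent.Lib.Helper78.Fitting.le_pCore hQn hQ
  have hc := card_defectGroup p hM b hb Db hDb
  rw [blockDefect_eq_of_normal_sylow p hM Q hQ hidx b hb,
    ← card_eq_of_not_dvd_index hp Q hQ hidx] at hc
  have heq : Q = Db := Subgroup.eq_of_le_of_card_ge (h2.trans h1) hc.le
  rw [heq]
  exact hDb

/-- With a normal Sylow `p`-subgroup `Q`, an element whose centralizer has full `p`-part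
centralizes `Q`. -/
theorem mem_centralizer_of_factorization [Finite G] (p : ℕ) [Fact p.Prime] (Q : Subgroup G)
    [Q.Normal] (hQ : IsPGroup p Q) (hidx : ¬ p ∣ Q.index) (g : G)
    (h : (Nat.card (Subgroup.centralizer ({g} : Set G))).factorization p
      = (Nat.card G).factorization p) : g ∈ Subgroup.centralizer (Q : Set G) := by
  have hp : p.Prime := Fact.out
  have hrel : ¬ p ∣ (Q.subgroupOf (Subgroup.centralizer ({g} : Set G))).index := fun hd =>
    hidx (hd.trans (Subgroup.relIndex_dvd_index_of_normal Q _))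
  have h1 := card_eq_of_not_dvd_index hp (Q.subgroupOf (Subgroup.centralizer ({g} : Set G)))
    hQ.comap_subtype hrel
  rw [h, ← card_eq_of_not_dvd_index hp Q hQ hidx] at h1
  have h2 : Nat.card (Q ⊓ Subgroup.centralizer ({g} : Set G) : Subgroup G) = Nat.card Q := by
    rw [← h1, ← Subgroup.inf_subgroupOf_right]
    exact (Nat.card_congr (Subgroup.subgroupOfEquivOfLe inf_le_right).toEquiv).symm
  have h3 : Q ⊓ Subgroup.centralizer ({g} : Set G) = Q :=
    Subgroup.eq_of_le_of_card_ge inf_le_left h2.ge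
  rw [Subgroup.mem_centralizer_iff]
  intro w hw
  have h4 : w ∈ Subgroup.centralizer ({g} : Set G) := by
    rw [← h3] at hw
    exact hw.2
  exact (mem_centralizer_singleton.mp h4).symm

/-- For a normal Sylow `p`-subgroup `Q`, the number of blocks is at most the number of
`p`-regular classes inside `C(Q)`. -/
theorem card_blocks_le_card_classes [Finite G] (p : ℕ) [Fact p.Prime] (hM : IsPModular p M)
    (Q : Subgroup G) [Q.Normal] (hQ : IsPGroup p Q) (hidx : ¬ p ∣ Q.index) :
    Nat.card {b : Set (IrrCharacter G) // IsPBlock M b}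
      ≤ Nat.card {C : ConjClasses G // ∀ n : G, ConjClasses.mk n = C →
        ¬ p ∣ orderOf n ∧ n ∈ Subgroup.centralizer (Q : Set G)} := by
  have h1 := card_blocks_le p M hM ((Nat.card G).factorization p) (G := G)
  have e1 : Nat.card {b : Set (IrrCharacter G) // IsPBlock M b}
      = Nat.card {B : Set (IrrCharacter G) // IsPBlock M B ∧
        blockDefect p B = (Nat.card G).factorization p} :=
    Nat.card_congr (Equiv.subtypeEquivRight (fun b =>
      ⟨fun h => ⟨h, blockDefect_eq_of_normal_sylow p hM Q hQ hidx b h⟩, fun h => h.1⟩))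
  rw [e1]
  refine h1.trans ?_
  refine Nat.card_le_card_of_injective (fun C => ⟨C.1, ?_⟩) ?_
  · intro n hn
    obtain ⟨g, hg, hreg, hfac⟩ := C.2
    have hc : IsConj g n := ConjClasses.mk_eq_mk_iff_isConj.mp (hg.trans hn.symm)
    refine ⟨?_, ?_⟩
    · rwa [← orderOf_eq_of_isConj' hc]
    · apply mem_centralizer_of_factorization p Q hQ hidx n
      rw [← card_centralizer_eq_of_isConj hc]
      exact hfac
  · intro C C' h
    simp only [Subtype.mk.injEq] at h
    exact Subtype.ext h

/-- A block of a subgroup induces at most one block. -/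
theorem induced_unique (hMp : M.IsPrime) (H : Subgroup G) (b : Set (IrrCharacter H))
    (B B' : Set (IrrCharacter G)) (h : IsInducedBlock M H b B) (h' : IsInducedBlock M H b B') :
    B = B' := by
  obtain ⟨ξ, hξ⟩ := isPBlock_nonempty hMp h.1
  obtain ⟨χ, hχ⟩ := isPBlock_nonempty hMp h.2.1
  obtain ⟨χ', hχ'⟩ := isPBlock_nonempty hMp h'.2.1
  have hs : χ' ∈ blockOf M (χ : G → ℂ) := by
    intro g
    have h1 := h.2.2 ξ hξ χ hχ g
    have h2 := h'.2.2 ξ hξ χ' hχ' g
    have h3 := memLocalIdeal_sub hMp h2 h1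
    rwa [sub_sub_sub_cancel_left] at h3
  rw [isPBlock_eq_blockOf hMp h.2.1 hχ, isPBlock_eq_blockOf hMp h'.2.1 hχ']
  exact (blockOf_eq_of_mem hMp hs).symm

/-- The blocks of `G` with the Sylow `p`-subgroup `P` as defect group correspond to the blocks of
`N_G(P)`. -/
theorem card_blocks_defectGroup_sylow [Finite G] (p : ℕ) [Fact p.Prime] (hM : IsPModular p M)
    (P : Sylow p G) :
    Nat.card {B : Set (IrrCharacter G) // IsPBlock M B ∧ IsDefectGroup p M B (P : Subgroup G)}
      = Nat.card {b : Set (IrrCharacter (Subgroup.normalizer ((P : Subgroup G) : Set G))) //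
        IsPBlock M b} := by
  have hp : p.Prime := Fact.out
  have hMp := isPrime_of_isPModular hM
  have hD : IsPGroup p (P : Subgroup G) := P.isPGroup'
  have hDH : (P : Subgroup G) ≤ Subgroup.normalizer ((P : Subgroup G) : Set G) :=
    Subgroup.le_normalizer
  have hCH : Subgroup.centralizer ((P : Subgroup G) : Set G)
      ≤ Subgroup.normalizer ((P : Subgroup G) : Set G) := Subgroup.centralizer_le_normalizer _
  have hn : ((P : Subgroup G).subgroupOf (Subgroup.normalizer ((P : Subgroup G) : Set G))).Normal :=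
    (Subgroup.normal_subgroupOf_iff_le_normalizer hDH).mpr le_rfl
  have hidx' : ¬ p ∣ ((P : Subgroup G).subgroupOf
      (Subgroup.normalizer ((P : Subgroup G) : Set G))).index := fun hd =>
    P.not_dvd_index (hd.trans (Subgroup.relIndex_dvd_index_of_le hDH))
  have hall : ∀ b : Set (IrrCharacter (Subgroup.normalizer ((P : Subgroup G) : Set G))),
      IsPBlock M b → IsDefectGroup p M b ((P : Subgroup G).subgroupOf
        (Subgroup.normalizer ((P : Subgroup G) : Set G))) := fun b hb =>
    isDefectGroup_of_normal_sylow p hM ((P : Subgroup G).subgroupOf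
      (Subgroup.normalizer ((P : Subgroup G) : Set G))) hD.comap_subtype hidx' b hb
  have hex : ∀ b : {b : Set (IrrCharacter (Subgroup.normalizer ((P : Subgroup G) : Set G))) //
      IsPBlock M b}, ∃ B : Set (IrrCharacter G),
        IsInducedBlock M (Subgroup.normalizer ((P : Subgroup G) : Set G)) b.1 B := fun b =>
    Cfsg.Agent.Lib.Helper16.Brauer.inducedBlockDefined_of_local hM (P : Subgroup G)
      (Subgroup.normalizer ((P : Subgroup G) : Set G)) hD hDH hCH le_rfl b.1 b.2
  choose F hF using hex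
  let f : {b : Set (IrrCharacter (Subgroup.normalizer ((P : Subgroup G) : Set G))) //
      IsPBlock M b} → {B : Set (IrrCharacter G) // IsPBlock M B ∧
        IsDefectGroup p M B (P : Subgroup G)} := fun b =>
    ⟨F b, (hF b).2.1, Cfsg.Agent.Lib.Helper16.FirstMain.isDefectGroup_induced p hM (P : Subgroup G)
      b.1 (hall b.1 b.2) (F b) (hF b)⟩
  have hbij : Function.Bijective f := by
    constructor
    · intro b₁ b₂ h
      have h1 : F b₁ = F b₂ := congrArg Subtype.val h
      apply Subtype.ext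
      exact Cfsg.Agent.Lib.Helper16.FirstMain.block_normalizer_unique p hM (P : Subgroup G) (F b₁)
        b₁.1 b₂.1 (hall b₁.1 b₁.2) (hF b₁) (by rw [h1]; exact hF b₂)
    · rintro ⟨B, hB, hDB⟩
      obtain ⟨b, -, hind⟩ := Cfsg.Agent.Lib.Helper16.FirstMain.exists_block_normalizer p hM
        (P : Subgroup G) B hB hDB
      refine ⟨⟨b, hind.1⟩, ?_⟩
      apply Subtype.ext
      exact induced_unique hMp _ b _ _ (hF ⟨b, hind.1⟩) hind
  exact (Nat.card_congr (Equiv.ofBijective f hbij)).symm

/-- The number of blocks with the Sylow `p`-subgroup `P` as defect group equals the number of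
`p`-regular classes of `N_G(P)` inside `C_G(P)`. -/
theorem card_blocks_sylow [Finite G] (p : ℕ) [Fact p.Prime] (hM : IsPModular p M)
    (P : Sylow p G) :
    Nat.card {B : Set (IrrCharacter G) // IsPBlock M B ∧ IsDefectGroup p M B (P : Subgroup G)}
      = Nat.card {C : ConjClasses (Subgroup.normalizer ((P : Subgroup G) : Set G)) //
        ∀ n : Subgroup.normalizer ((P : Subgroup G) : Set G), ConjClasses.mk n = C →
          ¬ p ∣ orderOf n ∧ (n : G) ∈ Subgroup.centralizer ((P : Subgroup G) : Set G)} := by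
  have hD : IsPGroup p (P : Subgroup G) := P.isPGroup'
  have hDH : (P : Subgroup G) ≤ Subgroup.normalizer ((P : Subgroup G) : Set G) :=
    Subgroup.le_normalizer
  have hn : ((P : Subgroup G).subgroupOf (Subgroup.normalizer ((P : Subgroup G) : Set G))).Normal :=
    (Subgroup.normal_subgroupOf_iff_le_normalizer hDH).mpr le_rfl
  have hidx' : ¬ p ∣ ((P : Subgroup G).subgroupOf
      (Subgroup.normalizer ((P : Subgroup G) : Set G))).index := fun hd =>
    P.not_dvd_index (hd.trans (Subgroup.relIndex_dvd_index_of_le hDH))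
  have hiff : ∀ n : Subgroup.normalizer ((P : Subgroup G) : Set G),
      n ∈ Subgroup.centralizer (((P : Subgroup G).subgroupOf
        (Subgroup.normalizer ((P : Subgroup G) : Set G)) : Subgroup _) : Set _)
      ↔ (n : G) ∈ Subgroup.centralizer ((P : Subgroup G) : Set G) := by
    intro n
    rw [Subgroup.mem_centralizer_iff, Subgroup.mem_centralizer_iff]
    constructor
    · intro h w hw
      exact congrArg Subtype.val (h ⟨w, hDH hw⟩ (Subgroup.mem_subgroupOf.mpr hw))
    · intro h w hw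
      exact Subtype.ext (h (w : G) (Subgroup.mem_subgroupOf.mp hw))
  have e2 : Nat.card {C : ConjClasses (Subgroup.normalizer ((P : Subgroup G) : Set G)) //
        ∀ n : Subgroup.normalizer ((P : Subgroup G) : Set G), ConjClasses.mk n = C →
          ¬ p ∣ orderOf n ∧ (n : G) ∈ Subgroup.centralizer ((P : Subgroup G) : Set G)}
      = Nat.card {C : ConjClasses (Subgroup.normalizer ((P : Subgroup G) : Set G)) //
        ∀ n : Subgroup.normalizer ((P : Subgroup G) : Set G), ConjClasses.mk n = C →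
          ¬ p ∣ orderOf n ∧ n ∈ Subgroup.centralizer (((P : Subgroup G).subgroupOf
            (Subgroup.normalizer ((P : Subgroup G) : Set G)) : Subgroup _) : Set _)} :=
    Nat.card_congr (Equiv.subtypeEquivRight (fun C =>
      forall_congr' fun n => imp_congr_right fun _ => and_congr_right fun _ => (hiff n).symm))
  rw [card_blocks_defectGroup_sylow p hM P, e2]
  exact le_antisymm
    (card_blocks_le_card_classes p hM ((P : Subgroup G).subgroupOf
      (Subgroup.normalizer ((P : Subgroup G) : Set G))) hD.comap_subtype hidx')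
    (card_classes_le_card_blocks p hM ((P : Subgroup G).subgroupOf
      (Subgroup.normalizer ((P : Subgroup G) : Set G))) hD.comap_subtype hidx')

end Cfsg.Agent.Lib.Helper16.SylowBlocks
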