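import Mathlib
import Cfsg.Prelude.Def_Blocks
import Cfsg.Agent.Lib.Helper16.FirstMain
import Cfsg.Agent.Lib.Helper77.BPTransport

/-!
# Transfer along `K.subgroupOf H ≃* K` and transitivity of block induction

For `K ≤ H ≤ G`:

* `sIso K H h : K.subgroupOf H ≃* K`.
* `inducedCentralChar_trans`: the induced central character from `K` to `G` as a sum of induced
  central characters from `K` to `H`.
* `isInducedBlock_trans`: `(b^H)^G = b^G`.
-/

set_option autoImplicit false

namespace Cfsg.Agent.Lib.Helper16.Transfer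

open Cfsg Cfsg.Agent.Lib.Helper77.LocalRing Cfsg.Agent.Lib.Helper77.CentralChar
  Cfsg.Agent.Lib.Helper77.BlockIdem Cfsg.Agent.Lib.Helper16.ZR
  Cfsg.Agent.Lib.Helper16.FirstMain Cfsg.Agent.Lib.Helper77.BPTransport
  Cfsg.Agent.Lib.Helper16.Grouping

universe u
variable {G : Type u} [Group G] {M : Ideal AlgInt}

/-- The isomorphism `K.subgroupOf H ≃* K` for `K ≤ H`. -/
noncomputable def sIso (K H : Subgroup G) (h : K ≤ H) : K.subgroupOf H ≃* K :=
  Subgroup.subgroupOfEquivOfLe h

theorem coe_sIso (K H : Subgroup G) (h : K ≤ H) (k : K.subgroupOf H) :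
    ((sIso K H h k : K) : G) = ((k : H) : G) := rfl

theorem coe_sIso_symm (K H : Subgroup G) (h : K ≤ H) (k : K) :
    ((((sIso K H h).symm k : K.subgroupOf H) : H) : G) = (k : G) := rfl

theorem coe_sIso_symm' (K H : Subgroup G) (h : K ≤ H) (k : K) :
    (((sIso K H h).symm k : K.subgroupOf H) : H) = ⟨(k : G), h k.2⟩ := rfl

/-- Transitivity for induced central characters. -/
theorem inducedCentralChar_trans [Finite G] (K H : Subgroup G) (hKH : K ≤ H) (g : G)
    (R : Finset H) (hR1 : ∀ r ∈ R, IsConj g (r : G))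
    (hR2 : ∀ r ∈ R, ∀ r' ∈ R, IsConj r r' → r = r')
    (hR3 : ∀ h : H, IsConj g (h : G) → ∃ r ∈ R, IsConj h r) (ξ : K → ℂ) :
    inducedCentralChar K ξ g
      = ∑ r ∈ R, inducedCentralChar (K.subgroupOf H) (fun k => ξ (sIso K H hKH k)) (r : H) := by
  classical
  cases nonempty_fintype G
  have : Fintype K := Fintype.ofFinite K
  have : Fintype (K.subgroupOf H) := Fintype.ofFinite _
  have hinner : ∀ r : H, inducedCentralChar (K.subgroupOf H) (fun k => ξ (sIso K H hKH k)) r
      = ∑ k : K, if IsConj r (⟨(k : G), hKH k.2⟩ : H) then ξ k / ξ 1 else 0 := by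
    intro r
    unfold inducedCentralChar
    rw [finsum_mem_eq_sum_filter_univ, Finset.sum_filter]
    refine Fintype.sum_equiv (sIso K H hKH).toEquiv _ _ ?_
    intro k'
    have h1 : (⟨((sIso K H hKH k' : K) : G), hKH (sIso K H hKH k').2⟩ : H) = (k' : H) :=
      Subtype.ext rfl
    simp only [MulEquiv.toEquiv_eq_coe, EquivLike.coe_coe, Set.mem_ofPred_eq, map_one, h1]
  have houter : inducedCentralChar K ξ g
      = ∑ k : K, if IsConj g (k : G) then ξ k / ξ 1 else 0 := by
    unfold inducedCentralChar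
    rw [finsum_mem_eq_sum_filter_univ, Finset.sum_filter]
    rfl
  rw [houter, Finset.sum_congr rfl (fun r _ => hinner r), Finset.sum_comm]
  apply Finset.sum_congr rfl
  intro k _
  by_cases hk : IsConj g (k : G)
  · obtain ⟨r₀, hr₀, hc⟩ := hR3 ⟨(k : G), hKH k.2⟩ hk
    rw [Finset.sum_eq_single r₀]
    · rw [if_pos hk, if_pos hc.symm]
    · intro r hr hne
      rw [if_neg]
      intro hc'
      exact hne (hR2 r hr r₀ hr₀ (hc'.trans hc))
    · intro h; exact absurd hr₀ h
  · rw [if_neg hk]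
    symm
    apply Finset.sum_eq_zero
    intro r hr
    rw [if_neg]
    intro hc'
    apply hk
    refine (hR1 r hr).trans ?_
    obtain ⟨c, hc⟩ := isConj_iff.mp hc'
    exact isConj_iff.mpr ⟨(c : G), congrArg Subtype.val hc⟩

theorem pull_symm_image_pull_image {H K : Type u} [Group H] [Group K] (φ : H ≃* K)
    (b : Set (IrrCharacter K)) : pull φ.symm '' (pull φ '' b) = b := by
  rw [Set.image_image]
  simp only [pull_symm_pull, Set.image_id']

theorem pull_image_pull_symm_image {H K : Type u} [Group H] [Group K] (φ : H ≃* K)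
    (b : Set (IrrCharacter H)) : pull φ '' (pull φ.symm '' b) = b := by
  rw [Set.image_image]
  simp only [pull_pull_symm, Set.image_id']

/-- Transitivity of block induction: `(b^H)^G = b^G`. -/
theorem isInducedBlock_trans [Finite G] (hMp : M.IsPrime) (K H : Subgroup G) (hKH : K ≤ H)
    (b' : Set (IrrCharacter (K.subgroupOf H))) (B₁ : Set (IrrCharacter H))
    (B : Set (IrrCharacter G)) (h1 : IsInducedBlock M (K.subgroupOf H) b' B₁)
    (h2 : IsInducedBlock M H B₁ B) :
    IsInducedBlock M K (pull (sIso K H hKH).symm '' b') B := by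
  refine ⟨isPBlock_pull _ h1.1, h2.2.1, ?_⟩
  rintro ξ ⟨ξ', hξ', rfl⟩ χ hχ g
  obtain ⟨ψ, hψ⟩ := isPBlock_nonempty hMp h1.2.1
  obtain ⟨R, hR1, hR2, hR3, hR4⟩ := inducedCentralChar_eq_sum_reps' H g
  rw [inducedCentralChar_trans K H hKH g R hR1 hR2 hR3]
  have hcl : ∀ x k : H, (ψ : H → ℂ) (k * x * k⁻¹) = (ψ : H → ℂ) x := by
    intro x k
    exact irr_conj_inv ψ k x
  have e1 := h2.2.2 ψ hψ χ hχ g
  rw [hR4 _ hcl] at e1
  have hfun : (fun k : K.subgroupOf H =>
      (pull (sIso K H hKH).symm ξ' : K → ℂ) (sIso K H hKH k)) = (ξ' : K.subgroupOf H → ℂ) := by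
    funext k
    rw [pull_apply, MulEquiv.symm_apply_apply]
  rw [hfun]
  have e2 : MemLocalIdeal M (∑ r ∈ R, (inducedCentralChar (K.subgroupOf H)
      (ξ' : K.subgroupOf H → ℂ) (r : H) - centralChar (ψ : H → ℂ) r)) :=
    memLocalIdeal_sum hMp _ _ (fun r _ => h1.2.2 ξ' hξ' ψ hψ r)
  rw [Finset.sum_sub_distrib] at e2
  have := memLocalIdeal_add hMp e2 e1
  rwa [sub_add_sub_cancel] at this

/-- Converse transitivity: if `b^H = B₁` and `b^G = B` then `B₁^G = B`. -/
theorem isInducedBlock_of_trans [Finite G] (hMp : M.IsPrime) (K H : Subgroup G) (hKH : K ≤ H)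
    (b' : Set (IrrCharacter (K.subgroupOf H))) (B₁ : Set (IrrCharacter H))
    (B : Set (IrrCharacter G)) (h1 : IsInducedBlock M (K.subgroupOf H) b' B₁)
    (h2 : IsInducedBlock M K (pull (sIso K H hKH).symm '' b') B) :
    IsInducedBlock M H B₁ B := by
  refine ⟨h1.2.1, h2.2.1, ?_⟩
  intro ψ hψ χ hχ g
  obtain ⟨ξ', hξ'⟩ := isPBlock_nonempty hMp h1.1
  obtain ⟨R, hR1, hR2, hR3, hR4⟩ := inducedCentralChar_eq_sum_reps' H g
  have e1 := h2.2.2 (pull (sIso K H hKH).symm ξ') ⟨ξ', hξ', rfl⟩ χ hχ g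
  rw [inducedCentralChar_trans K H hKH g R hR1 hR2 hR3] at e1
  have hfun : (fun k : K.subgroupOf H =>
      (pull (sIso K H hKH).symm ξ' : K → ℂ) (sIso K H hKH k)) = (ξ' : K.subgroupOf H → ℂ) := by
    funext k
    rw [pull_apply, MulEquiv.symm_apply_apply]
  rw [hfun] at e1
  rw [hR4 _ (fun x k => irr_conj_inv ψ k x)]
  have e2 : MemLocalIdeal M (∑ r ∈ R, (inducedCentralChar (K.subgroupOf H)
      (ξ' : K.subgroupOf H → ℂ) (r : H) - centralChar (ψ : H → ℂ) r)) :=
    memLocalIdeal_sum hMp _ _ (fun r _ => h1.2.2 ξ' hξ' ψ hψ r)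
  rw [Finset.sum_sub_distrib] at e2
  have := memLocalIdeal_sub hMp e1 e2
  rwa [sub_sub_sub_cancel_left] at this

theorem charDegree_pull {H K : Type u} [Group H] [Group K] (φ : H ≃* K) (χ : IrrCharacter K) :
    charDegree (pull φ χ : H → ℂ) = charDegree (χ : K → ℂ) := by
  unfold charDegree
  rw [pull_apply, map_one]

theorem blockDefect_pull {H K : Type u} [Group H] [Group K] (p : ℕ) (φ : H ≃* K)
    (f : Set (IrrCharacter K)) : blockDefect p (pull φ '' f) = blockDefect p f := by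
  unfold blockDefect
  rw [Nat.card_congr φ.toEquiv, Set.image_image]
  simp only [charDegree_pull]

/-- Restriction to `K.subgroupOf H` against a pulled back character. -/
theorem classInner_pull_subgroupOf (K H : Subgroup G) (hKH : K ≤ H) [Fintype K]
    [Fintype (K.subgroupOf H)] (χ : H → ℂ) (θ : IrrCharacter K) :
    classInner (fun k : K.subgroupOf H => χ k) (pull (sIso K H hKH) θ : K.subgroupOf H → ℂ)
      = classInner (fun k : K => χ ⟨k, hKH k.2⟩) (θ : K → ℂ) := by
  unfold classInner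
  rw [Nat.card_congr (sIso K H hKH).toEquiv]
  congr 1
  refine Fintype.sum_equiv (sIso K H hKH).toEquiv _ _ ?_
  intro k
  have h1 : (⟨((sIso K H hKH k : K) : G), hKH (sIso K H hKH k).2⟩ : H) = (k : H) :=
    Subtype.ext rfl
  simp only [MulEquiv.toEquiv_eq_coe, EquivLike.coe_coe, pull_apply, h1]

end Cfsg.Agent.Lib.Helper16.Transfer
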