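import Mathlib
import Cfsg.Prelude.Def_Blocks
import Cfsg.Agent.Lib.Helper16.Transfer
import Cfsg.Agent.Lib.Helper16.Cover2
import Cfsg.Agent.Lib.Helper16.Cover3
import Cfsg.Agent.Lib.Helper16.Cover4
import Cfsg.Agent.S0912
import Cfsg.Agent.S0964
import Cfsg.Agent.Lib.Helper16.SylowBlocks

/-!
# The extended first main theorem

`P` a `p`-subgroup, `C_G(P) ≤ L ≤ N_G(P)` with `P ≤ L` and `L ⊴ N_G(P)`.

* `isInducedBlock_of_cover_normalizer`: a block of `N_G(P)` covering a block `b'` of `L` is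
  `b'^{N_G(P)}`.
* `exists_block_centralizer`: a block `B` with defect group `P` is induced from a block of `L`
  with defect group `P`.
* `conj_of_induced`: two blocks of `L` inducing `B` are `N_G(P)`-conjugate.
-/

set_option autoImplicit false

namespace Cfsg.Agent.Lib.Helper16.ExtFirst

open Cfsg Cfsg.Agent.Lib.Helper77.LocalRing Cfsg.Agent.Lib.Helper77.CentralChar
  Cfsg.Agent.Lib.Helper77.BlockIdem Cfsg.Agent.Lib.Helper16.ZR
  Cfsg.Agent.Lib.Helper16.FirstMain Cfsg.Agent.Lib.Helper77.BPTransport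
  Cfsg.Agent.Lib.Helper16.Transfer Cfsg.Agent.Lib.Helper16.MinMax
  Cfsg.Agent.Lib.Helper16.IndBlock Cfsg.Agent.Lib.Helper16.Normal
  Cfsg.Agent.Lib.Helper16.Cover3 Cfsg.Agent.Lib.Helper16.SylowBlocks

universe u
variable {G : Type u} [Group G] {M : Ideal AlgInt}

theorem centralizer_subgroupOf_le (P L : Subgroup G)
    (hCL : Subgroup.centralizer (P : Set G) ≤ L) :
    Subgroup.centralizer ((P.subgroupOf (Subgroup.normalizer (P : Set G)) :
      Subgroup (Subgroup.normalizer (P : Set G))) : Set (Subgroup.normalizer (P : Set G)))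
      ≤ L.subgroupOf (Subgroup.normalizer (P : Set G)) := by
  intro n hn
  rw [Subgroup.mem_subgroupOf]
  apply hCL
  rw [Subgroup.mem_centralizer_iff]
  intro x hx
  have := hn ⟨x, Subgroup.le_normalizer hx⟩
    (by rw [SetLike.mem_coe, Subgroup.mem_subgroupOf]; exact hx)
  exact congrArg Subtype.val this

theorem isPGroup_subgroupOf {p : ℕ} (P K : Subgroup G) (hP : IsPGroup p P) :
    IsPGroup p (P.subgroupOf K) :=
  hP.comap_of_injective K.subtype (Subgroup.subtype_injective K)

/-- A block of `N_G(P)` covering a block `b'` of `L` is `b'^{N_G(P)}`. -/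
theorem isInducedBlock_of_cover_normalizer [Finite G] {p : ℕ} [Fact p.Prime]
    (hM : IsPModular p M) (P : Subgroup G) (hP : IsPGroup p P) (L : Subgroup G)
    (hCL : Subgroup.centralizer (P : Set G) ≤ L)
    [hn : (L.subgroupOf (Subgroup.normalizer (P : Set G))).Normal]
    [Fintype (Subgroup.normalizer (P : Set G))]
    [Fintype (L.subgroupOf (Subgroup.normalizer (P : Set G)))]
    (b' : Set (IrrCharacter (L.subgroupOf (Subgroup.normalizer (P : Set G)))))
    (hb' : IsPBlock M b') (B₁ : Set (IrrCharacter (Subgroup.normalizer (P : Set G))))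
    (hB₁ : IsPBlock M B₁) (χ : IrrCharacter (Subgroup.normalizer (P : Set G))) (hχ : χ ∈ B₁)
    (θ : IrrCharacter (L.subgroupOf (Subgroup.normalizer (P : Set G)))) (hθ : θ ∈ b')
    (hcon : classInner (fun n : L.subgroupOf (Subgroup.normalizer (P : Set G)) =>
      (χ : Subgroup.normalizer (P : Set G) → ℂ) n) (θ : _ → ℂ) ≠ 0) :
    IsInducedBlock M (L.subgroupOf (Subgroup.normalizer (P : Set G))) b' B₁ :=
  Cfsg.Agent.Lib.Helper16.Cover2.isInducedBlock_of_cover hM
    (P.subgroupOf (Subgroup.normalizer (P : Set G))) (isPGroup_subgroupOf P _ hP)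
    (L.subgroupOf (Subgroup.normalizer (P : Set G))) (centralizer_subgroupOf_le P L hCL)
    b' hb' B₁ hB₁ χ hχ θ hθ hcon

/-- A block `B` with defect group `P` is induced from a block of `L` with defect group `P`. -/
theorem exists_block_centralizer [Finite G] (p : ℕ) [Fact p.Prime] (hM : IsPModular p M)
    (P L : Subgroup G) (hPL : P ≤ L) (hCL : Subgroup.centralizer (P : Set G) ≤ L)
    (hLN : L ≤ Subgroup.normalizer (P : Set G))
    [hn : (L.subgroupOf (Subgroup.normalizer (P : Set G))).Normal]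
    (B : Set (IrrCharacter G)) (hB : IsPBlock M B) (hP : IsDefectGroup p M B P) :
    ∃ b : Set (IrrCharacter L), IsDefectGroup p M b (P.subgroupOf L) ∧
      IsInducedBlock M L b B := by
  classical
  have hMp := isPrime_of_isPModular hM
  cases nonempty_fintype G
  haveI : Fintype (Subgroup.normalizer (P : Set G)) := Fintype.ofFinite _
  haveI : Fintype (L.subgroupOf (Subgroup.normalizer (P : Set G))) := Fintype.ofFinite _
  have hPp : IsPGroup p P := by
    obtain ⟨g, -, hg⟩ := isDefectGroup_iff.mp hP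
    exact hg.2.1
  obtain ⟨B₀, hB₀D, hB₀ind⟩ := exists_block_normalizer p hM P B hB hP
  obtain ⟨χ, hχ⟩ := isPBlock_nonempty hMp hB₀ind.1
  obtain ⟨θ', hθ'⟩ := Cfsg.Agent.Lib.Helper16.Cover.exists_constituent
    (L.subgroupOf (Subgroup.normalizer (P : Set G))) χ
  have h1 : IsInducedBlock M (L.subgroupOf (Subgroup.normalizer (P : Set G)))
      (blockOf M (θ' : _ → ℂ)) B₀ :=
    isInducedBlock_of_cover_normalizer hM P hPp L hCL _ (isPBlock_blockOf θ') B₀ hB₀ind.1 χ hχ
      θ' (mem_blockOf_self hMp θ') hθ'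
  have h2 := isInducedBlock_trans hMp L _ hLN _ B₀ B h1 hB₀ind
  refine ⟨_, ?_, h2⟩
  obtain ⟨Db, hDb⟩ := exists_defectGroup hM _ h2.1
  have hle : P.subgroupOf L ≤ Db := by
    refine le_trans ?_ (Cfsg.Agent.S0912.result p M hM _ h2.1 Db hDb)
    apply le_sSup
    refine ⟨(Subgroup.normal_subgroupOf_iff_le_normalizer hPL).mpr hLN, ?_⟩
    exact isPGroup_subgroupOf P L hPp
  obtain ⟨E, hE, hDE⟩ := defectGroup_le_of_induced hM L _ B h2 Db hDb
  obtain ⟨x, hx⟩ := defectGroup_conj hM B hB hP hE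
  have hcard : Nat.card Db ≤ Nat.card (P.subgroupOf L) := by
    have e1 : Nat.card (Db.map L.subtype) = Nat.card Db :=
      Subgroup.card_map_of_injective (Subgroup.subtype_injective L)
    have e2 : Nat.card E = Nat.card P := by
      rw [hx]
      exact Subgroup.card_map_of_injective (MulAut.conj x).injective
    have e3 : Nat.card (P.subgroupOf L) = Nat.card P :=
      Nat.card_congr (sIso P L hPL).toEquiv
    rw [e3, ← e2, ← e1]
    exact Subgroup.card_le_of_le hDE
  have := Subgroup.eq_of_le_of_card_ge hle hcard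
  rw [this]
  exact hDb

/-- The first-main block `B₀` of `N_G(P)` covers the pull-back of every block `b` of `L` with
`b^G = B`. -/
theorem exists_over_of_induced [Finite G] (p : ℕ) [Fact p.Prime] (hM : IsPModular p M)
    (P L : Subgroup G) (hPp : IsPGroup p P) (hCL : Subgroup.centralizer (P : Set G) ≤ L)
    (hLN : L ≤ Subgroup.normalizer (P : Set G))
    [hn : (L.subgroupOf (Subgroup.normalizer (P : Set G))).Normal]
    [Fintype (Subgroup.normalizer (P : Set G))]
    [Fintype (L.subgroupOf (Subgroup.normalizer (P : Set G)))]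
    (B : Set (IrrCharacter G)) (B₀ : Set (IrrCharacter (Subgroup.normalizer (P : Set G))))
    (hB₀D : IsDefectGroup p M B₀ (P.subgroupOf (Subgroup.normalizer (P : Set G))))
    (hB₀ind : IsInducedBlock M (Subgroup.normalizer (P : Set G)) B₀ B)
    (b : Set (IrrCharacter L)) (h : IsInducedBlock M L b B) :
    ∃ χ ∈ B₀, ∃ θ ∈ pull (sIso L (Subgroup.normalizer (P : Set G)) hLN) '' b,
      classInner (fun n : L.subgroupOf (Subgroup.normalizer (P : Set G)) =>
        (χ : Subgroup.normalizer (P : Set G) → ℂ) n) (θ : _ → ℂ) ≠ 0 := by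
  classical
  have hMp := isPrime_of_isPModular hM
  have hb₁ : IsPBlock M (pull (sIso L (Subgroup.normalizer (P : Set G)) hLN) '' b) := isPBlock_pull _ h.1
  obtain ⟨θ₁, hθ₁⟩ := isPBlock_nonempty hMp hb₁
  obtain ⟨χ₁, hχ₁⟩ := Cfsg.Agent.Lib.Helper16.Cover4.exists_over
    (L.subgroupOf (Subgroup.normalizer (P : Set G))) θ₁
  have h1 : IsInducedBlock M (L.subgroupOf (Subgroup.normalizer (P : Set G)))
      (pull (sIso L (Subgroup.normalizer (P : Set G)) hLN) '' b) (blockOf M (χ₁ : Subgroup.normalizer (P : Set G) → ℂ)) :=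
    isInducedBlock_of_cover_normalizer hM P hPp L hCL _ hb₁ _ (isPBlock_blockOf χ₁) χ₁
      (mem_blockOf_self hMp χ₁) θ₁ hθ₁ hχ₁
  have h2 : IsInducedBlock M (Subgroup.normalizer (P : Set G)) (blockOf M (χ₁ : Subgroup.normalizer (P : Set G) → ℂ)) B := by
    apply isInducedBlock_of_trans hMp L _ hLN _ _ B h1
    rw [pull_symm_image_pull_image]
    exact h
  have := block_normalizer_unique p hM P B B₀ (blockOf M (χ₁ : Subgroup.normalizer (P : Set G) → ℂ)) hB₀D hB₀ind h2
  exact ⟨χ₁, this ▸ mem_blockOf_self hMp χ₁, θ₁, hθ₁, hχ₁⟩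

/-- Two blocks of `L` inducing a block `B` with defect group `P` are `N_G(P)`-conjugate. -/
theorem conj_of_induced [Finite G] (p : ℕ) [Fact p.Prime] (hM : IsPModular p M)
    (P L : Subgroup G) (hCL : Subgroup.centralizer (P : Set G) ≤ L)
    (hLN : L ≤ Subgroup.normalizer (P : Set G))
    [hn : (L.subgroupOf (Subgroup.normalizer (P : Set G))).Normal]
    (B : Set (IrrCharacter G)) (hB : IsPBlock M B) (hP : IsDefectGroup p M B P)
    (b b' : Set (IrrCharacter L)) (h : IsInducedBlock M L b B)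
    (h' : IsInducedBlock M L b' B) :
    ∃ g : Subgroup.normalizer (P : Set G), ∀ θ ∈ pull (sIso L (Subgroup.normalizer (P : Set G)) hLN) '' b,
      cI (L.subgroupOf (Subgroup.normalizer (P : Set G))) hn g θ
        ∈ pull (sIso L (Subgroup.normalizer (P : Set G)) hLN) '' b' := by
  classical
  have hMp := isPrime_of_isPModular hM
  cases nonempty_fintype G
  haveI : Fintype (Subgroup.normalizer (P : Set G)) := Fintype.ofFinite _
  haveI : Fintype (L.subgroupOf (Subgroup.normalizer (P : Set G))) := Fintype.ofFinite _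
  have hPp : IsPGroup p P := by
    obtain ⟨g, -, hg⟩ := isDefectGroup_iff.mp hP
    exact hg.2.1
  obtain ⟨B₀, hB₀D, hB₀ind⟩ := exists_block_normalizer p hM P B hB hP
  obtain ⟨χ₁, hχ₁, θ₁, hθ₁, hc₁⟩ :=
    exists_over_of_induced p hM P L hPp hCL hLN B B₀ hB₀D hB₀ind b h
  obtain ⟨χ₂, hχ₂, θ₂, hθ₂, hc₂⟩ :=
    exists_over_of_induced p hM P L hPp hCL hLN B B₀ hB₀D hB₀ind b' h'
  have hb₁ : IsPBlock M (pull (sIso L (Subgroup.normalizer (P : Set G)) hLN) '' b) := isPBlock_pull _ h.1
  have hb₂ : IsPBlock M (pull (sIso L (Subgroup.normalizer (P : Set G)) hLN) '' b') := isPBlock_pull _ h'.1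
  obtain ⟨g, θ'', hθ'', hg⟩ := Cfsg.Agent.S0964.result p M hM
    (L.subgroupOf (Subgroup.normalizer (P : Set G))) B₀ hB₀ind.1
    (pull (sIso L (Subgroup.normalizer (P : Set G)) hLN) '' b) hb₁ χ₁ hχ₁ θ₁ hθ₁ hc₁
    χ₂ hχ₂ θ₂ hc₂
  have hθ₂eq : θ₂ = cI (L.subgroupOf (Subgroup.normalizer (P : Set G))) hn g θ'' :=
    Subtype.ext (funext fun n => by rw [cI_apply]; exact hg n)
  refine ⟨g, fun θ hθ => ?_⟩
  have hs : SameBlock M (θ'' : L.subgroupOf (Subgroup.normalizer (P : Set G)) → ℂ)
      (θ : L.subgroupOf (Subgroup.normalizer (P : Set G)) → ℂ) :=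
    sameBlock_of_mem hMp hb₁ hθ'' hθ
  have hs' := sameBlock_cI (M := M) (L.subgroupOf (Subgroup.normalizer (P : Set G))) hn g θ'' θ hs
  rw [isPBlock_eq_blockOf hMp hb₂ hθ₂, hθ₂eq]
  exact hs'

/-- `L = P·C_G(P)` is normal in `N_G(P)`. -/
instance normal_sup_centralizer (P : Subgroup G) :
    ((P ⊔ Subgroup.centralizer (P : Set G)).subgroupOf (Subgroup.normalizer (P : Set G))).Normal := by
  rw [Subgroup.subgroupOf_sup Subgroup.le_normalizer (Subgroup.centralizer_le_normalizer _)]
  infer_instance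

theorem sup_centralizer_le_normalizer (P : Subgroup G) :
    P ⊔ Subgroup.centralizer (P : Set G) ≤ Subgroup.normalizer (P : Set G) :=
  sup_le Subgroup.le_normalizer (Subgroup.centralizer_le_normalizer _)

end Cfsg.Agent.Lib.Helper16.ExtFirst
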