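import Mathlib
import Cfsg.Prelude.Def_Blocks
import Cfsg.Agent.Lib.Helper16.Normal
import Cfsg.Agent.Lib.Helper16.Cover3

/-!
# Fong–Reynolds, part 1: the idempotent of a stable block inside an intermediate subgroup

`N ◁ G`, `N ≤ T ≤ G`, `b` a set of irreducible characters of `N` stabilised by `T`.

* `pair_blockIdem`: `φ(e_S) = Σ_{θ ∈ S} θ(1) [φ, θ]` for a function `φ` on `N`.
* `pair_blockIdem_nat`: for a character `φ` this is a natural number, zero iff no member of `S`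
  is a constituent of `φ`.
* `incl hNT`: the inclusion `ℂ[N] → ℂ[T]`; `incl_mem_center`, `pair_incl`, coefficients.
* `coeff_blockIdem_conj`: invariance of the coefficients of `e_S` under an element stabilising
  `S`.
* `omega_incl_blockIdem_eq_one_iff`, `omega_incl_blockIdem_eq_zero_iff`: for `ψ ∈ Irr(T)`,
  `ω_ψ(e_b)` is `1` or `0` according as `ψ` lies over `b` or not.
* `covers_of_sameBlock`: lying over `b` is constant on blocks of `T`.
-/

set_option autoImplicit false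

namespace Cfsg.Agent.Lib.Helper16.FR1

open Cfsg Cfsg.Agent.Lib.Helper77.LocalRing Cfsg.Agent.Lib.Helper77.CentralChar
  Cfsg.Agent.Lib.Helper77.ClassSum Cfsg.Agent.Lib.Helper77.BlockIdem
  Cfsg.Agent.Lib.CT.Wedderburn Cfsg.Agent.Lib.Helper16.ZR Cfsg.Agent.Lib.CT.Clifford
  Cfsg.Agent.Lib.Helper16.Normal
open scoped ComplexConjugate

universe u

section General

variable {A : Type u} [Group A]

theorem pair_blockIdem [Fintype A] [Fintype (IrrCharacter A)] (S : Set (IrrCharacter A))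
    (φ : A → ℂ) :
    pair φ (blockIdem S) = ∑ θ : IrrCharacter A,
      S.indicator (fun θ : IrrCharacter A => (θ : A → ℂ) 1 * classInner φ (θ : A → ℂ)) θ := by
  classical
  unfold blockIdem
  rw [pair_ofFun]
  have h1 : ∀ n : A, blockCoeff S n * φ n = ∑ θ : IrrCharacter A,
      S.indicator (fun θ : IrrCharacter A => (θ : A → ℂ) 1 * ((Nat.card A : ℂ)⁻¹ *
        (φ n * (θ : A → ℂ) n⁻¹))) θ := by
    intro n
    rw [blockCoeff_eq_sum, Finset.mul_sum, Finset.sum_mul]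
    apply Finset.sum_congr rfl
    intro θ _
    by_cases hθ : θ ∈ S
    · rw [Set.indicator_of_mem hθ, Set.indicator_of_mem hθ]
      ring
    · rw [Set.indicator_of_notMem hθ, Set.indicator_of_notMem hθ]
      ring
  simp only [h1]
  rw [Finset.sum_comm]
  apply Finset.sum_congr rfl
  intro θ _
  by_cases hθ : θ ∈ S
  · simp only [Set.indicator_of_mem hθ]
    rw [classInner_eq_sum_mul_inv _ (isCharacter_of_irr θ.2), Finset.mul_sum, Finset.mul_sum]
  · simp only [Set.indicator_of_notMem hθ]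
    exact Finset.sum_const_zero

/-- For a character `φ`, `φ(e_S)` is a natural number, and it vanishes exactly when no member of
`S` is a constituent of `φ`. -/
theorem pair_blockIdem_nat [Fintype A] (S : Set (IrrCharacter A)) (φ : A → ℂ)
    (hφ : IsCharacter A φ) :
    ∃ m : ℕ, pair φ (blockIdem S) = m ∧
      (m = 0 ↔ ∀ θ ∈ S, classInner φ (θ : A → ℂ) = 0) := by
  classical
  have := finite_irrCharacter A
  have := Fintype.ofFinite (IrrCharacter A)
  rw [pair_blockIdem]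
  have hnat : ∀ θ : IrrCharacter A, ∃ m : ℕ, (θ : A → ℂ) 1 * classInner φ (θ : A → ℂ) = m ∧
      (m = 0 ↔ classInner φ (θ : A → ℂ) = 0) := by
    intro θ
    obtain ⟨a, ha0, ha⟩ := irr_exists_apply_one_pos θ.2
    obtain ⟨c, hc⟩ := classInner_char_nat hφ (isCharacter_of_irr θ.2)
    refine ⟨a * c, by rw [ha, hc]; push_cast; ring, ?_⟩
    rw [hc]
    constructor
    · intro h
      rcases Nat.mul_eq_zero.mp h with h | h
      · omega
      · rw [h, Nat.cast_zero]
    · intro h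
      have hc0 : c = 0 := by exact_mod_cast h
      rw [hc0, mul_zero]
  choose m hm hm0 using hnat
  refine ⟨∑ θ : IrrCharacter A, S.indicator m θ, ?_, ?_⟩
  · rw [Nat.cast_sum]
    apply Finset.sum_congr rfl
    intro θ _
    by_cases hθ : θ ∈ S
    · rw [Set.indicator_of_mem hθ, Set.indicator_of_mem hθ, hm]
    · rw [Set.indicator_of_notMem hθ, Set.indicator_of_notMem hθ, Nat.cast_zero]
  · rw [Finset.sum_eq_zero_iff]
    constructor
    · intro h θ hθ
      have h1 := h θ (Finset.mem_univ θ)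
      rw [Set.indicator_of_mem hθ] at h1
      exact (hm0 θ).mp h1
    · intro h θ _
      by_cases hθ : θ ∈ S
      · rw [Set.indicator_of_mem hθ]
        exact (hm0 θ).mpr (h θ hθ)
      · rw [Set.indicator_of_notMem hθ]

end General

variable {G : Type u} [Group G]

/-- The inclusion `ℂ[N] → ℂ[T]` for `N ≤ T`. -/
noncomputable def incl {N T : Subgroup G} (hNT : N ≤ T) :
    MonoidAlgebra ℂ N →ₐ[ℂ] MonoidAlgebra ℂ T :=
  MonoidAlgebra.mapDomainAlgHom ℂ ℂ (Subgroup.inclusion hNT)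

theorem incl_single {N T : Subgroup G} (hNT : N ≤ T) (n : N) (c : ℂ) :
    incl hNT (MonoidAlgebra.single n c)
      = MonoidAlgebra.single (⟨(n : G), hNT n.2⟩ : T) c := by
  unfold incl
  rw [MonoidAlgebra.mapDomainAlgHom_apply, MonoidAlgebra.mapDomain_single]
  rfl

theorem coeff_incl_coe {N T : Subgroup G} (hNT : N ≤ T) (a : MonoidAlgebra ℂ N) (n : N) :
    (incl hNT a).coeff (⟨(n : G), hNT n.2⟩ : T) = a.coeff n := by
  change (Finsupp.mapDomain (Subgroup.inclusion hNT) a.coeff) (Subgroup.inclusion hNT n)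
    = a.coeff n
  exact Finsupp.mapDomain_apply (Subgroup.inclusion_injective hNT) _ _

theorem coeff_incl_of_not_mem {N T : Subgroup G} (hNT : N ≤ T) (a : MonoidAlgebra ℂ N) (t : T)
    (ht : (t : G) ∉ N) : (incl hNT a).coeff t = 0 := by
  change (Finsupp.mapDomain (Subgroup.inclusion hNT) a.coeff) t = 0
  apply Finsupp.mapDomain_of_notMem_range
  rintro ⟨n, rfl⟩
  exact ht n.2

theorem pair_incl {N T : Subgroup G} (hNT : N ≤ T) (ψ : T → ℂ) (a : MonoidAlgebra ℂ N) :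
    pair ψ (incl hNT a) = pair (fun n : N => ψ ⟨(n : G), hNT n.2⟩) a := by
  induction a using MonoidAlgebra.induction_on with
  | of n => rw [MonoidAlgebra.of_apply, incl_single, pair_single, pair_single]
  | add x y hx hy => rw [map_add, pair_add, pair_add, hx, hy]
  | smul r x hx => rw [map_smul, pair_smul, pair_smul, hx]

theorem incl_mem_center {N T : Subgroup G} (hN : N.Normal) (hNT : N ≤ T)
    (a : MonoidAlgebra ℂ N)
    (ha : ∀ (t : T) (n : N), a.coeff ⟨(t : G) * n * (t : G)⁻¹, hN.conj_mem n n.2 t⟩ = a.coeff n) :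
    incl hNT a ∈ Zc T := by
  rw [mem_center_iff]
  intro x g
  by_cases hg : (g : G) ∈ N
  · have h1 : (x : G) * g * (x : G)⁻¹ ∈ N := hN.conj_mem g hg x
    have e1 := coeff_incl_coe hNT a ⟨(x : G) * g * (x : G)⁻¹, h1⟩
    have e2 := coeff_incl_coe hNT a ⟨(g : G), hg⟩
    have e3 : (⟨(x : G) * g * (x : G)⁻¹, hNT h1⟩ : T) = x * g * x⁻¹ := Subtype.ext (by simp)
    have e4 : (⟨(g : G), hNT hg⟩ : T) = g := Subtype.ext rfl
    simp only [e3, e4] at e1 e2
    rw [e1, e2]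
    exact ha x ⟨g, hg⟩
  · have h1 : ((x * g * x⁻¹ : T) : G) ∉ N := by
      intro h
      apply hg
      have h2 := hN.conj_mem _ h (x : G)⁻¹
      simpa [mul_assoc] using h2
    rw [coeff_incl_of_not_mem hNT _ _ h1, coeff_incl_of_not_mem hNT _ _ hg]

theorem coeff_incl_memLocalRing {M : Ideal AlgInt} (hMp : M.IsPrime) {N T : Subgroup G}
    (hNT : N ≤ T) (a : MonoidAlgebra ℂ N) (ha : ∀ n : N, MemLocalRing M (a.coeff n)) (t : T) :
    MemLocalRing M ((incl hNT a).coeff t) := by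
  by_cases ht : (t : G) ∈ N
  · have h1 := coeff_incl_coe hNT a ⟨(t : G), ht⟩
    have e4 : (⟨(t : G), hNT ht⟩ : T) = t := Subtype.ext rfl
    simp only [e4] at h1
    rw [h1]
    exact ha _
  · rw [coeff_incl_of_not_mem hNT a t ht]
    exact memLocalRing_zero hMp

/-- Invariance of the coefficients of `e_S` under an element stabilising `S`. -/
theorem coeff_blockIdem_conj [Finite G] (N : Subgroup G) (hN : N.Normal)
    (S : Set (IrrCharacter N)) (g : G)
    (hg : ∀ θ : IrrCharacter N, cI N hN g⁻¹ θ ∈ S ↔ θ ∈ S) (n : N) :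
    (blockIdem S).coeff ⟨g * n * g⁻¹, hN.conj_mem n n.2 g⟩ = (blockIdem S).coeff n := by
  classical
  have : Fintype N := Fintype.ofFinite N
  have := finite_irrCharacter N
  have := Fintype.ofFinite (IrrCharacter N)
  rw [coeff_blockIdem, coeff_blockIdem, blockCoeff_eq_sum, blockCoeff_eq_sum]
  congr 1
  rw [← Equiv.sum_comp (cIEquiv N hN g⁻¹)]
  apply Finset.sum_congr rfl
  intro θ _
  have hmem : cIEquiv N hN g⁻¹ θ ∈ S ↔ θ ∈ S := hg θ
  by_cases hθ : θ ∈ S
  · rw [Set.indicator_of_mem hθ, Set.indicator_of_mem (hmem.mpr hθ)]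
    have e1 : ((cIEquiv N hN g⁻¹ θ : IrrCharacter N) : N → ℂ) 1 = (θ : N → ℂ) 1 := by
      change (cI N hN g⁻¹ θ : N → ℂ) 1 = _
      rw [cI_apply]
      exact congrArg _ (Subtype.ext (by simp))
    have e2 : ((cIEquiv N hN g⁻¹ θ : IrrCharacter N) : N → ℂ)
        (⟨g * n * g⁻¹, hN.conj_mem n n.2 g⟩ : N)⁻¹ = (θ : N → ℂ) n⁻¹ := by
      change (cI N hN g⁻¹ θ : N → ℂ) _ = _
      rw [cI_apply]
      exact congrArg _ (Subtype.ext (by simp [mul_assoc]))
    rw [e1, e2]
  · rw [Set.indicator_of_notMem hθ, Set.indicator_of_notMem (fun h => hθ (hmem.mp h))]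

section Stable

variable {M : Ideal AlgInt} (N : Subgroup G) (hN : N.Normal) (T : Subgroup G) (hNT : N ≤ T)
  (b : Set (IrrCharacter N))

theorem cI_inv_mem_iff (hT : ∀ g : G, g ∈ T ↔ ∀ θ ∈ b, cI N hN g θ ∈ b) (t : G) (ht : t ∈ T)
    (θ : IrrCharacter N) : cI N hN t⁻¹ θ ∈ b ↔ θ ∈ b := by
  constructor
  · intro h
    have h1 := (hT t).mp ht _ h
    rwa [cI_cI, inv_mul_cancel, cI_one] at h1
  · intro h
    exact (hT t⁻¹).mp (T.inv_mem ht) θ h

theorem cI_mem_iff_of_mem (hT : ∀ g : G, g ∈ T ↔ ∀ θ ∈ b, cI N hN g θ ∈ b) (t : G) (ht : t ∈ T)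
    (θ : IrrCharacter N) : cI N hN t θ ∈ b ↔ θ ∈ b := by
  have h := cI_inv_mem_iff N hN T b hT t⁻¹ (T.inv_mem ht) θ
  rwa [inv_inv] at h

include hN in
theorem incl_blockIdem_mem_center [Finite G]
    (hT : ∀ g : G, g ∈ T ↔ ∀ θ ∈ b, cI N hN g θ ∈ b) :
    incl hNT (blockIdem b) ∈ Zc T :=
  incl_mem_center hN hNT _ (fun t n =>
    coeff_blockIdem_conj N hN b t (cI_inv_mem_iff N hN T b hT t t.2) n)

theorem incl_blockIdem_mul_self [Finite G] :
    incl hNT (blockIdem b) * incl hNT (blockIdem b) = incl hNT (blockIdem b) := by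
  rw [← map_mul, blockIdem_mul_self]

include hN in
theorem omega_incl_blockIdem_zero_or_one [Finite G]
    (hT : ∀ g : G, g ∈ T ↔ ∀ θ ∈ b, cI N hN g θ ∈ b) (ψ : IrrCharacter T) :
    omega (ψ : T → ℂ) (incl hNT (blockIdem b)) = 0 ∨
      omega (ψ : T → ℂ) (incl hNT (blockIdem b)) = 1 := by
  have hc := incl_blockIdem_mem_center N hN T hNT b hT
  have h1 := omega_mul ψ.2 _ (incl hNT (blockIdem b)) hc
  rw [incl_blockIdem_mul_self] at h1
  by_cases h0 : omega (ψ : T → ℂ) (incl hNT (blockIdem b)) = 0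
  · exact Or.inl h0
  · right
    exact mul_left_cancel₀ h0 (by rw [← h1, mul_one])

theorem pair_res_eq [Finite G] (ψ : IrrCharacter T) :
    pair (fun n : N => (ψ : T → ℂ) ⟨(n : G), hNT n.2⟩) (blockIdem b)
      = omega (ψ : T → ℂ) (incl hNT (blockIdem b)) * (ψ : T → ℂ) 1 := by
  unfold omega
  rw [pair_incl, div_mul_cancel₀ _ (irr_apply_one_ne_zero ψ.2)]

theorem isCharacter_res {ψ : T → ℂ} (hψ : IsCharacter T ψ) :
    IsCharacter N (fun n : N => ψ ⟨(n : G), hNT n.2⟩) :=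
  Cfsg.Agent.Lib.CT.Ops.isCharacter_comp_hom (Subgroup.inclusion hNT) hψ

include hN in
/-- `ψ ∈ Irr(T)` lies over `b` iff `ω_ψ(e_b) = 1`. -/
theorem omega_incl_blockIdem_eq_one_iff [Finite G] [Fintype N]
    (hT : ∀ g : G, g ∈ T ↔ ∀ θ ∈ b, cI N hN g θ ∈ b) (ψ : IrrCharacter T) :
    omega (ψ : T → ℂ) (incl hNT (blockIdem b)) = 1 ↔
      ∃ θ ∈ b, classInner (fun n : N => (ψ : T → ℂ) ⟨(n : G), hNT n.2⟩) (θ : N → ℂ) ≠ 0 := by
  obtain ⟨m, hm, hm0⟩ := pair_blockIdem_nat b _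
    (isCharacter_res N T hNT (isCharacter_of_irr ψ.2))
  rw [pair_res_eq N T hNT b ψ] at hm
  constructor
  · intro h
    rw [h, one_mul] at hm
    have hne : m ≠ 0 := by
      intro h0
      rw [h0, Nat.cast_zero] at hm
      exact irr_apply_one_ne_zero ψ.2 hm
    by_contra hcon
    push Not at hcon
    exact hne (hm0.mpr hcon)
  · rintro ⟨θ, hθ, hne⟩
    have hm1 : m ≠ 0 := fun h0 => hne (hm0.mp h0 θ hθ)
    rcases omega_incl_blockIdem_zero_or_one N hN T hNT b hT ψ with h | h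
    · rw [h, zero_mul] at hm
      exact absurd (by exact_mod_cast hm.symm) hm1
    · exact h

include hN in
theorem pair_res_of_covers [Finite G] [Fintype N]
    (hT : ∀ g : G, g ∈ T ↔ ∀ θ ∈ b, cI N hN g θ ∈ b) (ψ : IrrCharacter T)
    (h : ∃ θ ∈ b, classInner (fun n : N => (ψ : T → ℂ) ⟨(n : G), hNT n.2⟩) (θ : N → ℂ) ≠ 0) :
    pair (fun n : N => (ψ : T → ℂ) ⟨(n : G), hNT n.2⟩) (blockIdem b) = (ψ : T → ℂ) 1 := by
  rw [pair_res_eq N T hNT b ψ, (omega_incl_blockIdem_eq_one_iff N hN T hNT b hT ψ).mpr h, one_mul]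

include hN in
theorem pair_res_of_not_covers [Finite G] [Fintype N]
    (hT : ∀ g : G, g ∈ T ↔ ∀ θ ∈ b, cI N hN g θ ∈ b) (ψ : IrrCharacter T)
    (h : ¬ ∃ θ ∈ b, classInner (fun n : N => (ψ : T → ℂ) ⟨(n : G), hNT n.2⟩) (θ : N → ℂ) ≠ 0) :
    pair (fun n : N => (ψ : T → ℂ) ⟨(n : G), hNT n.2⟩) (blockIdem b) = 0 := by
  rw [pair_res_eq N T hNT b ψ]
  rcases omega_incl_blockIdem_zero_or_one N hN T hNT b hT ψ with h0 | h1
  · rw [h0, zero_mul]
  · exact absurd ((omega_incl_blockIdem_eq_one_iff N hN T hNT b hT ψ).mp h1) h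

include hN in
/-- Lying over the stable block `b` is constant on the blocks of `T`. -/
theorem covers_of_sameBlock [Finite G] [Fintype N] (hMp : M.IsPrime)
    (hT : ∀ g : G, g ∈ T ↔ ∀ θ ∈ b, cI N hN g θ ∈ b)
    (hbR : ∀ n : N, MemLocalRing M (blockCoeff b n)) (ψ ψ' : IrrCharacter T)
    (hs : SameBlock M (ψ : T → ℂ) (ψ' : T → ℂ))
    (h : ∃ θ ∈ b, classInner (fun n : N => (ψ : T → ℂ) ⟨(n : G), hNT n.2⟩) (θ : N → ℂ) ≠ 0) :
    ∃ θ ∈ b, classInner (fun n : N => (ψ' : T → ℂ) ⟨(n : G), hNT n.2⟩) (θ : N → ℂ) ≠ 0 := by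
  have hc := incl_blockIdem_mem_center N hN T hNT b hT
  have hR : ∀ t : T, MemLocalRing M ((incl hNT (blockIdem b)).coeff t) :=
    coeff_incl_memLocalRing hMp hNT _ (fun n => by rw [coeff_blockIdem]; exact hbR n)
  have h1 := omega_sub_mem_of_sameBlock hMp ψ.2 ψ'.2 hs _ hc hR
  rw [(omega_incl_blockIdem_eq_one_iff N hN T hNT b hT ψ).mpr h] at h1
  rw [← omega_incl_blockIdem_eq_one_iff N hN T hNT b hT ψ']
  rcases omega_incl_blockIdem_zero_or_one N hN T hNT b hT ψ' with h0 | h0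
  · rw [h0, sub_zero] at h1
    exact absurd h1 (not_memLocalIdeal_one hMp)
  · exact h0

end Stable

end Cfsg.Agent.Lib.Helper16.FR1
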