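import Mathlib
import Cfsg.Prelude.Def_Blocks
import Cfsg.Agent.Lib.Helper16.FR1
import Cfsg.Agent.Lib.CT.IndChar
import Cfsg.Agent.Lib.CT.FrobRec
import Cfsg.Agent.Lib.CT.Orth

/-!
# Fong–Reynolds, part 2: induction from the stabiliser is irreducible

`N ◁ G`, `b` a block of `N`, `T` its stabiliser in `G`.

* `mem_stab_of_exists`: `g ∈ T` as soon as `g` moves one member of `b` into `b`.
* `index_mul_pair`: for `χ ∈ Irr(G)` over `b`, `|G : T| · χ(e_b) = χ(1)`.
* `char_expand_nat`: a character is a combination of irreducible characters with natural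
  coefficients.
* `induced_irr`: for `ψ ∈ Irr(T)` over `b`, `ψ^G` is irreducible, lies over `b`, contains `ψ`
  once on restriction to `T`, and the other constituents of its restriction do not lie over `b`.
-/

set_option autoImplicit false

namespace Cfsg.Agent.Lib.Helper16.FR2

open Cfsg Cfsg.Agent.Lib.Helper77.LocalRing Cfsg.Agent.Lib.Helper77.CentralChar
  Cfsg.Agent.Lib.Helper77.ClassSum Cfsg.Agent.Lib.Helper77.BlockIdem
  Cfsg.Agent.Lib.CT.Wedderburn Cfsg.Agent.Lib.Helper16.ZR Cfsg.Agent.Lib.CT.Clifford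
  Cfsg.Agent.Lib.Helper16.Normal Cfsg.Agent.Lib.Helper16.FR1 Cfsg.Agent.Lib.Helper16.Cover3
  Cfsg.Agent.Lib.CT.FrobRec Cfsg.Agent.Lib.CT.Orth Cfsg.Agent.Lib.CT.IndChar
open scoped ComplexConjugate

universe u

theorem char_expand_nat {A : Type u} [Group A] [Fintype A] [Fintype (IrrCharacter A)]
    (φ : A → ℂ) (hφ : IsCharacter A φ) :
    ∃ m : IrrCharacter A → ℕ, (∀ χ : IrrCharacter A, classInner φ (χ : A → ℂ) = m χ) ∧
      ∀ g : A, φ g = ∑ χ : IrrCharacter A, (m χ : ℂ) * (χ : A → ℂ) g := by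
  have h : ∀ χ : IrrCharacter A, ∃ m : ℕ, classInner φ (χ : A → ℂ) = m :=
    fun χ => classInner_char_nat hφ (isCharacter_of_irr χ.2)
  choose m hm using h
  refine ⟨m, hm, fun g => ?_⟩
  rw [classFunction_expand_sum φ (char_isClassFunction hφ) g]
  apply Finset.sum_congr rfl
  intro χ _
  rw [hm]

theorem sum_eq_single_imp {ι : Type*} [DecidableEq ι] (s : Finset ι) (f : ι → ℕ) (j : ι)
    (hj : j ∈ s) (h : ∑ i ∈ s, f i = f j) : ∀ i ∈ s, i ≠ j → f i = 0 := by
  intro i hi hij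
  have h1 := Finset.add_sum_erase s f hj
  have h2 : ∑ x ∈ s.erase j, f x = 0 := by omega
  exact (Finset.sum_eq_zero_iff.mp h2) i (Finset.mem_erase.mpr ⟨hij, hi⟩)

variable {G : Type u} [Group G] {M : Ideal AlgInt} (N : Subgroup G) (hN : N.Normal)
  (T : Subgroup G) (hNT : N ≤ T) (b : Set (IrrCharacter N))

theorem mem_stab_of_exists (hMp : M.IsPrime) (hb : IsPBlock M b)
    (hT : ∀ g : G, g ∈ T ↔ ∀ θ ∈ b, cI N hN g θ ∈ b) (g : G) (θ₀ : IrrCharacter N)
    (hθ₀ : θ₀ ∈ b) (h : cI N hN g θ₀ ∈ b) : g ∈ T := by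
  rw [hT]
  intro θ hθ
  exact blockClosed_of_isPBlock hMp hb _ h _
    (sameBlock_cI N hN g θ₀ θ (sameBlock_of_mem hMp hb hθ₀ hθ))

theorem cI_apply_one (θ : IrrCharacter N) (g : G) :
    (cI N hN g θ : N → ℂ) 1 = (θ : N → ℂ) 1 := by
  rw [cI_apply]
  exact congrArg _ (Subtype.ext (by simp))

/-- For `χ ∈ Irr(G)` lying over the block `b` with stabiliser `T`: `|G : T| · χ(e_b) = χ(1)`. -/
theorem index_mul_pair [Fintype G] [Fintype N] (hMp : M.IsPrime) (hb : IsPBlock M b)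
    (hT : ∀ g : G, g ∈ T ↔ ∀ θ ∈ b, cI N hN g θ ∈ b) (χ : IrrCharacter G)
    (h : ∃ θ ∈ b, classInner (fun n : N => (χ : G → ℂ) n) (θ : N → ℂ) ≠ 0) :
    (T.index : ℂ) * pair (fun n : N => (χ : G → ℂ) n) (blockIdem b) = (χ : G → ℂ) 1 := by
  classical
  have := finite_irrCharacter N
  have := Fintype.ofFinite (IrrCharacter N)
  have : Fintype T := Fintype.ofFinite T
  set f : IrrCharacter N → ℂ := fun θ => (θ : N → ℂ) 1 *
    classInner (fun n : N => (χ : G → ℂ) n) (θ : N → ℂ) with hf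
  have hfinv : ∀ (g : G) (θ : IrrCharacter N), f (cI N hN g θ) = f θ := by
    intro g θ
    simp only [hf]
    rw [cI_apply_one, classInner_cI]
  set S₀ := conjUnion N hN b with hS₀
  have h1 : ∑ θ : IrrCharacter N, S₀.indicator f θ = (χ : G → ℂ) 1 := by
    obtain ⟨θ, hθ, hne⟩ := h
    have h2 := omega_iota_blockIdem_of_exists N hN S₀ (gstable_conjUnion N hN b) χ
      ⟨θ, subset_conjUnion N hN b hθ, hne⟩
    unfold omega at h2
    rw [div_eq_one_iff_eq (irr_apply_one_ne_zero χ.2), pair_iota, pair_blockIdem] at h2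
    exact h2
  have hcount : ∀ θ : IrrCharacter N,
      ((Finset.univ.filter (fun g : G => cI N hN g θ ∈ b)).card : ℂ)
        = S₀.indicator (fun _ => (Nat.card T : ℂ)) θ := by
    intro θ
    by_cases hθ : θ ∈ S₀
    · rw [Set.indicator_of_mem hθ]
      obtain ⟨g₀, hg₀⟩ := hθ
      have hiff : ∀ g : G, cI N hN g θ ∈ b ↔ g₀⁻¹ * g ∈ T := by
        intro g
        have e1 : cI N hN g θ = cI N hN (g₀⁻¹ * g) (cI N hN g₀ θ) := by
          rw [cI_cI, mul_inv_cancel_left]
        rw [e1]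
        constructor
        · intro hmem
          exact mem_stab_of_exists N hN T b hMp hb hT _ _ hg₀ hmem
        · intro hmem
          exact (hT _).mp hmem _ hg₀
      have hcard : (Finset.univ.filter (fun g : G => cI N hN g θ ∈ b)).card
          = (Finset.univ.filter (fun g : G => g ∈ T)).card := by
        apply Finset.card_bij (fun g _ => g₀⁻¹ * g)
        · intro g hg
          rw [Finset.mem_filter] at hg ⊢
          exact ⟨Finset.mem_univ _, (hiff g).mp hg.2⟩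
        · intro g₁ _ g₂ _ h12
          exact mul_left_cancel h12
        · intro t ht
          rw [Finset.mem_filter] at ht
          refine ⟨g₀ * t, ?_, by simp⟩
          rw [Finset.mem_filter]
          refine ⟨Finset.mem_univ _, (hiff _).mpr ?_⟩
          rw [inv_mul_cancel_left]
          exact ht.2
      rw [hcard, ← Fintype.card_subtype, Nat.card_eq_fintype_card]
    · rw [Set.indicator_of_notMem hθ]
      have hempty : Finset.univ.filter (fun g : G => cI N hN g θ ∈ b) = ∅ := by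
        rw [Finset.filter_eq_empty_iff]
        intro g _ hg
        exact hθ ⟨g, hg⟩
      rw [hempty, Finset.card_empty, Nat.cast_zero]
  have hdouble : ∑ g : G, ∑ θ : IrrCharacter N, (if cI N hN g θ ∈ b then f θ else 0)
      = (Nat.card G : ℂ) * pair (fun n : N => (χ : G → ℂ) n) (blockIdem b) := by
    have hinner : ∀ g ∈ (Finset.univ : Finset G),
        ∑ θ : IrrCharacter N, (if cI N hN g θ ∈ b then f θ else 0)
          = pair (fun n : N => (χ : G → ℂ) n) (blockIdem b) := by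
      intro g _
      rw [pair_blockIdem]
      show ∑ θ : IrrCharacter N, (if cI N hN g θ ∈ b then f θ else 0)
        = ∑ θ : IrrCharacter N, b.indicator f θ
      rw [← Equiv.sum_comp (cIEquiv N hN g) (b.indicator f)]
      apply Finset.sum_congr rfl
      intro θ _
      change _ = b.indicator f (cI N hN g θ)
      by_cases hθ : cI N hN g θ ∈ b
      · rw [if_pos hθ, Set.indicator_of_mem hθ, hfinv]
      · rw [if_neg hθ, Set.indicator_of_notMem hθ]
    rw [Finset.sum_congr rfl hinner, Finset.sum_const, Finset.card_univ, nsmul_eq_mul,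
      Nat.card_eq_fintype_card]
  rw [Finset.sum_comm] at hdouble
  have hswap : ∑ θ : IrrCharacter N, ∑ g : G, (if cI N hN g θ ∈ b then f θ else 0)
      = (Nat.card T : ℂ) * (χ : G → ℂ) 1 := by
    rw [← h1, Finset.mul_sum]
    apply Finset.sum_congr rfl
    intro θ _
    rw [← Finset.sum_filter, Finset.sum_const, nsmul_eq_mul, hcount]
    by_cases hθ : θ ∈ S₀
    · rw [Set.indicator_of_mem hθ, Set.indicator_of_mem hθ]
    · rw [Set.indicator_of_notMem hθ, Set.indicator_of_notMem hθ, zero_mul, mul_zero]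
  rw [hswap] at hdouble
  have hidx : (Nat.card G : ℂ) = (T.index : ℂ) * (Nat.card T : ℂ) := by
    rw [← Nat.cast_mul, Subgroup.index_mul_card]
  have hT0 : (Nat.card T : ℂ) ≠ 0 := Nat.cast_ne_zero.mpr Nat.card_pos.ne'
  rw [hidx] at hdouble
  apply mul_left_cancel₀ hT0
  rw [hdouble]
  ring

theorem arith_aux (I D k Sa Sn d : ℕ) (hI : 0 < I) (hD : 0 < D) (hk : 0 < k)
    (h1 : I * D = Sn) (h2 : d = I * Sa) (h3 : k * D ≤ Sa) (h4 : k * d ≤ Sn) :
    k = 1 ∧ Sa = D ∧ Sn = d := by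
  have h5 : k * (I * (k * D)) ≤ I * D := by
    calc k * (I * (k * D)) ≤ k * (I * Sa) := Nat.mul_le_mul_left _ (Nat.mul_le_mul_left _ h3)
      _ = k * d := by rw [h2]
      _ ≤ Sn := h4
      _ = I * D := h1.symm
  have h6 : k * k * (I * D) ≤ 1 * (I * D) := by
    have : k * k * (I * D) = k * (I * (k * D)) := by ring
    rw [this, one_mul]
    exact h5
  have h7 : k * k ≤ 1 := Nat.le_of_mul_le_mul_right h6 (Nat.mul_pos hI hD)
  have hk1 : k = 1 := by nlinarith
  subst hk1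
  rw [one_mul] at h3 h4
  have h8 : I * Sa ≤ I * D := by
    rw [← h2, h1]
    exact h4
  have h9 : Sa ≤ D := Nat.le_of_mul_le_mul_left h8 hI
  have h10 : Sa = D := le_antisymm h9 h3
  refine ⟨rfl, h10, ?_⟩
  rw [h2, h10]
  exact h1.symm

/-- For `ψ ∈ Irr(T)` lying over the block `b` with stabiliser `T`, the induced function `ψ^G` is
an irreducible character of `G` lying over `b`; `ψ` occurs once in its restriction to `T`, and
the other constituents of that restriction do not lie over `b`. -/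
theorem induced_irr [Fintype G] [Fintype N] [Fintype T] (hMp : M.IsPrime) (hb : IsPBlock M b)
    (hT : ∀ g : G, g ∈ T ↔ ∀ θ ∈ b, cI N hN g θ ∈ b) (ψ : IrrCharacter T)
    (hψ : ∃ θ ∈ b, classInner (fun n : N => (ψ : T → ℂ) ⟨(n : G), hNT n.2⟩) (θ : N → ℂ) ≠ 0) :
    ∃ χ : IrrCharacter G, (χ : G → ℂ) = indFun T (ψ : T → ℂ) ∧
      (∃ θ ∈ b, classInner (fun n : N => (χ : G → ℂ) n) (θ : N → ℂ) ≠ 0) ∧
      classInner (fun t : T => (χ : G → ℂ) t) (ψ : T → ℂ) = 1 ∧
      ∀ ψ' : IrrCharacter T, ψ' ≠ ψ →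
        classInner (fun t : T => (χ : G → ℂ) t) (ψ' : T → ℂ) ≠ 0 →
        ¬ ∃ θ ∈ b, classInner (fun n : N => (ψ' : T → ℂ) ⟨(n : G), hNT n.2⟩) (θ : N → ℂ) ≠ 0 := by
  classical
  have := finite_irrCharacter G
  have := Fintype.ofFinite (IrrCharacter G)
  have := finite_irrCharacter T
  have := Fintype.ofFinite (IrrCharacter T)
  have hind : IsCharacter G (indFun T (ψ : T → ℂ)) :=
    isCharacter_indFun T _ (isCharacter_of_irr ψ.2)
  obtain ⟨n, hn, hnexp⟩ := char_expand_nat (indFun T (ψ : T → ℂ)) hind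
  have hdψ : ((charDegree (ψ : T → ℂ) : ℕ) : ℂ) = (ψ : T → ℂ) 1 :=
    char_natCast_charDegree (isCharacter_of_irr ψ.2)
  have hdψpos : 0 < charDegree (ψ : T → ℂ) := irr_charDegree_pos ψ.2
  have hIpos : 0 < T.index := Nat.pos_of_ne_zero Subgroup.index_ne_zero_of_finite
  have hdeg1 : T.index * charDegree (ψ : T → ℂ)
      = ∑ χ' : IrrCharacter G, n χ' * charDegree (χ' : G → ℂ) := by
    have h1 := hnexp 1
    rw [indFun_one, ← hdψ] at h1
    have h2 : ∀ χ' ∈ (Finset.univ : Finset (IrrCharacter G)), (n χ' : ℂ) * (χ' : G → ℂ) 1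
        = ((n χ' * charDegree (χ' : G → ℂ) : ℕ) : ℂ) := by
      intro χ' _
      rw [Nat.cast_mul, char_natCast_charDegree (isCharacter_of_irr χ'.2)]
    rw [Finset.sum_congr rfl h2, ← Nat.cast_sum, ← Nat.cast_mul] at h1
    exact_mod_cast h1
  have hex : ∃ χ : IrrCharacter G, n χ ≠ 0 := by
    by_contra hcon
    push Not at hcon
    have h0 : ∑ χ' : IrrCharacter G, n χ' * charDegree (χ' : G → ℂ) = 0 :=
      Finset.sum_eq_zero (fun χ' _ => by rw [hcon χ', zero_mul])
    rw [h0] at hdeg1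
    have := Nat.mul_pos hIpos hdψpos
    omega
  obtain ⟨χ, hχ⟩ := hex
  obtain ⟨a, ha, haexp⟩ := char_expand_nat (fun t : T => (χ : G → ℂ) t)
    (Cfsg.Agent.Lib.CT.Ops.isCharacter_restrict T (isCharacter_of_irr χ.2))
  have hfrob : a ψ = n χ := by
    have h1 := frobenius_reciprocity' T (ψ : T → ℂ) (χ : G → ℂ) (irr_isClassFunction χ)
    have h2 := classInner_conj_symm (χ : G → ℂ) (indFun T (ψ : T → ℂ))
    rw [h1, ha ψ, hn χ, Complex.conj_natCast] at h2
    exact_mod_cast h2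
  set δ : IrrCharacter T → ℕ := fun ψ' =>
    if (∃ θ ∈ b, classInner (fun n : N => (ψ' : T → ℂ) ⟨(n : G), hNT n.2⟩) (θ : N → ℂ) ≠ 0)
    then charDegree (ψ' : T → ℂ) else 0 with hδdef
  have hδ : ∀ ψ' : IrrCharacter T,
      pair (fun n : N => (ψ' : T → ℂ) ⟨(n : G), hNT n.2⟩) (blockIdem b) = (δ ψ' : ℂ) := by
    intro ψ'
    by_cases h : ∃ θ ∈ b,
        classInner (fun n : N => (ψ' : T → ℂ) ⟨(n : G), hNT n.2⟩) (θ : N → ℂ) ≠ 0
    · rw [pair_res_of_covers N hN T hNT b hT ψ' h]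
      simp only [hδdef, if_pos h]
      exact (char_natCast_charDegree (isCharacter_of_irr ψ'.2)).symm
    · rw [pair_res_of_not_covers N hN T hNT b hT ψ' h]
      simp only [hδdef, if_neg h, Nat.cast_zero]
  have hpair : pair (fun n : N => (χ : G → ℂ) n) (blockIdem b)
      = ((∑ ψ' : IrrCharacter T, a ψ' * δ ψ' : ℕ) : ℂ) := by
    rw [pair_eq_sum]
    have h1 : ∀ x ∈ (Finset.univ : Finset N), (blockIdem b).coeff x * (χ : G → ℂ) x
        = ∑ ψ' : IrrCharacter T, (a ψ' : ℂ) *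
          ((blockIdem b).coeff x * (ψ' : T → ℂ) ⟨(x : G), hNT x.2⟩) := by
      intro x _
      have h2 := haexp ⟨(x : G), hNT x.2⟩
      simp only at h2
      rw [h2, Finset.mul_sum]
      apply Finset.sum_congr rfl
      intro ψ' _
      ring
    rw [Finset.sum_congr rfl h1, Finset.sum_comm, Nat.cast_sum]
    apply Finset.sum_congr rfl
    intro ψ' _
    rw [← Finset.mul_sum, ← pair_eq_sum (fun n : N => (ψ' : T → ℂ) ⟨(n : G), hNT n.2⟩), hδ,
      Nat.cast_mul]
  have hδψ : δ ψ = charDegree (ψ : T → ℂ) := by simp only [hδdef, if_pos hψ]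
  have hle_a : a ψ * δ ψ ≤ ∑ ψ' : IrrCharacter T, a ψ' * δ ψ' :=
    Finset.single_le_sum (f := fun ψ' => a ψ' * δ ψ') (fun _ _ => Nat.zero_le _)
      (Finset.mem_univ ψ)
  have hle_n : n χ * charDegree (χ : G → ℂ)
      ≤ ∑ χ' : IrrCharacter G, n χ' * charDegree (χ' : G → ℂ) :=
    Finset.single_le_sum (f := fun χ' => n χ' * charDegree (χ' : G → ℂ))
      (fun _ _ => Nat.zero_le _) (Finset.mem_univ χ)
  rw [hfrob, hδψ] at hle_a
  have hsumpos : 0 < ∑ ψ' : IrrCharacter T, a ψ' * δ ψ' :=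
    lt_of_lt_of_le (Nat.mul_pos (Nat.pos_of_ne_zero hχ) hdψpos) hle_a
  have hcovχ : ∃ θ ∈ b, classInner (fun n : N => (χ : G → ℂ) n) (θ : N → ℂ) ≠ 0 := by
    obtain ⟨m, hm, hm0⟩ := pair_blockIdem_nat b (fun n : N => (χ : G → ℂ) n)
      (Cfsg.Agent.Lib.CT.Ops.isCharacter_restrict N (isCharacter_of_irr χ.2))
    by_contra hcon
    push Not at hcon
    have hm00 := hm0.mpr hcon
    rw [hm00, hpair] at hm
    have h0 : ∑ ψ' : IrrCharacter T, a ψ' * δ ψ' = 0 := by exact_mod_cast hm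
    omega
  have hL8 := index_mul_pair N hN T b hMp hb hT χ hcovχ
  have hdeg2 : charDegree (χ : G → ℂ) = T.index * ∑ ψ' : IrrCharacter T, a ψ' * δ ψ' := by
    rw [hpair, ← char_natCast_charDegree (isCharacter_of_irr χ.2)] at hL8
    exact_mod_cast hL8.symm
  obtain ⟨hk1, hSa, hSn⟩ := arith_aux T.index (charDegree (ψ : T → ℂ)) (n χ) _ _ _ hIpos hdψpos
    (Nat.pos_of_ne_zero hχ) hdeg1 hdeg2 hle_a hle_n
  have hn0 : ∀ χ' : IrrCharacter G, χ' ≠ χ → n χ' = 0 := by
    intro χ' hne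
    have h0 : ∑ χ' : IrrCharacter G, n χ' * charDegree (χ' : G → ℂ)
        = n χ * charDegree (χ : G → ℂ) := by rw [hSn, hk1, one_mul]
    have h1 := sum_eq_single_imp Finset.univ (fun χ' => n χ' * charDegree (χ' : G → ℂ)) χ
      (Finset.mem_univ χ) h0 χ' (Finset.mem_univ χ') hne
    rcases Nat.mul_eq_zero.mp h1 with h | h
    · exact h
    · exact absurd h (irr_charDegree_pos χ'.2).ne'
  have ha0 : ∀ ψ' : IrrCharacter T, ψ' ≠ ψ → a ψ' * δ ψ' = 0 := by
    intro ψ' hne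
    have h0 : ∑ ψ' : IrrCharacter T, a ψ' * δ ψ' = a ψ * δ ψ := by
      rw [hSa, hfrob, hδψ, hk1, one_mul]
    exact sum_eq_single_imp Finset.univ (fun ψ' => a ψ' * δ ψ') ψ (Finset.mem_univ ψ) h0 ψ'
      (Finset.mem_univ ψ') hne
  have hχeq : (χ : G → ℂ) = indFun T (ψ : T → ℂ) := by
    funext g
    rw [hnexp g, Finset.sum_eq_single χ]
    · rw [hk1, Nat.cast_one, one_mul]
    · intro χ' _ hne
      rw [hn0 χ' hne, Nat.cast_zero, zero_mul]
    · intro h
      exact absurd (Finset.mem_univ χ) h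
  refine ⟨χ, hχeq, hcovχ, ?_, ?_⟩
  · rw [ha ψ, hfrob, hk1, Nat.cast_one]
  · intro ψ' hne hne0 hcov
    have h1 : a ψ' ≠ 0 := by
      intro h0
      apply hne0
      rw [ha ψ', h0, Nat.cast_zero]
    have h2 : δ ψ' = charDegree (ψ' : T → ℂ) := by simp only [hδdef, if_pos hcov]
    have h3 := ha0 ψ' hne
    rw [h2] at h3
    rcases Nat.mul_eq_zero.mp h3 with h | h
    · exact h1 h
    · exact absurd h (irr_charDegree_pos ψ'.2).ne'

end Cfsg.Agent.Lib.Helper16.FR2
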