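import Mathlib
import Cfsg.Prelude.Def_Blocks
import Cfsg.Agent.Lib.Helper16.FR2
import Cfsg.Agent.Lib.Helper16.Induced
import Cfsg.Agent.Lib.Helper16.IndBlock
import Cfsg.Agent.Lib.Helper16.SylowBlocks
import Cfsg.Agent.Lib.Helper16.Defect

/-!
# Fong–Reynolds, part 3: the correspondence

`N ◁ G`, `b` a block of `N`, `T` its stabiliser in `G`.

* `centralChar_indFun`: the central character of an induced function is the induced central
  character.
* `indElt T u`: the element of `ℂ[G]` whose coefficients are induced from those of `u ∈ ℂ[T]`.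
* `omega_indElt`: `ω_{ψ^G}(ind (e_b z)) = ω_ψ(z)` for `ψ ∈ Irr(T)` over `b`.
* `sameBlock_of_induced`: `ψ₁^G ~ ψ₂^G` implies `ψ₁ ~ ψ₂`.
* `exists_induced_eq`: every `χ ∈ Irr(G)` over `b` is induced from some `ψ ∈ Irr(T)` over `b`.
* `fr_induced`, `fr_injective`, `fr_surjective`: the Fong–Reynolds correspondence (S4435).
* `fr_defect`: defect groups and heights (S4436).
-/

set_option autoImplicit false

namespace Cfsg.Agent.Lib.Helper16.FR3

open Cfsg Cfsg.Agent.Lib.Helper77.LocalRing Cfsg.Agent.Lib.Helper77.CentralChar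
  Cfsg.Agent.Lib.Helper77.ClassSum Cfsg.Agent.Lib.Helper77.BlockIdem
  Cfsg.Agent.Lib.CT.Wedderburn Cfsg.Agent.Lib.Helper16.ZR Cfsg.Agent.Lib.CT.Clifford
  Cfsg.Agent.Lib.Helper16.Normal Cfsg.Agent.Lib.Helper16.FR1 Cfsg.Agent.Lib.Helper16.FR2
  Cfsg.Agent.Lib.Helper16.Cover3
  Cfsg.Agent.Lib.CT.FrobRec Cfsg.Agent.Lib.CT.Orth Cfsg.Agent.Lib.CT.IndChar
open Cfsg.Agent.Lib.Helper16.CentralChar (conjFinset mem_conjFinset card_conjFinset sum_conj_eq)
open scoped ComplexConjugate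

universe u

variable {G : Type u} [Group G] {M : Ideal AlgInt}

theorem centralChar_indFun [Fintype G] (T : Subgroup G) [Fintype T] (ψ : T → ℂ) (g : G) :
    centralChar (indFun T ψ) g = inducedCentralChar T ψ g := by
  classical
  unfold centralChar inducedCentralChar
  rw [indFun_one, indFun_apply]
  have h1 : ∑ x : G, extendByZero T ψ (x⁻¹ * g * x)
      = ∑ x : G, extendByZero T ψ (x * g * x⁻¹) := by
    apply Fintype.sum_equiv (Equiv.inv G)
    intro x
    simp
  rw [h1, sum_conj_eq g (extendByZero T ψ), nsmul_eq_mul,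
    ← sum_conjFinset_extendByZero T (fun h : T => ψ h / ψ 1) g]
  have h2 : ∀ x ∈ conjFinset g, extendByZero T (fun h : T => ψ h / ψ 1) x
      = extendByZero T ψ x / ψ 1 := by
    intro x _
    by_cases hx : x ∈ T
    · rw [extendByZero_apply_of_mem T _ hx, extendByZero_apply_of_mem T _ hx]
    · rw [extendByZero_apply_of_not_mem T _ hx, extendByZero_apply_of_not_mem T _ hx, zero_div]
  rw [Finset.sum_congr rfl h2, ← Finset.sum_div]
  have hC : ((Subgroup.centralizer ({g} : Set G)).index : ℂ)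
      * (Nat.card (Subgroup.centralizer ({g} : Set G)) : ℂ)
      = (T.index : ℂ) * (Nat.card T : ℂ) := by
    rw [← Nat.cast_mul, ← Nat.cast_mul, Subgroup.index_mul_card, Subgroup.index_mul_card]
  have hT0 : (Nat.card T : ℂ) ≠ 0 := Nat.cast_ne_zero.mpr Nat.card_pos.ne'
  have hI0 : (T.index : ℂ) ≠ 0 := Nat.cast_ne_zero.mpr Subgroup.index_ne_zero_of_finite
  have h3 : ((Subgroup.centralizer ({g} : Set G)).index : ℂ) * ((Nat.card T : ℂ)⁻¹ *
      ((Nat.card (Subgroup.centralizer ({g} : Set G)) : ℂ) *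
        ∑ x ∈ conjFinset g, extendByZero T ψ x))
      = (T.index : ℂ) * ∑ x ∈ conjFinset g, extendByZero T ψ x := by
    calc _ = (((Subgroup.centralizer ({g} : Set G)).index : ℂ)
          * (Nat.card (Subgroup.centralizer ({g} : Set G)) : ℂ)) * (Nat.card T : ℂ)⁻¹
          * ∑ x ∈ conjFinset g, extendByZero T ψ x := by ring
      _ = (T.index : ℂ) * ∑ x ∈ conjFinset g, extendByZero T ψ x := by
        rw [hC, mul_inv_cancel_right₀ hT0]
  rw [h3]
  exact mul_div_mul_left _ _ hI0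

/-- The element of `ℂ[G]` whose coefficient function is induced from that of `u ∈ ℂ[T]`. -/
noncomputable def indElt [Fintype G] (T : Subgroup G) (u : MonoidAlgebra ℂ T) :
    MonoidAlgebra ℂ G :=
  ofFun (indFun T (fun t : T => u.coeff t))

theorem indElt_mem_center [Fintype G] (T : Subgroup G) (u : MonoidAlgebra ℂ T) :
    indElt T u ∈ Zc G := by
  apply ofFun_mem_center
  intro x g
  exact indFun_isClassFunction T _ g x

theorem coeff_indElt_memLocalRing [Fintype G] (hMp : M.IsPrime) (T : Subgroup G)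
    (u : MonoidAlgebra ℂ T) (hu : u ∈ Zc T) (huR : ∀ t : T, MemLocalRing M (u.coeff t))
    (g : G) : MemLocalRing M ((indElt T u).coeff g) := by
  classical
  have : Fintype (G ⧸ T) := Fintype.ofFinite _
  have hcl : IsClassFunction T (fun t : T => u.coeff t) := by
    intro t s
    exact (mem_center_iff u).mp hu s t
  unfold indElt
  rw [coeff_ofFun, indFun_eq_sum_rep T _ hcl g]
  apply memLocalRing_sum hMp
  intro q _
  by_cases hx : (rep T q)⁻¹ * g * rep T q ∈ T
  · rw [extendByZero_apply_of_mem T _ hx]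
    exact huR _
  · rw [extendByZero_apply_of_not_mem T _ hx]
    exact memLocalRing_zero hMp

theorem pair_indElt [Fintype G] (T : Subgroup G) [Fintype T] (χ : G → ℂ)
    (hχ : IsClassFunction G χ) (u : MonoidAlgebra ℂ T) :
    pair χ (indElt T u) = (T.index : ℂ) * pair (fun t : T => χ t) u := by
  unfold indElt
  rw [pair_ofFun, sum_indFun_mul T _ χ hχ, pair_eq_sum]
  have hG : (Nat.card G : ℂ) = (T.index : ℂ) * (Nat.card T : ℂ) := by
    rw [← Nat.cast_mul, Subgroup.index_mul_card]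
  have hT0 : (Nat.card T : ℂ) ≠ 0 := Nat.cast_ne_zero.mpr Nat.card_pos.ne'
  rw [hG, ← mul_assoc, mul_inv_cancel_right₀ hT0]

variable (N : Subgroup G) (hN : N.Normal) (T : Subgroup G) (hNT : N ≤ T)
  (b : Set (IrrCharacter N))

/-- The restriction to `N` of an irreducible character `χ` of `G`, paired with `e_b`, expanded
along the constituents of the restriction of `χ` to `T`. -/
theorem pair_res_expand [Fintype G] [Fintype N] [Fintype T] [Fintype (IrrCharacter T)]
    (χ : IrrCharacter G) (a : MonoidAlgebra ℂ N) :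
    pair (fun n : N => (χ : G → ℂ) n) a
      = ∑ ψ' : IrrCharacter T, classInner (fun t : T => (χ : G → ℂ) t) (ψ' : T → ℂ)
          * pair (fun n : N => (ψ' : T → ℂ) ⟨(n : G), hNT n.2⟩) a := by
  rw [pair_eq_sum]
  have h1 : ∀ x ∈ (Finset.univ : Finset N), a.coeff x * (χ : G → ℂ) x
      = ∑ ψ' : IrrCharacter T, classInner (fun t : T => (χ : G → ℂ) t) (ψ' : T → ℂ) *
        (a.coeff x * (ψ' : T → ℂ) ⟨(x : G), hNT x.2⟩) := by
    intro x _
    have h2 := classFunction_expand_sum (fun t : T => (χ : G → ℂ) t)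
      (restrict_isClassFunction T (irr_isClassFunction χ)) ⟨(x : G), hNT x.2⟩
    simp only at h2
    rw [h2, Finset.mul_sum]
    apply Finset.sum_congr rfl
    intro ψ' _
    ring
  rw [Finset.sum_congr rfl h1, Finset.sum_comm]
  apply Finset.sum_congr rfl
  intro ψ' _
  rw [← Finset.mul_sum, ← pair_eq_sum (fun n : N => (ψ' : T → ℂ) ⟨(n : G), hNT n.2⟩)]

/-- Every irreducible character of `G` over `b` has a constituent on `T` lying over `b`. -/
theorem exists_constituent_covering [Fintype G] [Fintype N] [Fintype T]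
    (hT : ∀ g : G, g ∈ T ↔ ∀ θ ∈ b, cI N hN g θ ∈ b) (χ : IrrCharacter G)
    (hχ : ∃ θ ∈ b, classInner (fun n : N => (χ : G → ℂ) n) (θ : N → ℂ) ≠ 0) :
    ∃ ψ : IrrCharacter T,
      (∃ θ ∈ b, classInner (fun n : N => (ψ : T → ℂ) ⟨(n : G), hNT n.2⟩) (θ : N → ℂ) ≠ 0) ∧
      classInner (fun t : T => (χ : G → ℂ) t) (ψ : T → ℂ) ≠ 0 := by
  classical
  have := finite_irrCharacter T
  have := Fintype.ofFinite (IrrCharacter T)
  obtain ⟨m, hm, hm0⟩ := pair_blockIdem_nat b (fun n : N => (χ : G → ℂ) n)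
    (Cfsg.Agent.Lib.CT.Ops.isCharacter_restrict N (isCharacter_of_irr χ.2))
  have hmne : m ≠ 0 := by
    intro h0
    obtain ⟨θ, hθ, hne⟩ := hχ
    exact hne (hm0.mp h0 θ hθ)
  by_contra hcon
  push Not at hcon
  apply hmne
  have h1 := pair_res_expand N T hNT χ (blockIdem b)
  have h2 : ∑ ψ' : IrrCharacter T, classInner (fun t : T => (χ : G → ℂ) t) (ψ' : T → ℂ)
      * pair (fun n : N => (ψ' : T → ℂ) ⟨(n : G), hNT n.2⟩) (blockIdem b) = 0 := by
    apply Finset.sum_eq_zero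
    intro ψ' _
    by_cases hc : ∃ θ ∈ b,
        classInner (fun n : N => (ψ' : T → ℂ) ⟨(n : G), hNT n.2⟩) (θ : N → ℂ) ≠ 0
    · rw [hcon ψ' hc, zero_mul]
    · rw [pair_res_of_not_covers N hN T hNT b hT ψ' hc, mul_zero]
  rw [h2, hm] at h1
  exact_mod_cast h1

/-- For `ψ ∈ Irr(T)` over `b` and `χ = ψ^G`: `ω_χ(ind(e_b z)) = ω_ψ(z)`. -/
theorem omega_indElt [Fintype G] [Fintype N] [Fintype T]
    (hT : ∀ g : G, g ∈ T ↔ ∀ θ ∈ b, cI N hN g θ ∈ b) (ψ : IrrCharacter T) (χ : IrrCharacter G)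
    (hχ : (χ : G → ℂ) = indFun T (ψ : T → ℂ))
    (hψ : ∃ θ ∈ b, classInner (fun n : N => (ψ : T → ℂ) ⟨(n : G), hNT n.2⟩) (θ : N → ℂ) ≠ 0)
    (h1 : classInner (fun t : T => (χ : G → ℂ) t) (ψ : T → ℂ) = 1)
    (h2 : ∀ ψ' : IrrCharacter T, ψ' ≠ ψ →
        classInner (fun t : T => (χ : G → ℂ) t) (ψ' : T → ℂ) ≠ 0 →
        ¬ ∃ θ ∈ b, classInner (fun n : N => (ψ' : T → ℂ) ⟨(n : G), hNT n.2⟩) (θ : N → ℂ) ≠ 0)
    (z : MonoidAlgebra ℂ T) :
    omega (χ : G → ℂ) (indElt T (incl hNT (blockIdem b) * z)) = omega (ψ : T → ℂ) z := by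
  classical
  have := finite_irrCharacter T
  have := Fintype.ofFinite (IrrCharacter T)
  have hc := incl_blockIdem_mem_center N hN T hNT b hT
  have hI0 : (T.index : ℂ) ≠ 0 := Nat.cast_ne_zero.mpr Subgroup.index_ne_zero_of_finite
  unfold omega
  rw [pair_indElt T _ (irr_isClassFunction χ)]
  have hχ1 : (χ : G → ℂ) 1 = (T.index : ℂ) * (ψ : T → ℂ) 1 := by rw [hχ, indFun_one]
  have hkey : pair (fun t : T => (χ : G → ℂ) t) (incl hNT (blockIdem b) * z)
      = pair (ψ : T → ℂ) z := by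
    rw [pair_eq_sum]
    have h3 : ∀ t ∈ (Finset.univ : Finset T),
        (incl hNT (blockIdem b) * z).coeff t * (χ : G → ℂ) t
        = ∑ ψ' : IrrCharacter T, classInner (fun t : T => (χ : G → ℂ) t) (ψ' : T → ℂ) *
          ((incl hNT (blockIdem b) * z).coeff t * (ψ' : T → ℂ) t) := by
      intro t _
      have h4 : (χ : G → ℂ) t = _ := classFunction_expand_sum (fun t : T => (χ : G → ℂ) t)
        (restrict_isClassFunction T (irr_isClassFunction χ)) t
      rw [h4, Finset.mul_sum]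
      apply Finset.sum_congr rfl
      intro ψ' _
      ring
    rw [Finset.sum_congr rfl h3, Finset.sum_comm, Finset.sum_eq_single ψ]
    · rw [← Finset.mul_sum, h1, one_mul, ← pair_eq_sum, pair_mul_center ψ.2 _ z hc,
        (omega_incl_blockIdem_eq_one_iff N hN T hNT b hT ψ).mpr hψ, one_mul]
    · intro ψ' _ hne
      by_cases h0 : classInner (fun t : T => (χ : G → ℂ) t) (ψ' : T → ℂ) = 0
      · rw [← Finset.mul_sum, h0, zero_mul]
      · have h5 := h2 ψ' hne h0
        rw [← Finset.mul_sum, ← pair_eq_sum, pair_mul_center ψ'.2 _ z hc]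
        rcases omega_incl_blockIdem_zero_or_one N hN T hNT b hT ψ' with h | h
        · rw [h, zero_mul, mul_zero]
        · exact absurd ((omega_incl_blockIdem_eq_one_iff N hN T hNT b hT ψ').mp h) h5
    · intro h
      exact absurd (Finset.mem_univ _) h
  rw [hkey, hχ1]
  exact mul_div_mul_left _ _ hI0

/-- Induction from the stabiliser is injective on blocks over `b`. -/
theorem sameBlock_of_induced [Fintype G] [Fintype N] [Fintype T] (p : ℕ) [Fact p.Prime]
    (hM : IsPModular p M) (hb : IsPBlock M b)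
    (hT : ∀ g : G, g ∈ T ↔ ∀ θ ∈ b, cI N hN g θ ∈ b) (ψ₁ ψ₂ : IrrCharacter T)
    (h₁ : ∃ θ ∈ b, classInner (fun n : N => (ψ₁ : T → ℂ) ⟨(n : G), hNT n.2⟩) (θ : N → ℂ) ≠ 0)
    (h₂ : ∃ θ ∈ b, classInner (fun n : N => (ψ₂ : T → ℂ) ⟨(n : G), hNT n.2⟩) (θ : N → ℂ) ≠ 0)
    (hs : SameBlock M (indFun T (ψ₁ : T → ℂ)) (indFun T (ψ₂ : T → ℂ))) :
    SameBlock M (ψ₁ : T → ℂ) (ψ₂ : T → ℂ) := by
  have hMp := isPrime_of_isPModular hM
  obtain ⟨χ₁, hχ₁, -, h11, h12⟩ := induced_irr N hN T hNT b hMp hb hT ψ₁ h₁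
  obtain ⟨χ₂, hχ₂, -, h21, h22⟩ := induced_irr N hN T hNT b hMp hb hT ψ₂ h₂
  rw [← hχ₁, ← hχ₂] at hs
  intro t
  have hc := incl_blockIdem_mem_center N hN T hNT b hT
  have hbR : ∀ n : N, MemLocalRing M (blockCoeff b n) :=
    fun n => blockCoeff_memLocalRing p M hM b hb n
  have huc : incl hNT (blockIdem b) * classSum t ∈ Zc T :=
    (Zc T).mul_mem hc (classSum_mem_center t)
  have huR : ∀ s : T, MemLocalRing M ((incl hNT (blockIdem b) * classSum t).coeff s) := by
    have e1 : incl hNT (blockIdem b) ∈ intSubring M hMp :=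
      (mem_intSubring M hMp).mpr (coeff_incl_memLocalRing hMp hNT _ (fun n => by
        rw [coeff_blockIdem]
        exact hbR n))
    have e2 : classSum t ∈ intSubring M hMp := classSum_mem_intSubring M hMp t
    exact (mem_intSubring M hMp).mp ((intSubring M hMp).mul_mem e1 e2)
  have hw := omega_sub_mem_of_sameBlock hMp χ₁.2 χ₂.2 hs
    (indElt T (incl hNT (blockIdem b) * classSum t)) (indElt_mem_center T _)
    (coeff_indElt_memLocalRing hMp T _ huc huR)
  rw [omega_indElt N hN T hNT b hT ψ₁ χ₁ hχ₁ h₁ h11 h12 (classSum t),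
    omega_indElt N hN T hNT b hT ψ₂ χ₂ hχ₂ h₂ h21 h22 (classSum t),
    omega_classSum _ (irr_conj_inv ψ₁) t, omega_classSum _ (irr_conj_inv ψ₂) t] at hw
  exact hw

/-- Every irreducible character of `G` over `b` is induced from an irreducible character of the
stabiliser over `b`. -/
theorem exists_induced_eq [Fintype G] [Fintype N] [Fintype T] (hMp : M.IsPrime)
    (hb : IsPBlock M b) (hT : ∀ g : G, g ∈ T ↔ ∀ θ ∈ b, cI N hN g θ ∈ b) (χ : IrrCharacter G)
    (hχ : ∃ θ ∈ b, classInner (fun n : N => (χ : G → ℂ) n) (θ : N → ℂ) ≠ 0) :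
    ∃ ψ : IrrCharacter T,
      (∃ θ ∈ b, classInner (fun n : N => (ψ : T → ℂ) ⟨(n : G), hNT n.2⟩) (θ : N → ℂ) ≠ 0) ∧
      (χ : G → ℂ) = indFun T (ψ : T → ℂ) := by
  obtain ⟨ψ, hψcov, hψne⟩ := exists_constituent_covering N hN T hNT b hT χ hχ
  obtain ⟨χ', hχ', -, -, -⟩ := induced_irr N hN T hNT b hMp hb hT ψ hψcov
  refine ⟨ψ, hψcov, ?_⟩
  have hχχ' : χ = χ' := by
    by_contra hne
    have h1 := irr_orthonormal χ χ'
    rw [if_neg hne, hχ', frobenius_reciprocity' T (ψ : T → ℂ) (χ : G → ℂ)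
      (irr_isClassFunction χ)] at h1
    exact hψne h1
  rw [hχχ', hχ']

end Cfsg.Agent.Lib.Helper16.FR3
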