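import Mathlib
import Cfsg.Prelude.Def_Blocks
import Cfsg.Agent.Lib.Helper16.FR3

/-!
# Fong–Reynolds, part 4: the theorems

`N ◁ G`, `b` a block of `N`, `T` its stabiliser in `G`.

* `fr_induced`: a block `B'` of `T` over `b` induces a block `B` of `G` over `b`, induction is
  irreducible on `B'` and `B = {ψ^G | ψ ∈ B'}`.
* `fr_injective`: distinct blocks of `T` over `b` induce distinct blocks.
* `fr_surjective`: every block of `G` over `b` is induced from a block of `T` over `b`.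
* `fr_defect`: defect groups and heights are preserved.
-/

set_option autoImplicit false

namespace Cfsg.Agent.Lib.Helper16.FR4

open Cfsg Cfsg.Agent.Lib.Helper77.LocalRing Cfsg.Agent.Lib.Helper77.CentralChar
  Cfsg.Agent.Lib.Helper77.ClassSum Cfsg.Agent.Lib.Helper77.BlockIdem
  Cfsg.Agent.Lib.CT.Wedderburn Cfsg.Agent.Lib.Helper16.ZR Cfsg.Agent.Lib.CT.Clifford
  Cfsg.Agent.Lib.Helper16.Normal Cfsg.Agent.Lib.Helper16.FR1 Cfsg.Agent.Lib.Helper16.FR2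
  Cfsg.Agent.Lib.Helper16.FR3 Cfsg.Agent.Lib.Helper16.Cover3
  Cfsg.Agent.Lib.CT.FrobRec Cfsg.Agent.Lib.CT.Orth Cfsg.Agent.Lib.CT.IndChar
open scoped ComplexConjugate

universe u

variable {G : Type u} [Group G] {M : Ideal AlgInt}
  (N : Subgroup G) (hN : N.Normal) (T : Subgroup G) (hNT : N ≤ T) (b : Set (IrrCharacter N))

theorem fr_induced [Fintype G] [Fintype N] [Fintype T] (p : ℕ) [Fact p.Prime]
    (hM : IsPModular p M) (hb : IsPBlock M b)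
    (hT : ∀ g : G, g ∈ T ↔ ∀ θ ∈ b, cI N hN g θ ∈ b)
    (B' : Set (IrrCharacter T)) (hB' : IsPBlock M B')
    (hcov : ∃ ψ ∈ B', ∃ θ ∈ b,
      classInner (fun n : N => (ψ : T → ℂ) ⟨(n : G), hNT n.2⟩) (θ : N → ℂ) ≠ 0) :
    ∃ B : Set (IrrCharacter G), IsInducedBlock M T B' B ∧
      (∃ χ ∈ B, ∃ θ ∈ b, classInner (fun n : N => (χ : G → ℂ) n) (θ : N → ℂ) ≠ 0) ∧
      (∀ ψ ∈ B', IsIrrCharacter G (indFun T (ψ : T → ℂ))) ∧
      ∀ χ : IrrCharacter G, χ ∈ B ↔ ∃ ψ ∈ B', (χ : G → ℂ) = indFun T (ψ : T → ℂ) := by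
  have hMp := isPrime_of_isPModular hM
  have hbR : ∀ n : N, MemLocalRing M (blockCoeff b n) :=
    fun n => blockCoeff_memLocalRing p M hM b hb n
  obtain ⟨ψ₀, hψ₀B, hψ₀⟩ := hcov
  have hall : ∀ ψ ∈ B', ∃ θ ∈ b,
      classInner (fun n : N => (ψ : T → ℂ) ⟨(n : G), hNT n.2⟩) (θ : N → ℂ) ≠ 0 :=
    fun ψ hψ => covers_of_sameBlock N hN T hNT b hMp hT hbR ψ₀ ψ
      (sameBlock_of_mem hMp hB' hψ₀B hψ) hψ₀
  obtain ⟨χ₀, hχ₀, hχ₀cov, -, -⟩ := induced_irr N hN T hNT b hMp hb hT ψ₀ hψ₀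
  have hicc : ∀ (ψ : IrrCharacter T) (χ : IrrCharacter G), (χ : G → ℂ) = indFun T (ψ : T → ℂ) →
      ∀ g : G, centralChar (χ : G → ℂ) g = inducedCentralChar T (ψ : T → ℂ) g := by
    intro ψ χ h g
    rw [h, centralChar_indFun]
  have hsame : ∀ ψ ∈ B', ∀ g : G, MemLocalIdeal M
      (inducedCentralChar T (ψ : T → ℂ) g - inducedCentralChar T (ψ₀ : T → ℂ) g) := by
    intro ψ hψ g
    exact Cfsg.Agent.Lib.Helper16.Induced.induced_sub_induced_mem hM.2.1 T _ _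
      (fun x k => irr_conj_inv ψ k x) (fun x k => irr_conj_inv ψ₀ k x)
      (sameBlock_of_mem hMp hB' hψ hψ₀B) g
  refine ⟨blockOf M (χ₀ : G → ℂ), ⟨hB', isPBlock_blockOf χ₀, ?_⟩,
    ⟨χ₀, mem_blockOf_self hMp χ₀, hχ₀cov⟩, ?_, ?_⟩
  · intro ξ hξ χ hχ g
    have h1 := hsame ξ hξ g
    have h2 : MemLocalIdeal M (centralChar (χ₀ : G → ℂ) g - centralChar (χ : G → ℂ) g) := hχ g
    rw [hicc ψ₀ χ₀ hχ₀ g] at h2
    have h3 := memLocalIdeal_add hMp h1 h2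
    rwa [sub_add_sub_cancel] at h3
  · intro ψ hψ
    obtain ⟨χ, hχ, -⟩ := induced_irr N hN T hNT b hMp hb hT ψ (hall ψ hψ)
    rw [← hχ]
    exact χ.2
  · intro χ
    constructor
    · intro hχ
      have hs : SameBlock M (χ₀ : G → ℂ) (χ : G → ℂ) := hχ
      have hcovχ : ∃ θ ∈ b, classInner (fun n : N => (χ : G → ℂ) n) (θ : N → ℂ) ≠ 0 := by
        obtain ⟨θ, hθ, hne⟩ := hχ₀cov
        obtain ⟨θ', ⟨g, hg⟩, hne'⟩ := Cfsg.Agent.Lib.Helper16.Over.over_of_sameBlock hMp N hN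
          (conjUnion N hN b) (gstable_conjUnion N hN b)
          (fun n => blockCoeff_memLocalRing_of_closed hMp _
            (blockClosed_conjUnion hMp N hN b hb) n) χ₀ χ hs
          ⟨θ, subset_conjUnion N hN b hθ, hne⟩
        refine ⟨cI N hN g θ', hg, ?_⟩
        rw [classInner_cI]
        exact hne'
      obtain ⟨ψ, hψcov, hψeq⟩ := exists_induced_eq N hN T hNT b hMp hb hT χ hcovχ
      refine ⟨ψ, ?_, hψeq⟩
      rw [isPBlock_eq_blockOf hMp hB' hψ₀B]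
      show SameBlock M (ψ₀ : T → ℂ) (ψ : T → ℂ)
      apply sameBlock_of_induced N hN T hNT b p hM hb hT ψ₀ ψ hψ₀ hψcov
      rw [← hχ₀, ← hψeq]
      exact hs
    · rintro ⟨ψ, hψ, hχ⟩
      show SameBlock M (χ₀ : G → ℂ) (χ : G → ℂ)
      intro g
      rw [hicc ψ₀ χ₀ hχ₀ g, hicc ψ χ hχ g]
      exact memLocalIdeal_sub_comm (hsame ψ hψ g)

theorem fr_injective [Fintype G] [Fintype N] [Fintype T] (p : ℕ) [Fact p.Prime]
    (hM : IsPModular p M) (hb : IsPBlock M b)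
    (hT : ∀ g : G, g ∈ T ↔ ∀ θ ∈ b, cI N hN g θ ∈ b)
    (B'₁ B'₂ : Set (IrrCharacter T)) (hB'₁ : IsPBlock M B'₁) (hB'₂ : IsPBlock M B'₂)
    (hcov₁ : ∃ ψ ∈ B'₁, ∃ θ ∈ b,
      classInner (fun n : N => (ψ : T → ℂ) ⟨(n : G), hNT n.2⟩) (θ : N → ℂ) ≠ 0)
    (hcov₂ : ∃ ψ ∈ B'₂, ∃ θ ∈ b,
      classInner (fun n : N => (ψ : T → ℂ) ⟨(n : G), hNT n.2⟩) (θ : N → ℂ) ≠ 0)
    (B : Set (IrrCharacter G)) (hind₁ : IsInducedBlock M T B'₁ B)
    (hind₂ : IsInducedBlock M T B'₂ B) : B'₁ = B'₂ := by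
  have hMp := isPrime_of_isPModular hM
  obtain ⟨ψ₁, hψ₁B, hψ₁⟩ := hcov₁
  obtain ⟨ψ₂, hψ₂B, hψ₂⟩ := hcov₂
  obtain ⟨χ, hχ⟩ := isPBlock_nonempty hMp hind₁.2.1
  have hs : SameBlock M (indFun T (ψ₁ : T → ℂ)) (indFun T (ψ₂ : T → ℂ)) := by
    intro g
    rw [centralChar_indFun, centralChar_indFun]
    have h1 := hind₁.2.2 ψ₁ hψ₁B χ hχ g
    have h2 := hind₂.2.2 ψ₂ hψ₂B χ hχ g
    have h3 := memLocalIdeal_sub hMp h1 h2
    rwa [sub_sub_sub_cancel_right] at h3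
  have h4 := sameBlock_of_induced N hN T hNT b p hM hb hT ψ₁ ψ₂ hψ₁ hψ₂ hs
  rw [isPBlock_eq_blockOf hMp hB'₁ hψ₁B, isPBlock_eq_blockOf hMp hB'₂ hψ₂B]
  exact (blockOf_eq_of_mem hMp (show ψ₂ ∈ blockOf M (ψ₁ : T → ℂ) from h4)).symm

theorem fr_surjective [Fintype G] [Fintype N] [Fintype T] (p : ℕ) [Fact p.Prime]
    (hM : IsPModular p M) (hb : IsPBlock M b)
    (hT : ∀ g : G, g ∈ T ↔ ∀ θ ∈ b, cI N hN g θ ∈ b)
    (B : Set (IrrCharacter G)) (hB : IsPBlock M B)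
    (hcov : ∃ χ ∈ B, ∃ θ ∈ b, classInner (fun n : N => (χ : G → ℂ) n) (θ : N → ℂ) ≠ 0) :
    ∃ B' : Set (IrrCharacter T), IsPBlock M B' ∧
      (∃ ψ ∈ B', ∃ θ ∈ b,
        classInner (fun n : N => (ψ : T → ℂ) ⟨(n : G), hNT n.2⟩) (θ : N → ℂ) ≠ 0) ∧
      IsInducedBlock M T B' B := by
  have hMp := isPrime_of_isPModular hM
  obtain ⟨χ, hχB, hχcov⟩ := hcov
  obtain ⟨ψ, hψcov, hψeq⟩ := exists_induced_eq N hN T hNT b hMp hb hT χ hχcov
  obtain ⟨B₁, hind, -, -, hmem⟩ := fr_induced N hN T hNT b p hM hb hT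
    (blockOf M (ψ : T → ℂ)) (isPBlock_blockOf ψ) ⟨ψ, mem_blockOf_self hMp ψ, hψcov⟩
  have hχB₁ : χ ∈ B₁ := (hmem χ).mpr ⟨ψ, mem_blockOf_self hMp ψ, hψeq⟩
  have hBB₁ : B₁ = B := by
    rw [isPBlock_eq_blockOf hMp hind.2.1 hχB₁, isPBlock_eq_blockOf hMp hB hχB]
  exact ⟨blockOf M (ψ : T → ℂ), isPBlock_blockOf ψ, ⟨ψ, mem_blockOf_self hMp ψ, hψcov⟩,
    hBB₁ ▸ hind⟩

theorem sInf_image_add (c : ℕ) (S : Set ℕ) (hS : S.Nonempty) :
    sInf ((fun m => c + m) '' S) = c + sInf S := by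
  apply le_antisymm
  · exact Nat.sInf_le ⟨sInf S, Nat.sInf_mem hS, rfl⟩
  · obtain ⟨s, hs, hs'⟩ := Nat.sInf_mem (hS.image (fun m => c + m))
    rw [← hs']
    exact Nat.add_le_add_left (Nat.sInf_le hs) c

theorem fr_defect [Fintype G] [Fintype N] [Fintype T] (p : ℕ) [Fact p.Prime]
    (hM : IsPModular p M) (hb : IsPBlock M b)
    (hT : ∀ g : G, g ∈ T ↔ ∀ θ ∈ b, cI N hN g θ ∈ b)
    (B' : Set (IrrCharacter T)) (hB' : IsPBlock M B')
    (hcov : ∃ ψ ∈ B', ∃ θ ∈ b,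
      classInner (fun n : N => (ψ : T → ℂ) ⟨(n : G), hNT n.2⟩) (θ : N → ℂ) ≠ 0)
    (B : Set (IrrCharacter G)) (hind : IsInducedBlock M T B' B) :
    (∀ D : Subgroup T, IsDefectGroup p M B' D → IsDefectGroup p M B (D.map T.subtype)) ∧
      ∀ ψ ∈ B', ∃ χ ∈ B, (χ : G → ℂ) = indFun T (ψ : T → ℂ) ∧
        blockHeight p B (χ : G → ℂ) = blockHeight p B' (ψ : T → ℂ) := by
  classical
  have hp : p.Prime := Fact.out
  have hMp := isPrime_of_isPModular hM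
  obtain ⟨B₁, hind₁, -, hirr, hmem⟩ := fr_induced N hN T hNT b p hM hb hT B' hB' hcov
  have hBB₁ : B₁ = B :=
    Cfsg.Agent.Lib.Helper16.SylowBlocks.induced_unique hMp T B' B₁ B hind₁ hind
  subst hBB₁
  have hI0 : T.index ≠ 0 := Subgroup.index_ne_zero_of_finite
  have hdeg : ∀ (ψ : IrrCharacter T) (χ : IrrCharacter G),
      (χ : G → ℂ) = indFun T (ψ : T → ℂ) →
      (charDegree (χ : G → ℂ)).factorization p
        = T.index.factorization p + (charDegree (ψ : T → ℂ)).factorization p := by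
    intro ψ χ h
    have h1 : charDegree (χ : G → ℂ) = T.index * charDegree (ψ : T → ℂ) := by
      apply charDegree_eq_of_apply_one
      rw [h, indFun_one, ← char_natCast_charDegree (isCharacter_of_irr ψ.2), Nat.cast_mul]
    rw [h1, Nat.factorization_mul hI0 (irr_charDegree_pos ψ.2).ne', Finsupp.add_apply]
  have hB'ne : ((fun ψ : IrrCharacter T => (charDegree (ψ : T → ℂ)).factorization p) '' B').Nonempty := by
    obtain ⟨ψ, hψ⟩ := isPBlock_nonempty hMp hB'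
    exact ⟨_, ψ, hψ, rfl⟩
  have himage : (fun χ : IrrCharacter G => (charDegree (χ : G → ℂ)).factorization p) '' B₁
      = (fun m => T.index.factorization p + m) ''
        ((fun ψ : IrrCharacter T => (charDegree (ψ : T → ℂ)).factorization p) '' B') := by
    ext m
    constructor
    · rintro ⟨χ, hχ, rfl⟩
      obtain ⟨ψ, hψ, hχψ⟩ := (hmem χ).mp hχ
      exact ⟨_, ⟨ψ, hψ, rfl⟩, (hdeg ψ χ hχψ).symm⟩
    · rintro ⟨_, ⟨ψ, hψ, rfl⟩, rfl⟩
      refine ⟨⟨indFun T (ψ : T → ℂ), hirr ψ hψ⟩, (hmem _).mpr ⟨ψ, hψ, rfl⟩, ?_⟩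
      exact hdeg ψ ⟨indFun T (ψ : T → ℂ), hirr ψ hψ⟩ rfl
  have hsInf : sInf ((fun χ : IrrCharacter G => (charDegree (χ : G → ℂ)).factorization p) '' B₁)
      = T.index.factorization p
        + sInf ((fun ψ : IrrCharacter T => (charDegree (ψ : T → ℂ)).factorization p) '' B') := by
    rw [himage]
    exact sInf_image_add _ _ hB'ne
  have hcard : (Nat.card G).factorization p
      = T.index.factorization p + (Nat.card T).factorization p := by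
    rw [← Subgroup.index_mul_card T, Nat.factorization_mul hI0 Nat.card_pos.ne',
      Finsupp.add_apply]
  have hdefect : blockDefect p B₁ = blockDefect p B' := by
    unfold blockDefect
    rw [hsInf, hcard]
    omega
  refine ⟨?_, ?_⟩
  · intro D hD
    obtain ⟨E, hE, hle⟩ := Cfsg.Agent.Lib.Helper16.IndBlock.defectGroup_le_of_induced hM T B' B₁
      hind D hD
    have hc1 : Nat.card (D.map T.subtype) = p ^ blockDefect p B' := by
      rw [Subgroup.card_map_of_injective (Subgroup.subtype_injective _)]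
      exact Cfsg.Agent.Lib.Helper16.Defect.card_defectGroup p hM B' hB' D hD
    have hc2 : Nat.card E = p ^ blockDefect p B₁ :=
      Cfsg.Agent.Lib.Helper16.Defect.card_defectGroup p hM B₁ hind.2.1 E hE
    have heq : D.map T.subtype = E := Subgroup.eq_of_le_of_card_ge hle (by
      rw [hc1, hc2, hdefect])
    rw [heq]
    exact hE
  · intro ψ hψ
    refine ⟨⟨indFun T (ψ : T → ℂ), hirr ψ hψ⟩, (hmem _).mpr ⟨ψ, hψ, rfl⟩, rfl, ?_⟩
    unfold blockHeight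
    rw [hsInf, hdeg ψ ⟨indFun T (ψ : T → ℂ), hirr ψ hψ⟩ rfl]
    omega

end Cfsg.Agent.Lib.Helper16.FR4
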