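import Mathlib
import Cfsg.Prelude.Def_Blocks
import Cfsg.Agent.Lib.Helper16.FirstMain
import Cfsg.Agent.Lib.Helper16.Over
import Cfsg.Agent.Lib.Helper16.Cover3
import Cfsg.Agent.Lib.Helper16.Cover4
import Cfsg.Agent.Lib.Helper16.PSection
import Cfsg.Agent.Lib.Helper16.Defect

/-!
# Fong's theorem on blocks covering an invariant block

`N ◁ G`, `b` a `G`-stable block of `N`.

* `card_of_isSylIn`, `isSylIn_inf_of_normal`, `isSylIn_subgroupOf_centralizer`: Sylow bookkeeping.
* `blockDefect_le_of_centralChar`: `d(B) ≤ ν_p |C_G(h)|` if `ω_χ(h) ≢ 0` for some `χ ∈ B`.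
* `le_blockDefect_of_blockCoeff`: `ν_p |C_G(h)| ≤ d(B)` if the idempotent coefficient of `B` at `h`
  is a unit.
* `exists_block_coeff`: a unit coefficient of a block-closed set comes from one of its blocks.
* `exists_fong_class`: a defect class `x` of `b` with `ω_χ(x) ≢ 0` and
  `ν_p |C_G(x)| = ν_p |C_N(x)| + ν_p |G : N|`.
* `fong`: the theorem.
-/

set_option autoImplicit false

namespace Cfsg.Agent.Lib.Helper16.Fong

open Cfsg Cfsg.Agent.Lib.Helper77.LocalRing Cfsg.Agent.Lib.Helper77.CentralChar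
  Cfsg.Agent.Lib.Helper77.ClassSum Cfsg.Agent.Lib.Helper77.BlockIdem
  Cfsg.Agent.Lib.Helper16.ZR Cfsg.Agent.Lib.CT.Wedderburn Cfsg.Agent.Lib.Helper16.MinMax
  Cfsg.Agent.Lib.Helper16.Defect Cfsg.Agent.Lib.Helper16.Normal
  Cfsg.Agent.Lib.Helper16.FirstMain Cfsg.Agent.Lib.Helper16.PSection
  Cfsg.Agent.Lib.Helper33.Conj Cfsg.Agent.Lib.CT.FrobRec
open Cfsg.Agent.Lib.Helper16.CentralChar (conjFinset mem_conjFinset card_conjFinset)

universe u
variable {G : Type u} [Group G] {M : Ideal AlgInt}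

theorem card_of_isSylIn [Finite G] {p : ℕ} [Fact p.Prime] {R C : Subgroup G}
    (h : IsSylIn p R C) : Nat.card R = p ^ (Nat.card C).factorization p := by
  obtain ⟨P, hP⟩ := exists_sylow_of_isSylIn h
  rw [← hP, Subgroup.card_map_of_injective (Subgroup.subtype_injective _)]
  exact P.card_eq_multiplicity

theorem isSylIn_inf_of_normal [Finite G] {p : ℕ} [Fact p.Prime] {S C K : Subgroup G}
    (h : IsSylIn p S C) (hKC : K ≤ C) (hK : ∀ c ∈ C, ∀ k ∈ K, c * k * c⁻¹ ∈ K) :
    IsSylIn p (S ⊓ K) K := by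
  have hSKp : IsPGroup p ↥(S ⊓ K) := h.2.1.to_le inf_le_left
  obtain ⟨T, hT1, hT⟩ := exists_isSylIn (inf_le_right : S ⊓ K ≤ K) hSKp
  obtain ⟨c, hcC, hc⟩ := h.exists_cj_le (hT.1.trans hKC) hT.2.1
  have hTK : T.map (MulAut.conj c).toMonoidHom ≤ K := by
    intro y hy
    rw [mem_cj] at hy
    have h1 := hK c hcC _ (hT.1 hy)
    have h2 : c * (c⁻¹ * y * c) * c⁻¹ = y := by group
    rwa [h2] at h1
  have hle : T.map (MulAut.conj c).toMonoidHom ≤ S ⊓ K := le_inf hc hTK
  have hcard : Nat.card T ≤ Nat.card ↥(S ⊓ K) := by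
    rw [← card_cj c T]
    exact Subgroup.card_le_of_le hle
  have heq : S ⊓ K = T := Subgroup.eq_of_le_of_card_ge hT1 hcard
  rw [heq]
  exact hT

theorem isSylIn_subgroupOf_centralizer {p : ℕ} (H : Subgroup G) (D : Subgroup G) (hDH : D ≤ H)
    (y : H) (h : IsSylIn p D (Subgroup.centralizer ({(y : G)} : Set G) ⊓ H)) :
    IsSylIn p (D.subgroupOf H) (Subgroup.centralizer ({y} : Set H)) := by
  refine ⟨?_, h.2.1.comap_subtype, ?_⟩
  · intro d hd
    have hd' : (d : G) ∈ D := Subgroup.mem_subgroupOf.mp hd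
    have h1 : (d : G) ∈ Subgroup.centralizer ({(y : G)} : Set G) := (h.1 hd').1
    rw [mem_centralizer_singleton] at h1 ⊢
    exact Subtype.ext h1
  · have h1 := Subgroup.relIndex_map_map_of_injective (D.subgroupOf H)
      (Subgroup.centralizer ({y} : Set H)) H.subtype_injective
    rw [map_centralizer_subtype, Subgroup.map_subgroupOf_eq_of_le hDH] at h1
    rw [← h1]
    exact h.2.2

theorem blockDefect_le_of_centralChar [Finite G] (p : ℕ) [Fact p.Prime] (hM : IsPModular p M)
    (B : Set (IrrCharacter G)) (hB : IsPBlock M B) (h : G)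
    (hh : ∃ χ ∈ B, ¬ MemLocalIdeal M (centralChar (χ : G → ℂ) h)) :
    blockDefect p B ≤ (Nat.card (Subgroup.centralizer ({h} : Set G))).factorization p := by
  have hp : p.Prime := Fact.out
  obtain ⟨D, hD⟩ := exists_defectGroup hM B hB
  obtain ⟨g, hg, hDg⟩ := isDefectGroup_iff.mp hD
  obtain ⟨x, Q, hQ, hle⟩ := minmax_b hM B hB g hg D hDg h hh
  have h1 : Nat.card D ≤ Nat.card Q := by
    rw [← card_cj x D]
    exact Subgroup.card_le_of_le hle
  rw [card_defectGroup p hM B hB D hD, card_of_isSylIn hQ] at h1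
  exact (Nat.pow_le_pow_iff_right hp.one_lt).mp h1

theorem le_blockDefect_of_blockCoeff [Finite G] (p : ℕ) [Fact p.Prime] (hM : IsPModular p M)
    (B : Set (IrrCharacter G)) (hB : IsPBlock M B) (h : G)
    (hh : ¬ MemLocalIdeal M (blockCoeff B h)) :
    (Nat.card (Subgroup.centralizer ({h} : Set G))).factorization p ≤ blockDefect p B := by
  have hp : p.Prime := Fact.out
  obtain ⟨D, hD⟩ := exists_defectGroup hM B hB
  obtain ⟨g, hg, hDg⟩ := isDefectGroup_iff.mp hD
  obtain ⟨Q, -, hQ⟩ := exists_isSylIn (p := p)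
    (bot_le : (⊥ : Subgroup G) ≤ Subgroup.centralizer ({h} : Set G)) IsPGroup.of_bot
  obtain ⟨x, hx⟩ := minmax_a hM B hB g hg D hDg h hh Q hQ.2.1 hQ.1
  have h1 : Nat.card Q ≤ Nat.card D := by
    rw [← card_cj x D]
    exact Subgroup.card_le_of_le hx
  rw [card_defectGroup p hM B hB D hD, card_of_isSylIn hQ] at h1
  exact (Nat.pow_le_pow_iff_right hp.one_lt).mp h1

/-- A unit idempotent coefficient of a block-closed set comes from one of its blocks. -/
theorem exists_block_coeff [Finite G] (hMp : M.IsPrime) (S : Set (IrrCharacter G))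
    (hS : BlockClosed M S) (g : G) (hg : ¬ MemLocalIdeal M (blockCoeff S g)) :
    ∃ χ ∈ S, ¬ MemLocalIdeal M (blockCoeff (blockOf M (χ : G → ℂ)) g) := by
  classical
  by_contra hcon
  push Not at hcon
  apply hg
  have : Fintype G := Fintype.ofFinite G
  have : Finite (IrrCharacter G) := finite_irrCharacter G
  have : Fintype (IrrCharacter G) := Fintype.ofFinite _
  set Bl : Finset (Set (IrrCharacter G)) :=
    (Finset.univ.filter (fun χ : IrrCharacter G => χ ∈ S)).image
      (fun χ : IrrCharacter G => blockOf M (χ : G → ℂ)) with hBl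
  have hkey : blockCoeff S g = ∑ B ∈ Bl, blockCoeff B g := by
    rw [blockCoeff_eq_sum]
    have h1 : ∀ B ∈ Bl, blockCoeff B g = (Nat.card G : ℂ)⁻¹ * ∑ χ : IrrCharacter G,
        B.indicator (fun χ : IrrCharacter G => (χ : G → ℂ) 1 * (χ : G → ℂ) g⁻¹) χ :=
      fun B _ => blockCoeff_eq_sum B g
    rw [Finset.sum_congr rfl h1, ← Finset.mul_sum, Finset.sum_comm]
    congr 1
    apply Finset.sum_congr rfl
    intro χ _
    by_cases hχ : χ ∈ S
    · rw [Set.indicator_of_mem hχ]
      rw [Finset.sum_eq_single (blockOf M (χ : G → ℂ))]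
      · rw [Set.indicator_of_mem (mem_blockOf_self hMp χ)]
      · intro B hB hne
        rw [hBl, Finset.mem_image] at hB
        obtain ⟨ψ, hψ, rfl⟩ := hB
        apply Set.indicator_of_notMem
        intro hmem
        exact hne (blockOf_eq_of_mem hMp hmem).symm
      · intro hnot
        exfalso
        apply hnot
        rw [hBl, Finset.mem_image]
        exact ⟨χ, by simp [hχ], rfl⟩
    · rw [Set.indicator_of_notMem hχ]
      symm
      apply Finset.sum_eq_zero
      intro B hB
      rw [hBl, Finset.mem_image] at hB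
      obtain ⟨ψ, hψ, rfl⟩ := hB
      apply Set.indicator_of_notMem
      intro hmem
      apply hχ
      have hψS : ψ ∈ S := by simpa using hψ
      exact hS ψ hψS χ hmem
  rw [hkey]
  apply memLocalIdeal_sum hMp
  intro B hB
  rw [hBl, Finset.mem_image] at hB
  obtain ⟨ψ, hψ, rfl⟩ := hB
  have hψS : ψ ∈ S := by simpa using hψ
  exact hcon ψ hψS

/-- A defect class of the `G`-stable block `b` of `N` on which the central character of a
character `χ` covering `b` is a unit, with centralizer as large as possible. -/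
theorem exists_fong_class [Fintype G] (p : ℕ) [Fact p.Prime] (hM : IsPModular p M)
    (N : Subgroup G) [hN : N.Normal] [Fintype N] (b : Set (IrrCharacter N)) (hb : IsPBlock M b)
    (hst : GStable N hN b) (χ : IrrCharacter G)
    (hχ : ∃ θ ∈ b, classInner (fun n : N => (χ : G → ℂ) n) (θ : N → ℂ) ≠ 0) :
    ∃ x : N, IsDefectClass M b x ∧ ¬ MemLocalIdeal M (centralChar (χ : G → ℂ) (x : G)) ∧
      (Nat.card (Subgroup.centralizer ({(x : G)} : Set G))).factorization p
        = (Nat.card (Subgroup.centralizer ({x} : Set N))).factorization p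
          + N.index.factorization p := by
  classical
  have hp : p.Prime := Fact.out
  have hMp := isPrime_of_isPModular hM
  have h1 : omega (χ : G → ℂ) (iota N (blockIdem b)) = 1 :=
    omega_iota_blockIdem_of_exists N hN b hst χ hχ
  obtain ⟨R, hR⟩ := exists_reps_omega (G := G)
  have h2 := hR (χ : G → ℂ) (iota N (blockIdem b)) (irr_conj_inv χ)
    (iota_mem_center N hN _ (ginv_blockIdem N hN b hst))
  rw [h1] at h2
  have h3 : ∃ r ∈ R, ¬ MemLocalIdeal M
      ((iota N (blockIdem b)).coeff r * centralChar (χ : G → ℂ) r) := by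
    by_contra hcon
    push Not at hcon
    apply not_memLocalIdeal_one hMp
    rw [h2]
    exact memLocalIdeal_sum hMp R _ hcon
  obtain ⟨r, -, hr⟩ := h3
  have hrN : r ∈ N := by
    by_contra hrN
    apply hr
    rw [coeff_iota_of_not_mem N _ r hrN, zero_mul]
    exact memLocalIdeal_zero hMp
  obtain ⟨θ, hθ, hθχ⟩ := hχ
  set x : N := ⟨r, hrN⟩ with hx
  have hcoef : (iota N (blockIdem b)).coeff r = blockCoeff b x := by
    have h := coeff_iota_coe N (blockIdem b) x
    rw [coeff_blockIdem] at h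
    exact h
  rw [hcoef] at hr
  have hbR : MemLocalRing M (blockCoeff b x) := blockCoeff_memLocalRing p M hM b hb x
  have hcR : MemLocalRing M (centralChar (χ : G → ℂ) r) :=
    memLocalRing_of_isIntegral hMp (isIntegral_centralChar χ.2 r)
  have hb1 : ¬ MemLocalIdeal M (blockCoeff b x) :=
    fun h => hr (memLocalIdeal_mul_right hMp h hcR)
  have hc1 : ¬ MemLocalIdeal M (centralChar (χ : G → ℂ) r) :=
    fun h => hr (memLocalIdeal_mul_left hMp hbR h)
  have h4 : centralChar (χ : G → ℂ) (x : G) = inducedCentralChar N (θ : N → ℂ) (x : G) :=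
    Cfsg.Agent.Lib.Helper16.Cover.centralChar_eq_induced_of_constituent N hN χ θ hθχ x
  obtain ⟨R', hR'1, hR'2, hR'3, hR'4⟩ := inducedCentralChar_eq_sum_reps' N (x : G)
  have h5 := hR'4 (θ : N → ℂ) (fun x k => irr_conj_inv θ k x)
  have h6 : ∀ r' ∈ R', MemLocalIdeal M
      (centralChar (θ : N → ℂ) r' - centralChar (θ : N → ℂ) x) := by
    intro r' hr'
    obtain ⟨g, hg⟩ := isConj_iff.mp (hR'1 r' hr')
    have h7 := Cfsg.Agent.Lib.Helper16.Cover3.centralChar_cI N hN g θ x
    have h8 : (⟨g * (x : G) * g⁻¹, hN.conj_mem x x.2 g⟩ : N) = r' := Subtype.ext hg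
    rw [h8] at h7
    rw [← h7]
    exact sameBlock_of_mem hMp hb (hst θ hθ g) hθ x
  have h9 : MemLocalIdeal M (centralChar (χ : G → ℂ) (x : G)
      - (R'.card : ℂ) * centralChar (θ : N → ℂ) x) := by
    rw [h4, h5]
    have h : ∑ r' ∈ R', centralChar (θ : N → ℂ) r' - (R'.card : ℂ) * centralChar (θ : N → ℂ) x
        = ∑ r' ∈ R', (centralChar (θ : N → ℂ) r' - centralChar (θ : N → ℂ) x) := by
      rw [Finset.sum_sub_distrib, Finset.sum_const, nsmul_eq_mul]
    rw [h]
    exact memLocalIdeal_sum hMp R' _ h6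
  have hθR : MemLocalRing M (centralChar (θ : N → ℂ) x) :=
    memLocalRing_of_isIntegral hMp (isIntegral_centralChar θ.2 x)
  have h10 : ¬ MemLocalIdeal M ((R'.card : ℂ) * centralChar (θ : N → ℂ) x) := by
    intro h
    apply hc1
    have h' := memLocalIdeal_add hMp h9 h
    rw [sub_add_cancel] at h'
    exact h'
  have hpR' : ¬ p ∣ R'.card := by
    intro hd
    exact h10 (memLocalIdeal_mul_right hMp (memLocalIdeal_natCast_of_dvd hM hd) hθR)
  have hθ1 : ¬ MemLocalIdeal M (centralChar (θ : N → ℂ) x) := fun h =>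
    h10 (memLocalIdeal_mul_left hMp (memLocalRing_natCast hMp _) h)
  have hdc : IsDefectClass M b x := by
    refine ⟨hbR, hb1, ?_⟩
    intro θ' hθ' hmem
    apply hθ1
    have h := sameBlock_of_mem hMp hb hθ hθ' x
    have h' := memLocalIdeal_add hMp h hmem
    rw [sub_add_cancel] at h'
    exact h'
  refine ⟨x, hdc, hc1, ?_⟩
  have h11 := hR'4 (fun _ : N => (1 : ℂ)) (fun _ _ => rfl)
  have h12 : inducedCentralChar N (fun _ : N => (1 : ℂ)) (x : G)
      = ((Subgroup.centralizer ({(x : G)} : Set G)).index : ℂ) := by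
    unfold inducedCentralChar
    rw [← Cfsg.Agent.Lib.Helper16.Cover3.sum_conjFinset_extendByZero N
      (fun _ : N => (1 : ℂ) / 1) (x : G)]
    have h : ∀ y ∈ conjFinset (x : G), extendByZero N (fun _ : N => (1 : ℂ) / 1) y = 1 := by
      intro y hy
      obtain ⟨g, hg⟩ := isConj_iff.mp (mem_conjFinset.mp hy)
      have hyN : y ∈ N := by
        rw [← hg]
        exact hN.conj_mem x x.2 g
      rw [extendByZero_apply_of_mem N _ hyN]
      simp
    rw [Finset.sum_congr rfl h, Finset.sum_const, card_conjFinset, nsmul_eq_mul, mul_one]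
  have h13 : ∀ r' ∈ R', centralChar (fun _ : N => (1 : ℂ)) r'
      = ((Subgroup.centralizer ({x} : Set N)).index : ℂ) := by
    intro r' hr'
    obtain ⟨g, hg⟩ := isConj_iff.mp (hR'1 r' hr')
    unfold centralChar
    have h8 : MulAut.conjNormal g x = r' := Subtype.ext (by
      rw [MulAut.conjNormal_apply]
      exact hg)
    rw [← h8, Cfsg.Agent.Lib.Helper16.Cover3.index_centralizer_equiv (MulAut.conjNormal g) x]
    simp
  rw [h12, Finset.sum_congr rfl h13, Finset.sum_const, nsmul_eq_mul] at h11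
  have h14 : (Subgroup.centralizer ({(x : G)} : Set G)).index
      = R'.card * (Subgroup.centralizer ({x} : Set N)).index := by
    exact_mod_cast h11
  have e1 : (Subgroup.centralizer ({(x : G)} : Set G)).index
      * Nat.card (Subgroup.centralizer ({(x : G)} : Set G)) = Nat.card G :=
    Subgroup.index_mul_card _
  have e2 : (Subgroup.centralizer ({x} : Set N)).index
      * Nat.card (Subgroup.centralizer ({x} : Set N)) = Nat.card N := Subgroup.index_mul_card _
  have e3 : N.index * Nat.card N = Nat.card G := Subgroup.index_mul_card _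
  have n1 : (Subgroup.centralizer ({(x : G)} : Set G)).index ≠ 0 :=
    Subgroup.index_ne_zero_of_finite
  have n2 : Nat.card (Subgroup.centralizer ({(x : G)} : Set G)) ≠ 0 := Nat.card_pos.ne'
  have n3 : (Subgroup.centralizer ({x} : Set N)).index ≠ 0 := Subgroup.index_ne_zero_of_finite
  have n4 : Nat.card (Subgroup.centralizer ({x} : Set N)) ≠ 0 := Nat.card_pos.ne'
  have n5 : N.index ≠ 0 := Subgroup.index_ne_zero_of_finite
  have n6 : Nat.card N ≠ 0 := Nat.card_pos.ne'
  have n7 : R'.card ≠ 0 := by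
    intro h0
    rw [h0, zero_mul] at h14
    exact n1 h14
  have f1 := congrArg (fun n : ℕ => n.factorization p) e1
  have f2 := congrArg (fun n : ℕ => n.factorization p) e2
  have f3 := congrArg (fun n : ℕ => n.factorization p) e3
  have f4 := congrArg (fun n : ℕ => n.factorization p) h14
  simp only [Nat.factorization_mul n1 n2, Nat.factorization_mul n3 n4,
    Nat.factorization_mul n5 n6, Nat.factorization_mul n7 n3, Finsupp.add_apply] at f1 f2 f3 f4
  have f5 : R'.card.factorization p = 0 := Nat.factorization_eq_zero_of_not_dvd hpR'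
  omega

/-- **Fong's theorem** for a block covering a `G`-stable block of a normal subgroup, of largest
defect among the covering blocks. -/
theorem fong [Fintype G] (p : ℕ) [Fact p.Prime] (hM : IsPModular p M)
    (N : Subgroup G) [hN : N.Normal] [Fintype N] (b : Set (IrrCharacter N)) (hb : IsPBlock M b)
    (hst : GStable N hN b) (B : Set (IrrCharacter G)) (hB : IsPBlock M B)
    (hcov : ∃ χ ∈ B, ∃ θ ∈ b, classInner (fun n : N => (χ : G → ℂ) n) (θ : N → ℂ) ≠ 0)
    (hmax : ∀ B' : Set (IrrCharacter G), IsPBlock M B' →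
      (∃ χ ∈ B', ∃ θ ∈ b, classInner (fun n : N => (χ : G → ℂ) n) (θ : N → ℂ) ≠ 0) →
      blockDefect p B' ≤ blockDefect p B)
    (P : Subgroup G) (hP : IsDefectGroup p M B P) :
    ¬ p ∣ (P ⊔ N).index ∧ IsDefectGroup p M b ((P ⊓ N).subgroupOf N) ∧
      blockDefect p B = blockDefect p b + N.index.factorization p := by
  classical
  have hp : p.Prime := Fact.out
  have hMp := isPrime_of_isPModular hM
  obtain ⟨χ, hχB, hχ⟩ := hcov
  obtain ⟨x, hx, hcx, hν⟩ := exists_fong_class p hM N b hb hst χ hχ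
  have hdb := factorization_card_centralizer_of_isDefectClass p hM b hb x hx
  have hle1 := blockDefect_le_of_centralChar p hM B hB (x : G) ⟨χ, hχB, hcx⟩
  set S : Set (IrrCharacter G) :=
    {ψ | ∃ θ ∈ b, classInner (fun n : N => (ψ : G → ℂ) n) (θ : N → ℂ) ≠ 0} with hS
  have hbR : ∀ n : N, MemLocalRing M (blockCoeff b n) :=
    fun n => blockCoeff_memLocalRing p M hM b hb n
  have hSc : BlockClosed M S := fun ψ hψ ψ' hs =>
    Cfsg.Agent.Lib.Helper16.Over.over_of_sameBlock hMp N hN b hst hbR ψ ψ' hs hψ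
  have hidem : iota N (blockIdem b) = blockIdem S := by
    apply eq_of_omega_eq _ _ (iota_mem_center N hN _ (ginv_blockIdem N hN b hst))
      (blockIdem_mem_center S)
    intro ψ
    rw [omega_blockIdem]
    by_cases hψ : ψ ∈ S
    · rw [if_pos hψ]
      exact omega_iota_blockIdem_of_exists N hN b hst ψ hψ
    · rw [if_neg hψ]
      apply omega_iota_blockIdem_of_forall N b ψ
      intro θ hθ
      by_contra hne
      exact hψ ⟨θ, hθ, hne⟩
  have hcoefS : blockCoeff S (x : G) = blockCoeff b x := by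
    rw [← coeff_blockIdem, ← hidem, coeff_iota_coe, coeff_blockIdem]
  obtain ⟨ψ, hψS, hψc⟩ := exists_block_coeff hMp S hSc (x : G) (by
    rw [hcoefS]
    exact hx.2.1)
  have hle2 := le_blockDefect_of_blockCoeff p hM (blockOf M (ψ : G → ℂ)) (isPBlock_blockOf ψ)
    (x : G) hψc
  have hle3 := hmax (blockOf M (ψ : G → ℂ)) (isPBlock_blockOf ψ)
    ⟨ψ, mem_blockOf_self hMp ψ, hψS⟩
  have hdB : blockDefect p B
      = (Nat.card (Subgroup.centralizer ({(x : G)} : Set G))).factorization p := by omega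
  have h3 : blockDefect p B = blockDefect p b + N.index.factorization p := by omega
  obtain ⟨g, hg, hPg⟩ := isDefectGroup_iff.mp hP
  obtain ⟨y, Q, hQ, hle⟩ := minmax_b hM B hB g hg P hPg (x : G) ⟨χ, hχB, hcx⟩
  have hcP : Nat.card P = p ^ blockDefect p B := card_defectGroup p hM B hB P hP
  have hcQ : Nat.card Q = p ^ blockDefect p B := by rw [card_of_isSylIn hQ, hdB]
  have hPy : P.map (MulAut.conj y).toMonoidHom = Q := by
    apply Subgroup.eq_of_le_of_card_ge hle
    rw [card_cj, hcP, hcQ]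
  have hSyl0 : IsSylIn p (P.map (MulAut.conj y).toMonoidHom)
      (Subgroup.centralizer ({(x : G)} : Set G)) := hPy ▸ hQ
  have hSyl1 := hSyl0.cj y⁻¹
  rw [cj_inv_cj, ← centralizer_conj] at hSyl1
  set x₁ : N := ⟨y⁻¹ * (x : G) * y⁻¹⁻¹, hN.conj_mem x x.2 y⁻¹⟩ with hx₁
  have hdc₁ : IsDefectClass M b x₁ := by
    have hco : blockCoeff b x₁ = blockCoeff b x := by
      have h := ginv_blockIdem N hN b hst y⁻¹ x
      rw [coeff_blockIdem, coeff_blockIdem] at h
      exact h
    refine ⟨hco ▸ hx.1, hco ▸ hx.2.1, ?_⟩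
    intro θ hθ
    have h := Cfsg.Agent.Lib.Helper16.Cover3.centralChar_cI N hN y⁻¹ θ x
    rw [← h]
    exact hx.2.2 _ (hst θ hθ y⁻¹)
  have hSyl2 : IsSylIn p P (Subgroup.centralizer ({(x₁ : G)} : Set G)) := hSyl1
  have hK : IsSylIn p (P ⊓ (Subgroup.centralizer ({(x₁ : G)} : Set G) ⊓ N))
      (Subgroup.centralizer ({(x₁ : G)} : Set G) ⊓ N) := by
    apply isSylIn_inf_of_normal hSyl2 inf_le_left
    intro c hc k hk
    exact ⟨Subgroup.mul_mem _ (Subgroup.mul_mem _ hc hk.1) (Subgroup.inv_mem _ hc),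
      hN.conj_mem k hk.2 c⟩
  have hinf : P ⊓ (Subgroup.centralizer ({(x₁ : G)} : Set G) ⊓ N) = P ⊓ N := by
    rw [← inf_assoc, inf_eq_left.mpr hSyl2.1]
  rw [hinf] at hK
  have hSyl3 := isSylIn_subgroupOf_centralizer N (P ⊓ N) inf_le_right x₁ hK
  have hD2 : IsDefectGroup p M b ((P ⊓ N).subgroupOf N) :=
    isDefectGroup_iff.mpr ⟨x₁, hdc₁, hSyl3⟩
  refine ⟨?_, hD2, h3⟩
  have hc2 : Nat.card ((P ⊓ N).subgroupOf N) = p ^ blockDefect p b :=
    card_defectGroup p hM b hb _ hD2
  have hc2' : Nat.card (P ⊓ N : Subgroup G) = p ^ blockDefect p b := by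
    rw [← hc2]
    exact Nat.card_congr (Subgroup.subgroupOfEquivOfLe inf_le_right).symm.toEquiv
  have hrel : N.relIndex P * Nat.card (P ⊓ N : Subgroup G) = Nat.card P := by
    have h1 : (N.subgroupOf P).index * Nat.card (N.subgroupOf P) = Nat.card P :=
      Subgroup.index_mul_card _
    have h2 : Nat.card (N.subgroupOf P) = Nat.card (P ⊓ N : Subgroup G) := by
      rw [← Subgroup.inf_subgroupOf_right N P, inf_comm]
      exact Nat.card_congr (Subgroup.subgroupOfEquivOfLe inf_le_left).toEquiv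
    rw [h2] at h1
    exact h1
  rw [hc2', hcP, h3, pow_add] at hrel
  have hrel' : N.relIndex P = p ^ N.index.factorization p := by
    have hpos : 0 < p ^ blockDefect p b := pow_pos hp.pos _
    apply Nat.eq_of_mul_eq_mul_right hpos
    rw [hrel, mul_comm]
  have h4 : N.relIndex (P ⊔ N) = N.relIndex P := Subgroup.relIndex_sup_right P N
  have h5 : N.relIndex (P ⊔ N) * (P ⊔ N).index = N.index :=
    Subgroup.relIndex_mul_index le_sup_right
  rw [h4, hrel'] at h5
  intro hd
  have h6 : p ^ (N.index.factorization p + 1) ∣ N.index := by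
    have h := mul_dvd_mul_left (p ^ N.index.factorization p) hd
    rw [h5, ← pow_succ] at h
    exact h
  exact Nat.pow_succ_factorization_not_dvd Subgroup.index_ne_zero_of_finite hp h6

end Cfsg.Agent.Lib.Helper16.Fong
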