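import Mathlib
import Cfsg.Prelude.Def_Blocks
import Cfsg.Agent.Lib.Helper16.Transfer
import Cfsg.Agent.Lib.Helper16.FR4
import Cfsg.Agent.Lib.Helper16.Fong

/-!
# Defect of the unique block covering a block of a normal subgroup

`Y ⊴ X`, `c` a block of `Y` with stabilizer `S`, `C` the unique block of `X` covering `c`.
Then `d(C) = d(c) + ν_p(|S : Y|)` (Fong–Reynolds, then Fong's theorem in `S`).
-/

set_option autoImplicit false

namespace Cfsg.Agent.Lib.Helper16.UniqueCover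

open Cfsg Cfsg.Agent.Lib.Helper77.LocalRing Cfsg.Agent.Lib.Helper77.CentralChar
  Cfsg.Agent.Lib.Helper77.BlockIdem Cfsg.Agent.Lib.Helper16.ZR
  Cfsg.Agent.Lib.Helper77.BPTransport
  Cfsg.Agent.Lib.Helper16.Transfer Cfsg.Agent.Lib.Helper16.MinMax
  Cfsg.Agent.Lib.Helper16.Normal Cfsg.Agent.Lib.Helper16.FR4
  Cfsg.Agent.Lib.Helper16.Fong Cfsg.Agent.Lib.Helper16.Defect

universe u
variable {X : Type u} [Group X] {M : Ideal AlgInt}

theorem cI_pull_subgroupOf (Y S : Subgroup X) (hY : Y.Normal) (hYS : Y ≤ S)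
    (hn : (Y.subgroupOf S).Normal) (s : S) (θ : IrrCharacter Y) :
    cI (Y.subgroupOf S) hn s (pull (sIso Y S hYS) θ)
      = pull (sIso Y S hYS) (cI Y hY (s : X) θ) := by
  apply Subtype.ext
  funext n
  rw [cI_apply, pull_apply, pull_apply, cI_apply]
  congr 1

/-- Covering of the pulled back block, in the two forms. -/
theorem cover_pull_iff (Y S : Subgroup X) (hYS : Y ≤ S) [Fintype Y] [Fintype (Y.subgroupOf S)]
    (c : Set (IrrCharacter Y)) (C' : Set (IrrCharacter S)) :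
    (∃ χ ∈ C', ∃ θ ∈ pull (sIso Y S hYS) '' c,
      classInner (fun n : Y.subgroupOf S => (χ : S → ℂ) n) (θ : Y.subgroupOf S → ℂ) ≠ 0) ↔
    (∃ ψ ∈ C', ∃ θ ∈ c,
      classInner (fun n : Y => (ψ : S → ℂ) ⟨(n : X), hYS n.2⟩) (θ : Y → ℂ) ≠ 0) := by
  constructor
  · rintro ⟨χ, hχ, θ, ⟨θ₀, hθ₀, rfl⟩, h⟩
    refine ⟨χ, hχ, θ₀, hθ₀, ?_⟩
    rwa [classInner_pull_subgroupOf] at h
  · rintro ⟨χ, hχ, θ₀, hθ₀, h⟩
    refine ⟨χ, hχ, _, ⟨θ₀, hθ₀, rfl⟩, ?_⟩
    rwa [classInner_pull_subgroupOf]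

/-- `d(C) = d(c) + ν_p(|S : Y|)` for the unique block `C` covering `c`, `S` the stabilizer of
`c`. -/
theorem defect_of_unique_cover [Fintype X] (p : ℕ) [Fact p.Prime] (hM : IsPModular p M)
    (Y : Subgroup X) (hY : Y.Normal) (S : Subgroup X) (hYS : Y ≤ S) [Fintype Y] [Fintype S]
    [Fintype (Y.subgroupOf S)] (c : Set (IrrCharacter Y)) (hc : IsPBlock M c)
    (hS : ∀ g : X, g ∈ S ↔ ∀ θ ∈ c, cI Y hY g θ ∈ c)
    (C : Set (IrrCharacter X)) (hC : IsPBlock M C)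
    (hcov : ∃ χ ∈ C, ∃ θ ∈ c, classInner (fun n : Y => (χ : X → ℂ) n) (θ : Y → ℂ) ≠ 0)
    (huniq : ∀ C' : Set (IrrCharacter X), IsPBlock M C' →
      (∃ χ ∈ C', ∃ θ ∈ c, classInner (fun n : Y => (χ : X → ℂ) n) (θ : Y → ℂ) ≠ 0) → C' = C) :
    blockDefect p C = blockDefect p c + (Y.relIndex S).factorization p := by
  classical
  have hMp := isPrime_of_isPModular hM
  obtain ⟨CS, hCS, hcovS, hindS⟩ := fr_surjective Y hY S hYS c p hM hc hS C hC hcov
  have huS : ∀ C' : Set (IrrCharacter S), IsPBlock M C' →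
      (∃ ψ ∈ C', ∃ θ ∈ c, classInner (fun n : Y => (ψ : S → ℂ) ⟨(n : X), hYS n.2⟩)
        (θ : Y → ℂ) ≠ 0) → C' = CS := by
    intro C' hC' hcov'
    obtain ⟨C'', hind'', hcov'', -, -⟩ := fr_induced Y hY S hYS c p hM hc hS C' hC' hcov'
    have := huniq C'' hind''.2.1 hcov''
    subst this
    exact fr_injective Y hY S hYS c p hM hc hS C' CS hC' hCS hcov' hcovS C'' hind'' hindS
  obtain ⟨D, hD⟩ := exists_defectGroup hM CS hCS
  have hd : blockDefect p CS = blockDefect p C := by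
    have h1 := card_defectGroup p hM CS hCS D hD
    have h2 := card_defectGroup p hM C hC _
      ((fr_defect Y hY S hYS c p hM hc hS CS hCS hcovS C hindS).1 D hD)
    rw [Subgroup.card_map_of_injective (Subgroup.subtype_injective S), h1] at h2
    exact Nat.pow_right_injective (Fact.out : p.Prime).two_le h2
  have hn : (Y.subgroupOf S).Normal := inferInstance
  have hcSb : IsPBlock M (pull (sIso Y S hYS) '' c) := isPBlock_pull _ hc
  have hst : GStable (Y.subgroupOf S) hn (pull (sIso Y S hYS) '' c) := by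
    rintro θ ⟨θ₀, hθ₀, rfl⟩ s
    rw [cI_pull_subgroupOf Y S hY hYS hn s θ₀]
    exact ⟨_, (hS s).mp s.2 θ₀ hθ₀, rfl⟩
  have hf := (fong p hM (Y.subgroupOf S) (pull (sIso Y S hYS) '' c) hcSb hst CS hCS
    ((cover_pull_iff Y S hYS c CS).mpr hcovS)
    (fun C' hC' hcov' => by rw [huS C' hC' ((cover_pull_iff Y S hYS c C').mp hcov')]) D hD).2.2
  rw [← hd, hf, blockDefect_pull]
  rfl

end Cfsg.Agent.Lib.Helper16.UniqueCover
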