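import Mathlib
import Cfsg.Prelude.Def_Blocks
import Cfsg.Agent.Lib.Helper16.ExtFirst
import Cfsg.Agent.Lib.Helper16.UniqueCover

/-!
# Defect groups of blocks induced from `P·C_G(P)`

`P` a `p`-subgroup, `C_G(P) ≤ L ≤ N_G(P)`, `P ≤ L`, `L ⊴ N_G(P)`, `b` a block of `L` with defect
group `P`, `B = b^G`, `S` the stabilizer of `b` in `N_G(P)`.  Then `B` has defect group `P` iff
`p ∤ |S : L|`.
-/

set_option autoImplicit false

namespace Cfsg.Agent.Lib.Helper16.ExtFirst2

open Cfsg Cfsg.Agent.Lib.Helper77.LocalRing Cfsg.Agent.Lib.Helper77.CentralChar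
  Cfsg.Agent.Lib.Helper77.BlockIdem Cfsg.Agent.Lib.Helper16.ZR
  Cfsg.Agent.Lib.Helper16.FirstMain Cfsg.Agent.Lib.Helper77.BPTransport
  Cfsg.Agent.Lib.Helper16.Transfer Cfsg.Agent.Lib.Helper16.MinMax
  Cfsg.Agent.Lib.Helper16.IndBlock Cfsg.Agent.Lib.Helper16.Normal
  Cfsg.Agent.Lib.Helper16.Cover3 Cfsg.Agent.Lib.Helper16.SylowBlocks
  Cfsg.Agent.Lib.Helper16.ExtFirst Cfsg.Agent.Lib.Helper16.UniqueCover
  Cfsg.Agent.Lib.Helper16.Defect

universe u
variable {G : Type u} [Group G] {M : Ideal AlgInt}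

theorem cI_of_mem (N : Subgroup G) (hN : N.Normal) (g : G) (hg : g ∈ N) (θ : IrrCharacter N) :
    cI N hN g θ = θ := by
  apply Subtype.ext
  funext n
  rw [cI_apply]
  exact irr_conj_inv θ ⟨g, hg⟩ n

theorem defect_iff_stab [Finite G] (p : ℕ) [Fact p.Prime] (hM : IsPModular p M)
    (P : Subgroup G) (hPp : IsPGroup p P) (L : Subgroup G) (hPL : P ≤ L)
    (hCL : Subgroup.centralizer (P : Set G) ≤ L) (hLN : L ≤ Subgroup.normalizer (P : Set G))
    [hn : (L.subgroupOf (Subgroup.normalizer (P : Set G))).Normal]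
    (b : Set (IrrCharacter L)) (hb : IsPBlock M b)
    (hbP : IsDefectGroup p M b (P.subgroupOf L)) (B : Set (IrrCharacter G))
    (hind : IsInducedBlock M L b B) (S : Subgroup (Subgroup.normalizer (P : Set G)))
    (hS : ∀ g : Subgroup.normalizer (P : Set G), g ∈ S ↔
      ∀ θ ∈ pull (sIso L (Subgroup.normalizer (P : Set G)) hLN) '' b,
        cI (L.subgroupOf (Subgroup.normalizer (P : Set G))) hn g θ
          ∈ pull (sIso L (Subgroup.normalizer (P : Set G)) hLN) '' b) :
    IsDefectGroup p M B P ↔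
      ¬ p ∣ (L.subgroupOf (Subgroup.normalizer (P : Set G))).relIndex S := by
  classical
  have hMp := isPrime_of_isPModular hM
  cases nonempty_fintype G
  haveI : Fintype (Subgroup.normalizer (P : Set G)) := Fintype.ofFinite _
  haveI : Fintype (L.subgroupOf (Subgroup.normalizer (P : Set G))) := Fintype.ofFinite _
  haveI : Fintype S := Fintype.ofFinite _
  haveI : Fintype ((L.subgroupOf (Subgroup.normalizer (P : Set G))).subgroupOf S) :=
    Fintype.ofFinite _
  have hp2 : 2 ≤ p := (Fact.out : p.Prime).two_le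
  have hb' : IsPBlock M (pull (sIso L (Subgroup.normalizer (P : Set G)) hLN) '' b) :=
    isPBlock_pull _ hb
  obtain ⟨θ₁, hθ₁⟩ := isPBlock_nonempty hMp hb'
  obtain ⟨χ₁, hχ₁⟩ := Cfsg.Agent.Lib.Helper16.Cover4.exists_over
    (L.subgroupOf (Subgroup.normalizer (P : Set G))) θ₁
  have hB₁ : IsPBlock M (blockOf M (χ₁ : Subgroup.normalizer (P : Set G) → ℂ)) :=
    isPBlock_blockOf χ₁
  have h1 : IsInducedBlock M (L.subgroupOf (Subgroup.normalizer (P : Set G)))
      (pull (sIso L (Subgroup.normalizer (P : Set G)) hLN) '' b)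
      (blockOf M (χ₁ : Subgroup.normalizer (P : Set G) → ℂ)) :=
    isInducedBlock_of_cover_normalizer hM P hPp L hCL _ hb' _ hB₁ χ₁
      (mem_blockOf_self hMp χ₁) θ₁ hθ₁ hχ₁
  have h2 : IsInducedBlock M (Subgroup.normalizer (P : Set G))
      (blockOf M (χ₁ : Subgroup.normalizer (P : Set G) → ℂ)) B := by
    apply isInducedBlock_of_trans hMp L _ hLN _ _ B h1
    rw [pull_symm_image_pull_image]
    exact hind
  have hB : IsPBlock M B := hind.2.1
  have huniq : ∀ C' : Set (IrrCharacter (Subgroup.normalizer (P : Set G))), IsPBlock M C' →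
      (∃ χ ∈ C', ∃ θ ∈ pull (sIso L (Subgroup.normalizer (P : Set G)) hLN) '' b,
        classInner (fun n : L.subgroupOf (Subgroup.normalizer (P : Set G)) =>
          (χ : Subgroup.normalizer (P : Set G) → ℂ) n)
          (θ : L.subgroupOf (Subgroup.normalizer (P : Set G)) → ℂ) ≠ 0) →
      C' = blockOf M (χ₁ : Subgroup.normalizer (P : Set G) → ℂ) := by
    rintro C' hC' ⟨χ, hχ, θ, hθ, hcon⟩
    have h1' := isInducedBlock_of_cover_normalizer hM P hPp L hCL _ hb' C' hC' χ hχ θ hθ hcon
    exact induced_unique hMp (L.subgroupOf (Subgroup.normalizer (P : Set G)))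
      (pull (sIso L (Subgroup.normalizer (P : Set G)) hLN) '' b) C' _ h1' h1
  have hLS : L.subgroupOf (Subgroup.normalizer (P : Set G)) ≤ S := by
    intro g hg
    rw [hS]
    intro θ hθ
    rw [cI_of_mem _ hn g hg θ]
    exact hθ
  have hdef := defect_of_unique_cover p hM (L.subgroupOf (Subgroup.normalizer (P : Set G))) hn
    S hLS (pull (sIso L (Subgroup.normalizer (P : Set G)) hLN) '' b) hb' hS
    (blockOf M (χ₁ : Subgroup.normalizer (P : Set G) → ℂ)) hB₁
    ⟨χ₁, mem_blockOf_self hMp χ₁, θ₁, hθ₁, hχ₁⟩ huniq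
  rw [blockDefect_pull] at hdef
  have hPN : P ≤ Subgroup.normalizer (P : Set G) := Subgroup.le_normalizer
  have hcardP : Nat.card P = p ^ blockDefect p b := by
    rw [← card_defectGroup p hM b hb _ hbP]
    exact (Nat.card_congr (sIso P L hPL).toEquiv).symm
  have hcardP' : Nat.card (P.subgroupOf (Subgroup.normalizer (P : Set G))) = Nat.card P :=
    Nat.card_congr (sIso P _ hPN).toEquiv
  have hle : ∀ D₁ : Subgroup (Subgroup.normalizer (P : Set G)),
      IsDefectGroup p M (blockOf M (χ₁ : Subgroup.normalizer (P : Set G) → ℂ)) D₁ →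
      P.subgroupOf (Subgroup.normalizer (P : Set G)) ≤ D₁ := by
    intro D₁ hD₁
    refine le_trans ?_ (Cfsg.Agent.S0912.result p M hM _ hB₁ D₁ hD₁)
    apply le_sSup
    exact ⟨inferInstance, isPGroup_subgroupOf P _ hPp⟩
  have key : IsDefectGroup p M B P ↔
      blockDefect p (blockOf M (χ₁ : Subgroup.normalizer (P : Set G) → ℂ))
        = blockDefect p b := by
    constructor
    · intro hBP
      obtain ⟨D₁, hD₁⟩ := exists_defectGroup hM _ hB₁
      obtain ⟨E, hE, hDE⟩ := defectGroup_le_of_induced hM _ _ B h2 D₁ hD₁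
      obtain ⟨x, hx⟩ := defectGroup_conj hM B hB hBP hE
      have c1 := card_defectGroup p hM _ hB₁ D₁ hD₁
      have c2 : Nat.card D₁ ≤ Nat.card P := by
        have e1 : Nat.card (D₁.map (Subgroup.normalizer (P : Set G)).subtype) = Nat.card D₁ :=
          Subgroup.card_map_of_injective (Subgroup.subtype_injective _)
        have e2 : Nat.card E = Nat.card P := by
          rw [hx]
          exact Subgroup.card_map_of_injective (MulAut.conj x).injective
        rw [← e2, ← e1]
        exact Subgroup.card_le_of_le hDE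
      have c3 : Nat.card P ≤ Nat.card D₁ := by
        rw [← hcardP']
        exact Subgroup.card_le_of_le (hle D₁ hD₁)
      have : p ^ blockDefect p (blockOf M (χ₁ : Subgroup.normalizer (P : Set G) → ℂ))
          = p ^ blockDefect p b := by
        rw [← c1, ← hcardP]
        exact le_antisymm c2 c3
      exact Nat.pow_right_injective hp2 this
    · intro hd
      obtain ⟨D₁, hD₁⟩ := exists_defectGroup hM _ hB₁
      have c1 := card_defectGroup p hM _ hB₁ D₁ hD₁
      have : P.subgroupOf (Subgroup.normalizer (P : Set G)) = D₁ :=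
        Subgroup.eq_of_le_of_card_ge (hle D₁ hD₁) (by rw [c1, hd, ← hcardP, hcardP'])
      rw [← this] at hD₁
      exact isDefectGroup_induced p hM P _ hD₁ B h2
  rw [key, hdef]
  have hne : (L.subgroupOf (Subgroup.normalizer (P : Set G))).relIndex S ≠ 0 :=
    Subgroup.index_ne_zero_of_finite
  constructor
  · intro h hdvd
    have h0 : ((L.subgroupOf (Subgroup.normalizer (P : Set G))).relIndex S).factorization p
        = 0 := by omega
    rcases (Nat.factorization_eq_zero_iff _ _).mp h0 with h1 | h1 | h1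
    · exact h1 Fact.out
    · exact h1 hdvd
    · exact hne h1
  · intro h
    rw [Nat.factorization_eq_zero_of_not_dvd h, add_zero]

end Cfsg.Agent.Lib.Helper16.ExtFirst2
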