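import Mathlib
import Cfsg.Prelude.Def_Blocks
import Cfsg.Agent.Lib.Helper16.ExtFirst
import Cfsg.Agent.Lib.Helper16.ExtFirst2
import Cfsg.Agent.Lib.Helper16.UniqueCover
import Cfsg.Agent.Lib.Helper16.FR4
import Cfsg.Agent.Lib.Helper16.IndBlock2
import Cfsg.Agent.Lib.Helper16.QuotP
import Cfsg.Agent.Lib.Helper16.Defect
import Cfsg.Agent.Lib.Helper78.CliffordCorr
import Cfsg.Agent.Lib.Helper3.TDBasic
import Cfsg.Agent.Lib.Helper80.ItoConv
import Cfsg.Agent.Lib.Helper80.Integrality
import Cfsg.Agent.Lib.Helper81.SemiChar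
import Cfsg.Agent.S4714

/-!
# Reynolds' theorem on blocks with a normal defect group

* `exists_stab`: the stabilizer of a set of irreducible characters of a normal subgroup.
* `sup_centralizer_subgroupOf`: inside `L = P C_G(P)` one has `L = P C_L(P)`.
* `forall_cover`: if a block `B` covers the block `b` of a normal subgroup, every member of `B`
  lies over a member of `b`.
* `factorization_degree`: if `p ∤ |T : L|` for the stabilizer `T` of the block `b` of `L ⊴ G`,
  and `χ` lies over `θ ∈ b`, then `ν_p(χ(1)) = ν_p(|G : T|) + ν_p(θ(1))`.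
* `reynolds`: a block with a normal defect group `P` has all heights zero iff `P` is abelian.
-/

set_option autoImplicit false

namespace Cfsg.Agent.Lib.Helper16.Reynolds

open Cfsg Cfsg.Agent.Lib.Helper77.LocalRing Cfsg.Agent.Lib.Helper77.CentralChar
  Cfsg.Agent.Lib.Helper77.BlockIdem Cfsg.Agent.Lib.Helper16.ZR
  Cfsg.Agent.Lib.Helper16.Transfer Cfsg.Agent.Lib.Helper16.MinMax
  Cfsg.Agent.Lib.Helper16.Normal Cfsg.Agent.Lib.Helper16.Cover3
  Cfsg.Agent.Lib.Helper16.ExtFirst Cfsg.Agent.Lib.Helper16.ExtFirst2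
  Cfsg.Agent.Lib.Helper16.UniqueCover Cfsg.Agent.Lib.Helper16.Defect
  Cfsg.Agent.Lib.Helper16.SylowBlocks

universe u
variable {G : Type u} [Group G] {M : Ideal AlgInt}

/-- The stabilizer of a set of irreducible characters of a normal subgroup. -/
theorem exists_stab [Finite G] (N : Subgroup G) (hN : N.Normal) (b : Set (IrrCharacter N)) :
    ∃ T : Subgroup G, ∀ g : G, g ∈ T ↔ ∀ θ ∈ b, cI N hN g θ ∈ b := by
  classical
  have key : ∀ g : G, (∀ θ ∈ b, cI N hN g θ ∈ b) → ∀ θ, cI N hN g θ ∈ b → θ ∈ b := by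
    intro g hg θ hθ
    have hpow : ∀ k : ℕ, ∀ θ ∈ b, cI N hN (g ^ k) θ ∈ b := by
      intro k
      induction k with
      | zero =>
        intro θ hθ
        rw [pow_zero, cI_one]
        exact hθ
      | succ k ih =>
        intro θ hθ
        rw [pow_succ, ← cI_cI]
        exact hg _ (ih θ hθ)
    have h1 := hpow (orderOf g - 1) _ hθ
    rw [cI_cI] at h1
    have h2 : g * g ^ (orderOf g - 1) = 1 := by
      rw [← pow_succ', Nat.sub_add_cancel (orderOf_pos g), pow_orderOf_eq_one]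
    rw [h2, cI_one] at h1
    exact h1
  refine ⟨{ carrier := {g | ∀ θ ∈ b, cI N hN g θ ∈ b}
            mul_mem' := ?_
            one_mem' := ?_
            inv_mem' := ?_ }, fun g => Iff.rfl⟩
  · intro g h hg hh θ hθ
    rw [← cI_cI]
    exact hh _ (hg θ hθ)
  · intro θ hθ
    rw [cI_one]
    exact hθ
  · intro g hg θ hθ
    apply key g hg
    rw [cI_cI, inv_mul_cancel, cI_one]
    exact hθ

/-- Inside `L = P C_G(P)`, the subgroup `P` together with its centralizer in `L` is all of `L`. -/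
theorem sup_centralizer_subgroupOf (P L : Subgroup G) (hPL : P ≤ L)
    (hCL : Subgroup.centralizer (P : Set G) ≤ L)
    (hL : L ≤ P ⊔ Subgroup.centralizer (P : Set G)) :
    (P.subgroupOf L) ⊔ Subgroup.centralizer ((P.subgroupOf L : Subgroup L) : Set L) = ⊤ := by
  rw [eq_top_iff]
  have h1 : L ≤ ((P.subgroupOf L) ⊔
      Subgroup.centralizer ((P.subgroupOf L : Subgroup L) : Set L)).map L.subtype := by
    refine le_trans hL (sup_le ?_ ?_)
    · intro x hx
      refine ⟨⟨x, hPL hx⟩, Subgroup.mem_sup_left ?_, rfl⟩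
      exact hx
    · intro x hx
      refine ⟨⟨x, hCL hx⟩, Subgroup.mem_sup_right ?_, rfl⟩
      rw [Subgroup.mem_centralizer_iff]
      intro y hy
      apply Subtype.ext
      exact (Subgroup.mem_centralizer_iff.mp hx) y.1 hy
  intro x _
  obtain ⟨y, hy, hyx⟩ := h1 x.2
  have : y = x := Subtype.ext hyx
  rw [← this]
  exact hy

/-- If a block `B` covers the block `b` of a normal subgroup, every member of `B` lies over a
member of `b`. -/
theorem forall_cover [Fintype G] (hMp : M.IsPrime) (N : Subgroup G) [Fintype N] (hN : N.Normal)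
    (b : Set (IrrCharacter N)) (hb : IsPBlock M b) (B : Set (IrrCharacter G))
    (hB : IsPBlock M B)
    (hcov : ∃ χ ∈ B, ∃ θ ∈ b, classInner (fun n : N => (χ : G → ℂ) n) (θ : N → ℂ) ≠ 0)
    (χ : IrrCharacter G) (hχ : χ ∈ B) :
    ∃ θ ∈ b, classInner (fun n : N => (χ : G → ℂ) n) (θ : N → ℂ) ≠ 0 := by
  obtain ⟨χ₀, hχ₀, θ, hθ, hne⟩ := hcov
  obtain ⟨θ', ⟨g, hg⟩, hne'⟩ := Cfsg.Agent.Lib.Helper16.Over.over_of_sameBlock hMp N hN
    (conjUnion N hN b) (gstable_conjUnion N hN b)
    (fun n => blockCoeff_memLocalRing_of_closed hMp _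
      (blockClosed_conjUnion hMp N hN b hb) n) χ₀ χ (sameBlock_of_mem hMp hB hχ₀ hχ)
    ⟨θ, subset_conjUnion N hN b hθ, hne⟩
  refine ⟨cI N hN g θ', hg, ?_⟩
  rw [classInner_cI]
  exact hne'

/-- If `p ∤ |T : L|` for the stabilizer `T` of the block `b` of `L ⊴ G`, and `χ` lies over
`θ ∈ b`, then `ν_p(χ(1)) = ν_p(|G : T|) + ν_p(θ(1))`. -/
theorem factorization_degree [Fintype G] (p : ℕ) [Fact p.Prime] (hMp : M.IsPrime)
    (L : Subgroup G) [Fintype L] (hL : L.Normal) (b : Set (IrrCharacter L)) (hb : IsPBlock M b)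
    (T : Subgroup G) (hT : ∀ g : G, g ∈ T ↔ ∀ θ ∈ b, cI L hL g θ ∈ b) (hLT : L ≤ T)
    (hp : ¬ p ∣ L.relIndex T) (χ : IrrCharacter G) (θ : IrrCharacter L) (hθ : θ ∈ b)
    (hcon : classInner (fun n : L => (χ : G → ℂ) n) (θ : L → ℂ) ≠ 0) :
    (charDegree (χ : G → ℂ)).factorization p
      = T.index.factorization p + (charDegree (θ : L → ℂ)).factorization p := by
  classical
  have hpp : p.Prime := Fact.out
  have hIT : Cfsg.Agent.Lib.Helper78.CliffordCorr.inertia L hL (θ : L → ℂ) ≤ T := by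
    intro g hg
    apply Cfsg.Agent.Lib.Helper16.FR2.mem_stab_of_exists L hL T b hMp hb hT g θ hθ
    have : cI L hL g θ = θ := by
      apply Subtype.ext
      funext n
      rw [cI_apply]
      exact (Cfsg.Agent.Lib.Helper78.CliffordCorr.mem_inertia L hL _ g).mp hg n
    rw [this]
    exact hθ
  have hLI : L ≤ Cfsg.Agent.Lib.Helper78.CliffordCorr.inertia L hL (θ : L → ℂ) :=
    Cfsg.Agent.Lib.Helper78.CliffordCorr.le_inertia L hL
      (Cfsg.Agent.Lib.CT.Orth.irr_isClassFunction θ)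
  let _ : Fintype (Cfsg.Agent.Lib.Helper78.CliffordCorr.inertia L hL (θ : L → ℂ)) :=
    Fintype.ofFinite _
  obtain ⟨ψ, e, hψ, hind, he, hce, hres, hdeg⟩ :=
    Cfsg.Agent.Lib.Helper78.CliffordCorr.clifford_corr L hL (θ : L → ℂ) θ.2
      (Cfsg.Agent.Lib.Helper78.CliffordCorr.inertia L hL (θ : L → ℂ))
      (fun g => Cfsg.Agent.Lib.Helper78.CliffordCorr.mem_inertia L hL _ g) hLI
      (χ : G → ℂ) χ.2 hcon
  have := hL
  obtain ⟨hdvd, hquot⟩ := Cfsg.Agent.Lib.Helper3.TDBasic.deg_of_constituent L θ χ hcon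
  have hθ0 : charDegree (θ : L → ℂ) ≠ 0 :=
    (Cfsg.Agent.Lib.Helper80.Integrality.charDegree_pos θ).ne'
  have hχ0 : charDegree (χ : G → ℂ) ≠ 0 :=
    (Cfsg.Agent.Lib.Helper80.Integrality.charDegree_pos χ).ne'
  have hratio : charDegree (χ : G → ℂ) / charDegree (θ : L → ℂ)
      = e * (Cfsg.Agent.Lib.Helper78.CliffordCorr.inertia L hL (θ : L → ℂ)).index := by
    rw [hdeg]
    exact Nat.mul_div_cancel _ (Nat.pos_of_ne_zero hθ0)
  rw [hratio] at hquot
  have hL0 : L.index ≠ 0 := Subgroup.index_ne_zero_of_finite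
  have hT0 : T.index ≠ 0 := Subgroup.index_ne_zero_of_finite
  have h2 : L.index = L.relIndex T * T.index := (Subgroup.relIndex_mul_index hLT).symm
  have hr0 : L.relIndex T ≠ 0 := fun h0 => hL0 (by rw [h2, h0, zero_mul])
  have hm0 : e * (Cfsg.Agent.Lib.Helper78.CliffordCorr.inertia L hL (θ : L → ℂ)).index ≠ 0 :=
    fun h0 => hL0 (Nat.eq_zero_of_zero_dvd (h0 ▸ hquot))
  have h1 : T.index ∣ e * (Cfsg.Agent.Lib.Helper78.CliffordCorr.inertia L hL (θ : L → ℂ)).index :=
    Dvd.dvd.mul_left (Subgroup.index_dvd_of_le hIT) e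
  have hlow : T.index.factorization p
      ≤ (e * (Cfsg.Agent.Lib.Helper78.CliffordCorr.inertia L hL (θ : L → ℂ)).index).factorization p :=
    (Nat.factorization_le_iff_dvd hT0 hm0).mpr h1 p
  have hup : (e * (Cfsg.Agent.Lib.Helper78.CliffordCorr.inertia L hL (θ : L → ℂ)).index).factorization p
      ≤ L.index.factorization p :=
    (Nat.factorization_le_iff_dvd hm0 hL0).mpr hquot p
  have h3 : L.index.factorization p = T.index.factorization p := by
    rw [h2, Nat.factorization_mul hr0 hT0, Finsupp.add_apply,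
      Nat.factorization_eq_zero_of_not_dvd hp, zero_add]
  rw [hdeg, Nat.factorization_mul hm0 hθ0, Finsupp.add_apply]
  omega

/-- **Reynolds.** A block with a normal defect group `P` has all heights zero iff `P` is
commutative. -/
theorem reynolds [Finite G] (p : ℕ) [Fact p.Prime] (hM : IsPModular p M)
    (B : Set (IrrCharacter G)) (hB : IsPBlock M B) (P : Subgroup G) [hPn : P.Normal]
    (hP : IsDefectGroup p M B P) :
    (∀ a ∈ P, ∀ c ∈ P, a * c = c * a) ↔ ∀ χ ∈ B, blockHeight p B (χ : G → ℂ) = 0 := by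
  classical
  have hpp : p.Prime := Fact.out
  have hMp := isPrime_of_isPModular hM
  let _ : Fintype G := Fintype.ofFinite G
  have hPp : IsPGroup p P := by
    obtain ⟨g, -, hg⟩ := isDefectGroup_iff.mp hP
    exact hg.2.1
  obtain ⟨L, hLdef⟩ : ∃ L : Subgroup G, L = P ⊔ Subgroup.centralizer (P : Set G) := ⟨_, rfl⟩
  have hPL : P ≤ L := hLdef ▸ le_sup_left
  have hCL : Subgroup.centralizer (P : Set G) ≤ L := hLdef ▸ le_sup_right
  have hLN : L ≤ Subgroup.normalizer (P : Set G) := hLdef ▸ sup_centralizer_le_normalizer P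
  have hL : L.Normal := by
    rw [hLdef]
    infer_instance
  have hn : (L.subgroupOf (Subgroup.normalizer (P : Set G))).Normal := by
    rw [hLdef]
    infer_instance
  let _ : Fintype L := Fintype.ofFinite L
  obtain ⟨b, hbD, hind⟩ := exists_block_centralizer p hM P L hPL hCL hLN B hB hP
  have hb : IsPBlock M b := hind.1
  obtain ⟨T, hT⟩ := exists_stab L hL b
  have hLT : L ≤ T := fun g hg => (hT g).mpr (fun θ hθ => by
    rw [cI_of_mem L hL g hg θ]
    exact hθ)
  let _ : Fintype T := Fintype.ofFinite T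
  let _ : Fintype (L.subgroupOf T) := Fintype.ofFinite _
  obtain ⟨ξ₀, hξ₀⟩ := isPBlock_nonempty hMp hb
  have hcov : ∃ χ ∈ B, ∃ θ ∈ b,
      classInner (fun n : L => (χ : G → ℂ) n) (θ : L → ℂ) ≠ 0 := by
    obtain ⟨χ, hχ, hne⟩ :=
      Cfsg.Agent.Lib.Helper16.IndBlock2.exists_constituent_of_induced hMp L b B hind ξ₀ hξ₀
    exact ⟨χ, hχ, ξ₀, hξ₀, hne⟩
  have huniq : ∀ C' : Set (IrrCharacter G), IsPBlock M C' →
      (∃ χ ∈ C', ∃ θ ∈ b, classInner (fun n : L => (χ : G → ℂ) n) (θ : L → ℂ) ≠ 0) →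
      C' = B := by
    rintro C' hC' ⟨χ, hχ, θ, hθ, hne⟩
    exact induced_unique hMp L b C' B
      (Cfsg.Agent.Lib.Helper16.Cover2.isInducedBlock_of_cover hM P hPp L hCL b hb C' hC' χ hχ
        θ hθ hne) hind
  have hdef := defect_of_unique_cover p hM L hL T hLT b hb hT B hB hcov huniq
  have hcard1 := card_defectGroup p hM B hB P hP
  have hcard2 := card_defectGroup p hM b hb (P.subgroupOf L) hbD
  have hcard3 : Nat.card (P.subgroupOf L) = Nat.card P :=
    Nat.card_congr (sIso P L hPL).toEquiv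
  have hdeq : blockDefect p B = blockDefect p b := by
    rw [hcard3, hcard1] at hcard2
    exact Nat.pow_right_injective hpp.two_le hcard2
  have hrel : ¬ p ∣ L.relIndex T := by
    have h0 : (L.relIndex T).factorization p = 0 := by omega
    have hne : L.relIndex T ≠ 0 := by
      intro h0'
      have h2 : L.index = L.relIndex T * T.index := (Subgroup.relIndex_mul_index hLT).symm
      exact (Subgroup.index_ne_zero_of_finite (H := L)) (by rw [h2, h0', zero_mul])
    intro hdvd
    have := hpp.factorization_pos_of_dvd hne hdvd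
    omega
  have hdegf : ∀ (χ : IrrCharacter G) (θ : IrrCharacter L), θ ∈ b →
      classInner (fun n : L => (χ : G → ℂ) n) (θ : L → ℂ) ≠ 0 →
      (charDegree (χ : G → ℂ)).factorization p
        = T.index.factorization p + (charDegree (θ : L → ℂ)).factorization p :=
    fun χ θ hθ hcon => factorization_degree p hMp L hL b hb T hT hLT hrel χ θ hθ hcon
  -- the structure of `b`
  have hDp : IsPGroup p (P.subgroupOf L) := isPGroup_subgroupOf P L hPp
  have hDn : (P.subgroupOf L).Normal := inferInstance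
  have hsup : (P.subgroupOf L) ⊔ Subgroup.centralizer ((P.subgroupOf L : Subgroup L) : Set L)
      = ⊤ := sup_centralizer_subgroupOf P L hPL hCL (le_of_eq hLdef)
  obtain ⟨χc, hχc, hχcD⟩ :=
    Cfsg.Agent.Lib.Helper16.QuotP.exists_trivial_on_normal_pGroup p hM b hb (P.subgroupOf L)
      hDn hDp
  obtain ⟨hA, hBex⟩ := Cfsg.Agent.S4714.result p M hM (P.subgroupOf L) hDp hsup b hb hbD χc hχc
    hχcD
  have hone : ∀ (θ : IrrCharacter L) (ζ : IrrCharacter (P.subgroupOf L)),
      (∀ (y : P.subgroupOf L) (x : L), ¬ p ∣ orderOf x → Commute (y : L) x →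
        (θ : L → ℂ) ((y : L) * x) = (ζ : P.subgroupOf L → ℂ) y * (χc : L → ℂ) x) →
      charDegree (θ : L → ℂ)
        = charDegree (ζ : P.subgroupOf L → ℂ) * charDegree (χc : L → ℂ) := by
    intro θ ζ h
    have h1 := h 1 1 (by
      rw [orderOf_one]
      exact fun hd => hpp.one_lt.ne' (Nat.dvd_one.mp hd)) (Commute.one_right _)
    rw [OneMemClass.coe_one, mul_one, Cfsg.Agent.S4714.apply_one_eq θ,
      Cfsg.Agent.S4714.apply_one_eq ζ, Cfsg.Agent.S4714.apply_one_eq χc] at h1
    exact_mod_cast h1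
  have hχc0 : charDegree (χc : L → ℂ) ≠ 0 :=
    (Cfsg.Agent.Lib.Helper80.Integrality.charDegree_pos χc).ne'
  constructor
  · intro hab χ hχ
    have hDab : ∀ a c : P.subgroupOf L, a * c = c * a := by
      intro a c
      apply Subtype.ext
      apply Subtype.ext
      exact hab _ a.2 _ c.2
    have hdegb : ∀ θ ∈ b, charDegree (θ : L → ℂ) = charDegree (χc : L → ℂ) := by
      intro θ hθ
      obtain ⟨ζ, hζ, -⟩ := (hA θ).mp hθ
      rw [hone θ ζ hζ]
      have h1 := Cfsg.Agent.Lib.Helper81.SemiChar.abelian_linear hDab ζ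
      have h2 : charDegree (ζ : P.subgroupOf L → ℂ) = 1 := by
        have h3 := Cfsg.Agent.S4714.apply_one_eq ζ
        rw [h1] at h3
        exact_mod_cast h3.symm
      rw [h2, one_mul]
    have hconst : ∀ χ ∈ B, (charDegree (χ : G → ℂ)).factorization p
        = T.index.factorization p + (charDegree (χc : L → ℂ)).factorization p := by
      intro χ hχ
      obtain ⟨θ, hθ, hcon⟩ := forall_cover hMp L hL b hb B hB hcov χ hχ
      rw [hdegf χ θ hθ hcon, hdegb θ hθ]
    unfold blockHeight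
    have hmem := Nat.sInf_mem
      (s := (fun ψ : IrrCharacter G => (charDegree (ψ : G → ℂ)).factorization p) '' B)
      ⟨_, χ, hχ, rfl⟩
    obtain ⟨ψ, hψ, hψe⟩ := hmem
    have hψe' : (charDegree (ψ : G → ℂ)).factorization p
        = sInf ((fun ψ : IrrCharacter G => (charDegree (ψ : G → ℂ)).factorization p) '' B) :=
      hψe
    rw [← hψe', hconst χ hχ, hconst ψ hψ, Nat.sub_self]
  · intro hh
    have hle : ∀ χ ∈ B, ∀ χ' ∈ B, (charDegree (χ : G → ℂ)).factorization p
        ≤ (charDegree (χ' : G → ℂ)).factorization p := by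
      intro χ hχ χ' hχ'
      have h1 := hh χ hχ
      unfold blockHeight at h1
      have h2 : sInf ((fun ψ : IrrCharacter G => (charDegree (ψ : G → ℂ)).factorization p) '' B)
          ≤ (charDegree (χ' : G → ℂ)).factorization p := Nat.sInf_le ⟨χ', hχ', rfl⟩
      omega
    obtain ⟨χ₁, hχ₁, hcon₁⟩ :=
      Cfsg.Agent.Lib.Helper16.IndBlock2.exists_constituent_of_induced hMp L b B hind χc hχc
    have hDab : ∀ a c : P.subgroupOf L, a * c = c * a := by
      apply Cfsg.Agent.Lib.Helper80.ItoConv.comm_of_isPGroup p hDp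
      intro ζ
      obtain ⟨θ, hθ, hζ, -⟩ := hBex ζ
      obtain ⟨χ, hχ, hcon⟩ :=
        Cfsg.Agent.Lib.Helper16.IndBlock2.exists_constituent_of_induced hMp L b B hind θ hθ
      have e1 := hdegf χ θ hθ hcon
      have e2 := hdegf χ₁ χc hχc hcon₁
      have e3 := hone θ ζ hζ
      have e4 := le_antisymm (hle χ hχ χ₁ hχ₁) (hle χ₁ hχ₁ χ hχ)
      have hζ0 : charDegree (ζ : P.subgroupOf L → ℂ) ≠ 0 :=
        (Cfsg.Agent.Lib.Helper80.Integrality.charDegree_pos ζ).ne'
      rw [e3, Nat.factorization_mul hζ0 hχc0, Finsupp.add_apply] at e1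
      intro hdvd
      have := hpp.factorization_pos_of_dvd hζ0 hdvd
      omega
    intro a ha c hc
    have h1 := hDab ⟨⟨a, hPL ha⟩, ha⟩ ⟨⟨c, hPL hc⟩, hc⟩
    exact congrArg (fun x : P.subgroupOf L => ((x : L) : G)) h1

end Cfsg.Agent.Lib.Helper16.Reynolds
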