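import Mathlib
import Cfsg.Prelude.Def_Blocks
import Cfsg.Agent.Lib.Helper16.Fong
import Cfsg.Agent.Lib.Helper16.Quot
import Cfsg.Agent.Lib.Helper16.QuotP
import Cfsg.Agent.Lib.CT.Kernel

/-!
# Defect groups of blocks of a quotient

`N ◁ G`, `B̄` a block of `G ⧸ N` whose inflations lie in the block `B` of `G`.

* `centralChar_comp_mk'`: the central character of an inflated function, with the explicit
  index factor.
* `isSylIn_map_of_comap`: images of Sylow subgroups of full preimages.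
* `exists_class_quot`: a class on which the idempotent coefficient of `B` is a unit, the index
  factor is prime to `p` and a central character of `B̄` is a unit.
* `exists_defectGroup_quot`: `B` has a defect group whose image contains a given defect group of
  `B̄` (S4433).
-/

set_option autoImplicit false

namespace Cfsg.Agent.Lib.Helper16.QuotDefect

open Cfsg Cfsg.Agent.Lib.Helper77.LocalRing Cfsg.Agent.Lib.Helper77.CentralChar
  Cfsg.Agent.Lib.Helper77.ClassSum Cfsg.Agent.Lib.Helper77.BlockIdem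
  Cfsg.Agent.Lib.Helper16.ZR Cfsg.Agent.Lib.CT.Wedderburn Cfsg.Agent.Lib.Helper16.MinMax
  Cfsg.Agent.Lib.Helper16.Defect Cfsg.Agent.Lib.Helper16.Fong
  Cfsg.Agent.Lib.Helper33.Conj

universe u
variable {G : Type u} [Group G] {M : Ideal AlgInt}

theorem centralizer_le_comap (N : Subgroup G) [N.Normal] (g : G) :
    Subgroup.centralizer ({g} : Set G)
      ≤ (Subgroup.centralizer ({(g : G ⧸ N)} : Set (G ⧸ N))).comap (QuotientGroup.mk' N) := by
  intro x hx
  rw [Subgroup.mem_comap, Subgroup.mem_centralizer_iff]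
  intro y hy
  rw [Set.mem_singleton_iff] at hy
  subst hy
  have hx' := Subgroup.mem_centralizer_iff.mp hx g (Set.mem_singleton g)
  show (g : G ⧸ N) * (x : G ⧸ N) = (x : G ⧸ N) * (g : G ⧸ N)
  rw [← QuotientGroup.mk_mul, ← QuotientGroup.mk_mul, hx']

theorem centralChar_comp_mk' [Finite G] (N : Subgroup G) [N.Normal] (g : G) (φ : G ⧸ N → ℂ) :
    centralChar (fun g : G => φ (g : G ⧸ N)) g
      = (((Subgroup.centralizer ({g} : Set G)).relIndex
          ((Subgroup.centralizer ({(g : G ⧸ N)} : Set (G ⧸ N))).comap (QuotientGroup.mk' N)) : ℕ) : ℂ)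
        * centralChar φ (g : G ⧸ N) := by
  have hle := centralizer_le_comap N g
  have hidx : ((Subgroup.centralizer ({(g : G ⧸ N)} : Set (G ⧸ N))).comap
      (QuotientGroup.mk' N)).index
      = (Subgroup.centralizer ({(g : G ⧸ N)} : Set (G ⧸ N))).index :=
    Subgroup.index_comap_of_surjective _ (QuotientGroup.mk'_surjective N)
  have hm := Subgroup.relIndex_mul_index hle
  rw [hidx] at hm
  unfold centralChar
  rw [← hm]
  push_cast
  show _ = _ * (_ * φ (g : G ⧸ N) / φ ((1 : G) : G ⧸ N))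
  ring

theorem isSylIn_map_of_comap {H : Type*} [Group H] {p : ℕ} [Fact p.Prime] (f : G →* H)
    (hf : Function.Surjective f) (C' : Subgroup H) (Q : Subgroup G)
    (h : IsSylIn p Q (C'.comap f)) : IsSylIn p (Q.map f) C' := by
  have hp : p.Prime := Fact.out
  refine ⟨Subgroup.map_le_iff_le_comap.mpr h.1, h.2.1.map f, ?_⟩
  have h1 : (Q.map f).relIndex C' = (Q ⊔ f.ker).relIndex (C'.comap f) := by
    have h2 := Subgroup.relIndex_comap (H := Q.map f) f (C'.comap f)
    rw [Subgroup.map_comap_eq_self_of_surjective hf, Subgroup.comap_map_eq] at h2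
    exact h2.symm
  have hker : f.ker ≤ C'.comap f := by
    intro x hx
    rw [Subgroup.mem_comap, MonoidHom.mem_ker.mp hx]
    exact C'.one_mem
  have h3 := Subgroup.relIndex_mul_relIndex Q (Q ⊔ f.ker) (C'.comap f) le_sup_left
    (sup_le h.1 hker)
  rw [h1]
  intro hd
  apply h.2.2
  rw [← h3]
  exact Dvd.dvd.mul_left hd _

theorem map_cj_mk {H : Type*} [Group H] (f : G →* H) (w : G) (P : Subgroup G) :
    (P.map (MulAut.conj w).toMonoidHom).map f = (P.map f).map (MulAut.conj (f w)).toMonoidHom := by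
  rw [Subgroup.map_map, Subgroup.map_map]
  congr 1
  ext x
  simp [MulAut.conj_apply]

theorem exists_class_quot [Finite G] (p : ℕ) [Fact p.Prime] (hM : IsPModular p M)
    (N : Subgroup G) [N.Normal] (Bbar : Set (IrrCharacter (G ⧸ N))) (hBbar : IsPBlock M Bbar)
    (B : Set (IrrCharacter G)) (hB : IsPBlock M B)
    (hsub : ∀ χ ∈ Bbar, ∀ ψ : IrrCharacter G,
      (ψ : G → ℂ) = (χ : G ⧸ N → ℂ) ∘ QuotientGroup.mk → ψ ∈ B) :
    ∃ g : G, ¬ MemLocalIdeal M (blockCoeff B g) ∧
      ¬ p ∣ (Subgroup.centralizer ({g} : Set G)).relIndex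
          ((Subgroup.centralizer ({(g : G ⧸ N)} : Set (G ⧸ N))).comap (QuotientGroup.mk' N)) ∧
      ∃ χ ∈ Bbar, ¬ MemLocalIdeal M (centralChar (χ : G ⧸ N → ℂ) (g : G ⧸ N)) := by
  classical
  have hMp := isPrime_of_isPModular hM
  obtain ⟨χ, hχ⟩ := isPBlock_nonempty hMp hBbar
  set ψ : IrrCharacter G := ⟨fun g : G => (χ : G ⧸ N → ℂ) (g : G ⧸ N),
    Cfsg.Agent.Lib.CT.Kernel.isIrrCharacter_inflation N χ.2⟩ with hψ
  have hψB : ψ ∈ B := hsub χ hχ ψ rfl
  have h1 : omega (ψ : G → ℂ) (blockIdem B) = 1 := by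
    rw [omega_blockIdem, if_pos hψB]
  obtain ⟨R, hR⟩ := exists_reps_omega (G := G)
  have h2 := hR (ψ : G → ℂ) (blockIdem B) (irr_conj_inv ψ) (blockIdem_mem_center B)
  rw [h1] at h2
  have h3 : ∃ r ∈ R, ¬ MemLocalIdeal M
      ((blockIdem B).coeff r * centralChar (ψ : G → ℂ) r) := by
    by_contra hcon
    push Not at hcon
    apply not_memLocalIdeal_one hMp
    rw [h2]
    exact memLocalIdeal_sum hMp R _ hcon
  obtain ⟨r, -, hr⟩ := h3
  rw [coeff_blockIdem] at hr
  have h4 : centralChar (ψ : G → ℂ) r = _ := centralChar_comp_mk' N r (χ : G ⧸ N → ℂ)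
  rw [h4] at hr
  have hbR : MemLocalRing M (blockCoeff B r) := blockCoeff_memLocalRing p M hM B hB r
  have hcR : MemLocalRing M (centralChar (χ : G ⧸ N → ℂ) (r : G ⧸ N)) :=
    memLocalRing_of_isIntegral hMp (isIntegral_centralChar χ.2 _)
  refine ⟨r, ?_, ?_, χ, hχ, ?_⟩
  · intro h
    exact hr (memLocalIdeal_mul_right hMp h
      (memLocalRing_mul hMp (memLocalRing_natCast hMp _) hcR))
  · intro hd
    exact hr (memLocalIdeal_mul_left hMp hbR
      (memLocalIdeal_mul_right hMp (memLocalIdeal_natCast_of_dvd hM hd) hcR))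
  · intro h
    exact hr (memLocalIdeal_mul_left hMp hbR
      (memLocalIdeal_mul_left hMp (memLocalRing_natCast hMp _) h))

/-- If the inflations of the members of the block `B̄` of `G ⧸ N` lie in the block `B` of `G`,
then every defect group of `B̄` is contained in the image of a defect group of `B`. -/
theorem exists_defectGroup_quot [Finite G] (p : ℕ) [Fact p.Prime] (hM : IsPModular p M)
    (N : Subgroup G) [N.Normal] (Bbar : Set (IrrCharacter (G ⧸ N))) (hBbar : IsPBlock M Bbar)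
    (B : Set (IrrCharacter G)) (hB : IsPBlock M B)
    (hsub : ∀ χ ∈ Bbar, ∀ ψ : IrrCharacter G,
      (ψ : G → ℂ) = (χ : G ⧸ N → ℂ) ∘ QuotientGroup.mk → ψ ∈ B)
    (Dbar : Subgroup (G ⧸ N)) (hDbar : IsDefectGroup p M Bbar Dbar) :
    ∃ P : Subgroup G, IsDefectGroup p M B P ∧ Dbar ≤ P.map (QuotientGroup.mk' N) := by
  classical
  have hp : p.Prime := Fact.out
  obtain ⟨g, hg1, hg2, χ, hχ, hg3⟩ := exists_class_quot p hM N Bbar hBbar B hB hsub
  obtain ⟨g₁, hg₁, hD⟩ := isDefectGroup_iff.mp hDbar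
  obtain ⟨x, Q₁, hQ₁, hle₁⟩ := minmax_b hM Bbar hBbar g₁ hg₁ Dbar hD (g : G ⧸ N) ⟨χ, hχ, hg3⟩
  obtain ⟨Q, -, hQ⟩ := exists_isSylIn (p := p)
    (bot_le : (⊥ : Subgroup G) ≤ Subgroup.centralizer ({g} : Set G)) IsPGroup.of_bot
  obtain ⟨P₀, hP₀⟩ := exists_defectGroup hM B hB
  obtain ⟨g₀, hg₀, hP₀g⟩ := isDefectGroup_iff.mp hP₀
  obtain ⟨y, hy⟩ := minmax_a hM B hB g₀ hg₀ P₀ hP₀g g hg1 Q hQ.2.1 hQ.1
  have hle := centralizer_le_comap N g
  have hQK : IsSylIn p Q ((Subgroup.centralizer ({(g : G ⧸ N)} : Set (G ⧸ N))).comap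
      (QuotientGroup.mk' N)) := by
    refine ⟨hQ.1.trans hle, hQ.2.1, ?_⟩
    rw [← Subgroup.relIndex_mul_relIndex Q _ _ hQ.1 hle]
    intro hd
    rcases (Nat.Prime.dvd_mul hp).mp hd with h | h
    · exact hQ.2.2 h
    · exact hg2 h
  have hQbar := isSylIn_map_of_comap (QuotientGroup.mk' N) (QuotientGroup.mk'_surjective N) _ Q hQK
  obtain ⟨c, -, hceq⟩ := hQbar.exists_cj_eq hQ₁
  obtain ⟨w, hw⟩ := QuotientGroup.mk'_surjective N (c * x)
  have h5 : Dbar.map (MulAut.conj (c * x)).toMonoidHom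
      ≤ (P₀.map (MulAut.conj y).toMonoidHom).map (QuotientGroup.mk' N) := by
    rw [← cj_cj]
    refine le_trans (cj_mono hle₁) ?_
    rw [hceq]
    exact Subgroup.map_mono hy
  refine ⟨(P₀.map (MulAut.conj y).toMonoidHom).map (MulAut.conj w⁻¹).toMonoidHom,
    isDefectGroup_conj (isDefectGroup_conj hP₀ y) w⁻¹, ?_⟩
  rw [map_cj_mk, map_inv, hw]
  have h6 := cj_mono (g := (c * x)⁻¹) h5
  rw [cj_inv_cj] at h6
  exact h6

end Cfsg.Agent.Lib.Helper16.QuotDefect
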