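import Mathlib
import Cfsg.Prelude.Def_Blocks
import Cfsg.Agent.Lib.Helper16.QuotDefect
import Cfsg.Agent.Lib.Helper77.OsimaVanish
import Cfsg.Agent.Lib.Helper78.Fitting
import Cfsg.Agent.S0912

/-!
# Blocks of `G ⧸ N` for a normal `p`-subgroup `N`

* `nSum N`: the sum of the elements of `N` in `ℂ[G]`, central for `N ◁ G`.
* `inflSet N B`: the irreducible characters of `G ⧸ N` whose inflation lies in `B`.
* `blockIdem_mul_nSum`: `e_B · N⁺` is the pull-back of the idempotent of `inflSet N B`.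
* `blockCoeff_inflSet`: the idempotent coefficient of `inflSet N B` at the image of a `p`-regular
  element centralizing the `p`-group `N` is the coefficient of `B` there.
* `exists_block_quot`: S4434.
-/

set_option autoImplicit false

namespace Cfsg.Agent.Lib.Helper16.QuotP2

open Cfsg Cfsg.Agent.Lib.Helper77.LocalRing Cfsg.Agent.Lib.Helper77.CentralChar
  Cfsg.Agent.Lib.Helper77.ClassSum Cfsg.Agent.Lib.Helper77.BlockIdem
  Cfsg.Agent.Lib.Helper16.ZR Cfsg.Agent.Lib.CT.Wedderburn Cfsg.Agent.Lib.Helper16.MinMax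
  Cfsg.Agent.Lib.Helper16.Defect Cfsg.Agent.Lib.Helper16.Fong
  Cfsg.Agent.Lib.Helper33.Conj Cfsg.Agent.Lib.Helper16.Quot Cfsg.Agent.Lib.Helper16.QuotDefect
open scoped ComplexConjugate

universe u
variable {G : Type u} [Group G] {M : Ideal AlgInt}

/-- The sum of the elements of `N`. -/
noncomputable def nSum (N : Subgroup G) [Fintype N] : MonoidAlgebra ℂ G :=
  ∑ n : N, MonoidAlgebra.single (n : G) (1 : ℂ)

theorem coeff_mul_nSum (N : Subgroup G) [Fintype N] (z : MonoidAlgebra ℂ G) (x : G) :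
    (z * nSum N).coeff x = ∑ n : N, z.coeff (x * (n : G)⁻¹) := by
  unfold nSum
  rw [Finset.mul_sum, MonoidAlgebra.coeff_sum, Finsupp.finsetSum_apply]
  apply Finset.sum_congr rfl
  intro n _
  rw [MonoidAlgebra.coeff_mul_single_apply, mul_one]

theorem coeff_nSum_mul (N : Subgroup G) [Fintype N] (z : MonoidAlgebra ℂ G) (x : G) :
    (nSum N * z).coeff x = ∑ n : N, z.coeff ((n : G)⁻¹ * x) := by
  unfold nSum
  rw [Finset.sum_mul, MonoidAlgebra.coeff_sum, Finsupp.finsetSum_apply]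
  apply Finset.sum_congr rfl
  intro n _
  rw [MonoidAlgebra.coeff_single_mul_apply, one_mul]

theorem nSum_mem_center (N : Subgroup G) [hN : N.Normal] [Fintype N] : nSum N ∈ Zc G := by
  rw [Subalgebra.mem_center_iff]
  intro b
  apply MonoidAlgebra.coeff_injective
  ext x
  rw [coeff_mul_nSum, coeff_nSum_mul]
  apply Fintype.sum_equiv (MulAut.conjNormal x : N ≃* N).toEquiv
  intro m
  have h : (((MulAut.conjNormal x : N ≃* N).toEquiv m : N) : G) = x * (m : G) * x⁻¹ :=
    MulAut.conjNormal_apply x m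
  rw [h]
  congr 1
  group

theorem omega_nSum (N : Subgroup G) [Fintype N] (χ : G → ℂ) :
    omega χ (nSum N) = (∑ n : N, χ n) / χ 1 := by
  unfold omega nSum
  rw [pair_sum]
  congr 1
  apply Finset.sum_congr rfl
  intro n _
  rw [pair_single, one_mul]

theorem omega_nSum_of_trivial (N : Subgroup G) [Fintype N] (χ : IrrCharacter G)
    (h : ∀ n ∈ N, (χ : G → ℂ) n = (χ : G → ℂ) 1) :
    omega (χ : G → ℂ) (nSum N) = (Nat.card N : ℂ) := by
  rw [omega_nSum]
  have h1 : ∀ n ∈ (Finset.univ : Finset N), (χ : G → ℂ) n = (χ : G → ℂ) 1 :=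
    fun n _ => h n n.2
  rw [Finset.sum_congr rfl h1, Finset.sum_const, Finset.card_univ, nsmul_eq_mul,
    Nat.card_eq_fintype_card]
  exact mul_div_cancel_right₀ _ (irr_one_ne_zero χ.2)

theorem omega_nSum_of_not_trivial [Finite G] (N : Subgroup G) [hN : N.Normal] [Fintype N]
    (χ : IrrCharacter G) (h : ¬ ∀ n ∈ N, (χ : G → ℂ) n = (χ : G → ℂ) 1) :
    omega (χ : G → ℂ) (nSum N) = 0 := by
  rw [omega_nSum]
  have h1 : classInner (fun n : N => (χ : G → ℂ) n) (fun _ : N => (1 : ℂ)) = 0 := by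
    by_contra hne
    exact h (apply_eq_of_over_trivial N hN (χ : G → ℂ) χ.2 hne)
  unfold classInner at h1
  have h2 : (Nat.card N : ℂ) ≠ 0 := Nat.cast_ne_zero.mpr Nat.card_pos.ne'
  have h3 : ∑ n : N, (χ : G → ℂ) n = 0 := by
    have h4 := (mul_eq_zero.mp h1).resolve_left (inv_ne_zero h2)
    simpa using h4
  rw [h3, zero_div]

/-- The irreducible characters of `G ⧸ N` whose inflation lies in `B`. -/
def inflSet (N : Subgroup G) [N.Normal] (B : Set (IrrCharacter G)) :
    Set (IrrCharacter (G ⧸ N)) :=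
  {χ | (⟨fun g : G => (χ : G ⧸ N → ℂ) (g : G ⧸ N),
    Cfsg.Agent.Lib.CT.Kernel.isIrrCharacter_inflation N χ.2⟩ : IrrCharacter G) ∈ B}

theorem blockClosed_inflSet (hMp : M.IsPrime) (N : Subgroup G) [N.Normal] [Finite G]
    (B : Set (IrrCharacter G)) (hB : BlockClosed M B) : BlockClosed M (inflSet N B) := by
  intro χ hχ ψ hs
  exact hB _ hχ _ (sameBlock_comp_mk hMp N _ _ hs)

theorem mem_of_mem_inflSet (N : Subgroup G) [N.Normal] (B : Set (IrrCharacter G))
    (χ : IrrCharacter (G ⧸ N)) (hχ : χ ∈ inflSet N B) (ψ : IrrCharacter G)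
    (hψ : (ψ : G → ℂ) = (χ : G ⧸ N → ℂ) ∘ QuotientGroup.mk) : ψ ∈ B := by
  have h : ψ = ⟨fun g : G => (χ : G ⧸ N → ℂ) (g : G ⧸ N),
      Cfsg.Agent.Lib.CT.Kernel.isIrrCharacter_inflation N χ.2⟩ := Subtype.ext hψ
  rw [h]
  exact hχ

theorem blockIdem_mul_nSum [Finite G] (N : Subgroup G) [hN : N.Normal] [Fintype N]
    (B : Set (IrrCharacter G)) :
    blockIdem B * nSum N = pull N (blockIdem (inflSet N B)) := by
  have hw : pull N (blockIdem (inflSet N B)) ∈ Zc G :=
    pull_mem_center N _ (blockIdem_mem_center _)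
  apply eq_of_omega_eq _ _ ((Zc G).mul_mem (blockIdem_mem_center B) (nSum_mem_center N)) hw
  intro χ
  rw [omega_mul χ.2 _ _ (blockIdem_mem_center B), omega_blockIdem]
  by_cases h : ∀ n ∈ N, (χ : G → ℂ) n = (χ : G → ℂ) 1
  · rw [omega_nSum_of_trivial N χ h]
    obtain ⟨χbar, hirr, hχbar⟩ := Cfsg.Agent.Lib.CT.Kernel.exists_quotient_irr N χ.2 h
    have hfun : (χ : G → ℂ) = fun g : G => χbar (g : G ⧸ N) := by
      funext g
      exact (hχbar g).symm
    have h1 := omega_pull N χbar (blockIdem (inflSet N B))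
    rw [← hfun] at h1
    rw [h1]
    have h2 := omega_blockIdem (inflSet N B) ⟨χbar, hirr⟩
    rw [h2]
    have hiff : (⟨χbar, hirr⟩ : IrrCharacter (G ⧸ N)) ∈ inflSet N B ↔ χ ∈ B := by
      have h3 : (⟨fun g : G => χbar (g : G ⧸ N),
          Cfsg.Agent.Lib.CT.Kernel.isIrrCharacter_inflation N hirr⟩ : IrrCharacter G) = χ :=
        Subtype.ext hfun.symm
      show (⟨fun g : G => χbar (g : G ⧸ N), _⟩ : IrrCharacter G) ∈ B ↔ χ ∈ B
      rw [h3]
    by_cases hχ : χ ∈ B
    · rw [if_pos hχ, if_pos (hiff.mpr hχ), one_mul, mul_one]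
    · rw [if_neg hχ, if_neg (fun h' => hχ (hiff.mp h')), zero_mul, mul_zero]
  · rw [omega_nSum_of_not_trivial N χ h, mul_zero]
    have h1 : pull N (blockIdem (inflSet N B)) * nSum N
        = (Nat.card N : ℂ) • pull N (blockIdem (inflSet N B)) := by
      apply MonoidAlgebra.coeff_injective
      ext x
      rw [coeff_mul_nSum, MonoidAlgebra.coeff_smul_apply]
      have h2 : ∀ n ∈ (Finset.univ : Finset N),
          (pull N (blockIdem (inflSet N B))).coeff (x * (n : G)⁻¹)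
            = (pull N (blockIdem (inflSet N B))).coeff x := by
        intro n _
        rw [coeff_pull, coeff_pull]
        congr 1
        rw [QuotientGroup.mk_mul, QuotientGroup.mk_inv,
          (QuotientGroup.eq_one_iff (n : G)).mpr n.2, inv_one, mul_one]
      rw [Finset.sum_congr rfl h2, Finset.sum_const, Finset.card_univ, nsmul_eq_mul,
        Nat.card_eq_fintype_card, smul_eq_mul]
    have h3 := omega_mul χ.2 _ (nSum N) hw
    rw [h1, omega_smul, omega_nSum_of_not_trivial N χ h, mul_zero] at h3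
    have h2 : (Nat.card N : ℂ) ≠ 0 := Nat.cast_ne_zero.mpr Nat.card_pos.ne'
    exact ((mul_eq_zero.mp h3).resolve_left h2).symm

theorem dvd_orderOf_mul_of_commute {p : ℕ} (hp : p.Prime) (y n : G) (hc : Commute y n)
    (hy : ¬ p ∣ orderOf y) (hn : n ≠ 1) {k : ℕ} (hk : orderOf n = p ^ k) :
    p ∣ orderOf (y * n) := by
  have h1 : (y * n) ^ (orderOf (y * n) * orderOf y) = 1 := by
    rw [pow_mul, pow_orderOf_eq_one, one_pow]
  rw [hc.mul_pow, mul_comm (orderOf (y * n)), pow_mul, pow_orderOf_eq_one, one_pow, one_mul]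
    at h1
  have h2 : orderOf n ∣ orderOf y * orderOf (y * n) := orderOf_dvd_of_pow_eq_one h1
  have hk0 : k ≠ 0 := by
    rintro rfl
    rw [pow_zero, orderOf_eq_one_iff] at hk
    exact hn hk
  have h3 : p ∣ orderOf n := by
    rw [hk]
    exact dvd_pow_self p hk0
  rcases (Nat.Prime.dvd_mul hp).mp (h3.trans h2) with h | h
  · exact absurd h hy
  · exact h

theorem blockCoeff_inflSet [Finite G] (p : ℕ) [Fact p.Prime] (hM : IsPModular p M)
    (N : Subgroup G) [hN : N.Normal] (hNp : IsPGroup p N) (B : Set (IrrCharacter G))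
    (hB : IsPBlock M B) (y : G) (hy : ¬ p ∣ orderOf y)
    (hyN : y ∈ Subgroup.centralizer (N : Set G)) :
    blockCoeff (inflSet N B) (y : G ⧸ N) = blockCoeff B y := by
  classical
  have hp : p.Prime := Fact.out
  have : Fintype N := Fintype.ofFinite N
  have h1 := congrArg (fun z : MonoidAlgebra ℂ G => z.coeff y) (blockIdem_mul_nSum N B)
  simp only [coeff_mul_nSum, coeff_pull, coeff_blockIdem] at h1
  rw [← h1]
  rw [Finset.sum_eq_single (1 : N)]
  · simp
  · intro n _ hn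
    apply Cfsg.Agent.Lib.Helper77.OsimaVanish.blockCoeff_eq_zero_of_singular p M hM B hB
    obtain ⟨k, hk⟩ := (IsPGroup.iff_orderOf.mp hNp) n⁻¹
    have hk' : orderOf ((n : G)⁻¹) = p ^ k := by
      rw [← hk, ← Subgroup.orderOf_coe]
      rfl
    have hn1 : (n : G)⁻¹ ≠ 1 := by
      intro h0
      apply hn
      apply Subtype.ext
      simpa using h0
    have hc : Commute y (n : G)⁻¹ := by
      have h2 := Subgroup.mem_centralizer_iff.mp hyN (n : G) n.2
      exact (Commute.inv_right h2.symm)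
    exact dvd_orderOf_mul_of_commute hp y _ hc hy hn1 hk'
  · intro h
    exact absurd (Finset.mem_univ _) h

/-- For a normal `p`-subgroup `N`, every block `B` of `G` contains a block of `G ⧸ N` whose
defect groups are exactly the images of the defect groups of `B`. -/
theorem exists_block_quot [Finite G] (p : ℕ) [Fact p.Prime] (hM : IsPModular p M)
    (N : Subgroup G) [hN : N.Normal] (hNp : IsPGroup p N) (B : Set (IrrCharacter G))
    (hB : IsPBlock M B) :
    ∃ Bbar : Set (IrrCharacter (G ⧸ N)), IsPBlock M Bbar ∧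
      (∀ χ ∈ Bbar, ∀ ψ : IrrCharacter G,
        (ψ : G → ℂ) = (χ : G ⧸ N → ℂ) ∘ QuotientGroup.mk → ψ ∈ B) ∧
      ∀ Dbar : Subgroup (G ⧸ N), IsDefectGroup p M Bbar Dbar ↔
        ∃ P : Subgroup G, IsDefectGroup p M B P ∧ Dbar = P.map (QuotientGroup.mk' N) := by
  classical
  have hp : p.Prime := Fact.out
  have hMp := isPrime_of_isPModular hM
  obtain ⟨P, hP⟩ := exists_defectGroup hM B hB
  obtain ⟨y, hy, hPy⟩ := isDefectGroup_iff.mp hP
  have hNP : N ≤ P := (Cfsg.Agent.Lib.Helper78.Fitting.le_pCore hN hNp).trans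
    (Cfsg.Agent.S0912.result p M hM B hB P hP)
  have hyN : y ∈ Subgroup.centralizer (N : Set G) := by
    rw [Subgroup.mem_centralizer_iff]
    intro n hn
    have h1 : n ∈ Subgroup.centralizer ({y} : Set G) := hPy.1 (hNP hn)
    rw [mem_centralizer_singleton] at h1
    exact h1.symm
  have hyreg : ¬ p ∣ orderOf y := by
    intro hd
    apply hy.2.1
    rw [Cfsg.Agent.Lib.Helper77.OsimaVanish.blockCoeff_eq_zero_of_singular p M hM B hB y hd]
    exact memLocalIdeal_zero hMp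
  have hcoef := blockCoeff_inflSet p hM N hNp B hB y hyreg hyN
  have hSc : BlockClosed M (inflSet N B) :=
    blockClosed_inflSet hMp N B (blockClosed_of_isPBlock hMp hB)
  obtain ⟨χ, hχS, hχc⟩ := exists_block_coeff hMp (inflSet N B) hSc (y : G ⧸ N) (by
    rw [hcoef]
    exact hy.2.1)
  set Bbar := blockOf M (χ : G ⧸ N → ℂ) with hBbar
  have hBb : IsPBlock M Bbar := isPBlock_blockOf χ
  have hsub : ∀ χ' ∈ Bbar, ∀ ψ : IrrCharacter G,
      (ψ : G → ℂ) = (χ' : G ⧸ N → ℂ) ∘ QuotientGroup.mk → ψ ∈ B := by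
    intro χ' hχ' ψ hψ
    exact mem_of_mem_inflSet N B χ' (hSc χ hχS χ' hχ') ψ hψ
  obtain ⟨D₀, hD₀⟩ := exists_defectGroup hM Bbar hBb
  obtain ⟨g₀, hg₀, hD₀g⟩ := isDefectGroup_iff.mp hD₀
  have hPle : P.map (QuotientGroup.mk' N)
      ≤ Subgroup.centralizer ({(y : G ⧸ N)} : Set (G ⧸ N)) :=
    Subgroup.map_le_iff_le_comap.mpr (hPy.1.trans (centralizer_le_comap N y))
  obtain ⟨x, hx⟩ := minmax_a hM Bbar hBb g₀ hg₀ D₀ hD₀g (y : G ⧸ N) hχc
    (P.map (QuotientGroup.mk' N)) (hPy.2.1.map _) hPle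
  obtain ⟨P', hP', hle'⟩ := exists_defectGroup_quot p hM N Bbar hBb B hB hsub D₀ hD₀
  obtain ⟨u, hu⟩ := defectGroup_conj hM B hB hP hP'
  have hc1 : Nat.card (P'.map (QuotientGroup.mk' N))
      = Nat.card (P.map (QuotientGroup.mk' N)) := by
    rw [hu, map_cj_mk, card_cj]
  have hc2 : Nat.card (P.map (QuotientGroup.mk' N)) ≤ Nat.card D₀ := by
    rw [← card_cj x D₀]
    exact Subgroup.card_le_of_le hx
  have hD₀eq : D₀ = P'.map (QuotientGroup.mk' N) :=
    Subgroup.eq_of_le_of_card_ge hle' (by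
      rw [hc1]
      exact hc2)
  refine ⟨Bbar, hBb, hsub, ?_⟩
  intro Dbar
  constructor
  · intro hDbar
    obtain ⟨v, hv⟩ := defectGroup_conj hM Bbar hBb hD₀ hDbar
    obtain ⟨w, hw⟩ := QuotientGroup.mk'_surjective N v
    refine ⟨P'.map (MulAut.conj w).toMonoidHom, isDefectGroup_conj hP' w, ?_⟩
    rw [map_cj_mk, hw, ← hD₀eq, hv]
  · rintro ⟨P'', hP'', rfl⟩
    obtain ⟨w, hw⟩ := defectGroup_conj hM B hB hP' hP''
    rw [hw, map_cj_mk, ← hD₀eq]
    exact isDefectGroup_conj hD₀ _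

end Cfsg.Agent.Lib.Helper16.QuotP2
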