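import Mathlib
import Cfsg.Prelude.Def_Blocks
import Cfsg.Prelude.Def_BlockLocal
import Cfsg.Prelude.Def_BrauerPairs
import Cfsg.Agent.Lib.Helper16.Fong

/-!
# Stable blocks of a normal subgroup of `p`-power index

* `gstable_of_stabilizes`: `StabilizesBlock` for all elements gives `GStable`.
* `blockIdem_injective`: a set of irreducible characters is determined by its idempotent.
* `exists_block_of_pow_index`: for `N ◁ G` of `p`-power index and a `G`-stable block `c` of `N`,
  the idempotent of `c` is the idempotent of a block `B` of `G`, the only block covering `c`.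
* `coeff_iota_blockIdem`: the coefficients of `ι e_c` are `subgroupBlockCoeff N c`.
* `defect_of_pow_index`: `G = N P` and `P ∩ N` is a defect group of `c`.
-/

set_option autoImplicit false

namespace Cfsg.Agent.Lib.Helper16.Fong2

open Cfsg Cfsg.Agent.Lib.Helper77.LocalRing Cfsg.Agent.Lib.Helper77.CentralChar
  Cfsg.Agent.Lib.Helper77.ClassSum Cfsg.Agent.Lib.Helper77.BlockIdem
  Cfsg.Agent.Lib.Helper16.ZR Cfsg.Agent.Lib.CT.Wedderburn Cfsg.Agent.Lib.Helper16.MinMax
  Cfsg.Agent.Lib.Helper16.Defect Cfsg.Agent.Lib.Helper16.Normal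
  Cfsg.Agent.Lib.Helper16.Fong Cfsg.Agent.Lib.Helper16.Cover4

universe u
variable {G : Type u} [Group G] {M : Ideal AlgInt}

theorem gstable_of_stabilizes (N : Subgroup G) (hN : N.Normal) (c : Set (IrrCharacter N))
    (hst : ∀ x : G, StabilizesBlock N c x) : GStable N hN c := by
  intro θ hθ g
  obtain ⟨θ', hθ', hconj⟩ := (hst g⁻¹).2 θ hθ
  have h : cI N hN g θ = θ' := by
    apply Subtype.ext
    funext n
    rw [cI_apply]
    have h1 := hconj ⟨g * n * g⁻¹, hN.conj_mem n n.2 g⟩ n (by simp [mul_assoc])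
    exact h1.symm
  rw [h]
  exact hθ'

theorem blockIdem_injective [Finite G] {B B' : Set (IrrCharacter G)}
    (h : blockIdem B = blockIdem B') : B = B' := by
  ext ψ
  have h1 := omega_blockIdem B ψ
  have h2 := omega_blockIdem B' ψ
  rw [h] at h1
  rw [h1] at h2
  by_cases hψ : ψ ∈ B <;> by_cases hψ' : ψ ∈ B' <;> simp [hψ, hψ'] at h2 ⊢

theorem coeff_iota_blockIdem [Finite G] (N : Subgroup G) (c : Set (IrrCharacter N)) (g : G) :
    (iota N (blockIdem c)).coeff g = subgroupBlockCoeff N c g := by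
  classical
  unfold subgroupBlockCoeff
  by_cases hg : g ∈ N
  · rw [dif_pos hg]
    have h := coeff_iota_coe N (blockIdem c) ⟨g, hg⟩
    rw [coeff_blockIdem] at h
    exact h
  · rw [dif_neg hg]
    exact coeff_iota_of_not_mem N _ g hg

theorem exists_block_of_pow_index [Fintype G] (p : ℕ) [Fact p.Prime] (hM : IsPModular p M)
    (N : Subgroup G) [hN : N.Normal] [Fintype N] {k : ℕ} (hk : N.index = p ^ k)
    (c : Set (IrrCharacter N)) (hc : IsPBlock M c) (hst : GStable N hN c) :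
    ∃ B : Set (IrrCharacter G), IsPBlock M B ∧ iota N (blockIdem c) = blockIdem B ∧
      (∃ χ ∈ B, ∃ θ ∈ c, classInner (fun n : N => (χ : G → ℂ) n) (θ : N → ℂ) ≠ 0) ∧
      ∀ B' : Set (IrrCharacter G), IsPBlock M B' →
        (∃ χ ∈ B', ∃ θ ∈ c, classInner (fun n : N => (χ : G → ℂ) n) (θ : N → ℂ) ≠ 0) → B' = B := by
  classical
  have hMp := isPrime_of_isPModular hM
  obtain ⟨θ, hθ⟩ := isPBlock_nonempty hMp hc
  obtain ⟨χ, hχ⟩ := exists_over N θ
  have hcR : ∀ n : N, MemLocalRing M (blockCoeff c n) :=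
    fun n => blockCoeff_memLocalRing p M hM c hc n
  have hmem : ∀ ψ : IrrCharacter G, ψ ∈ blockOf M (χ : G → ℂ) ↔
      ∃ θ ∈ c, classInner (fun n : N => (ψ : G → ℂ) n) (θ : N → ℂ) ≠ 0 := by
    intro ψ
    constructor
    · intro hψ
      exact Cfsg.Agent.Lib.Helper16.Over.over_of_sameBlock hMp N hN c hst hcR χ ψ hψ ⟨θ, hθ, hχ⟩
    · rintro ⟨θ', hθ', hψ⟩
      exact sameBlock_of_over_block p hM N hk χ ψ θ θ' hχ hψ (sameBlock_of_mem hMp hc hθ hθ')
  refine ⟨blockOf M (χ : G → ℂ), isPBlock_blockOf χ, ?_, ⟨χ, mem_blockOf_self hMp χ, θ, hθ, hχ⟩, ?_⟩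
  · apply eq_of_omega_eq _ _ (iota_mem_center N hN _ (ginv_blockIdem N hN c hst))
      (blockIdem_mem_center _)
    intro ψ
    rw [omega_blockIdem]
    by_cases hψ : ψ ∈ blockOf M (χ : G → ℂ)
    · rw [if_pos hψ]
      exact omega_iota_blockIdem_of_exists N hN c hst ψ ((hmem ψ).mp hψ)
    · rw [if_neg hψ]
      apply omega_iota_blockIdem_of_forall N c ψ
      intro θ' hθ'
      by_contra hne
      exact hψ ((hmem ψ).mpr ⟨θ', hθ', hne⟩)
  · rintro B' hB' ⟨χ', hχ', hcov'⟩
    rw [isPBlock_eq_blockOf hMp hB' hχ']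
    exact blockOf_eq_of_mem hMp ((hmem χ').mpr hcov')

theorem defect_of_pow_index [Fintype G] (p : ℕ) [Fact p.Prime] (hM : IsPModular p M)
    (N : Subgroup G) [hN : N.Normal] [Fintype N] {k : ℕ} (hk : N.index = p ^ k)
    (c : Set (IrrCharacter N)) (hc : IsPBlock M c) (hst : GStable N hN c)
    (B : Set (IrrCharacter G)) (hB : iota N (blockIdem c) = blockIdem B)
    (P : Subgroup G) (hP : IsDefectGroup p M B P) :
    N ⊔ P = ⊤ ∧ IsDefectGroup p M c ((P ⊓ N).subgroupOf N) := by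
  classical
  have hp : p.Prime := Fact.out
  obtain ⟨B₀, hB₀, hidem, hcov, huniq⟩ := exists_block_of_pow_index p hM N hk c hc hst
  have hBB : B = B₀ := blockIdem_injective (hB.symm.trans hidem)
  subst hBB
  have h := fong p hM N c hc hst B hB₀ hcov
    (fun B' hB' hcov' => by rw [huniq B' hB' hcov']) P hP
  refine ⟨?_, h.2.1⟩
  rw [sup_comm, ← Subgroup.index_eq_one]
  have hdvd : (P ⊔ N).index ∣ p ^ k := hk ▸ Subgroup.index_dvd_of_le le_sup_right
  obtain ⟨j, -, hj⟩ := (Nat.dvd_prime_pow hp).mp hdvd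
  rw [hj] at h ⊢
  cases j with
  | zero => simp
  | succ j => exact absurd (dvd_pow_self p (Nat.succ_ne_zero j)) h.1

end Cfsg.Agent.Lib.Helper16.Fong2
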