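import Mathlib
import Cfsg.Agent.Lib.Helper77.BPUp
import Cfsg.Agent.Lib.Helper16.IndBlock

/-!
# Brauer pairs on a defect group, and pairs of a subgroup containing a centralizer
-/

set_option autoImplicit false

namespace Cfsg.Agent.Lib.Helper16.BPLocal

open Cfsg Cfsg.Agent.Lib.Helper77.LocalRing Cfsg.Agent.Lib.Helper77.CentralChar
  Cfsg.Agent.Lib.Helper77.ClassSum Cfsg.Agent.Lib.Helper77.BlockIdem
  Cfsg.Agent.Lib.Helper77.BPBasic Cfsg.Agent.Lib.Helper77.BPBrauer
  Cfsg.Agent.Lib.Helper77.BPPairs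
  Cfsg.Agent.Lib.Helper77.BPNormal
  Cfsg.Agent.Lib.Helper77.BPMax2 Cfsg.Agent.Lib.Helper77.BPEquiv
  Cfsg.Agent.Lib.Helper77.BPEquiv2
  Cfsg.Agent.Lib.Helper77.BPTransport Cfsg.Agent.Lib.Helper77.BPConjMax
  Cfsg.Agent.Lib.Helper77.BPCent
  Cfsg.Agent.Lib.Helper77.BPSub Cfsg.Agent.Lib.Helper77.BPUp
  Cfsg.Agent.Lib.Helper16.ZR
  Cfsg.Agent.Lib.Helper16.MinMax

universe u
variable {G : Type u} [Group G] {M : Ideal AlgInt}

/-- The centralizer of the trivial subgroup is the whole group. -/
def botIso (G : Type u) [Group G] : Subgroup.centralizer (((⊥ : Subgroup G) : Set G)) ≃* G where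
  toFun x := x
  invFun g := ⟨g, by
    rw [Subgroup.mem_centralizer_iff]
    intro h hh
    have : h = 1 := by simpa using hh
    rw [this, one_mul, mul_one]⟩
  left_inv _ := rfl
  right_inv _ := rfl
  map_mul' _ _ := rfl

theorem om_botIso [Finite G] (χ : IrrCharacter G) (z : MonoidAlgebra ℂ G) :
    om (Subgroup.centralizer (((⊥ : Subgroup G) : Set G))) (pull (botIso G) χ : _ → ℂ) z =
      omega (χ : G → ℂ) z := by
  classical
  cases nonempty_fintype G
  have : Fintype (Subgroup.centralizer (((⊥ : Subgroup G) : Set G))) := Fintype.ofFinite _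
  unfold om omega
  rw [pair_eq_sum, pair_eq_sum, pull_apply]
  congr 1
  refine Fintype.sum_equiv (botIso G).toEquiv _ _ ?_
  intro x
  rw [pull_apply, coeff_res]
  rfl

/-- The trivial subgroup with the block `B` itself is a Brauer pair of `B`. -/
theorem isBrauerPairOf_bot [Finite G] {p : ℕ} [Fact p.Prime] (hM : IsPModular p M)
    (B : Set (IrrCharacter G)) (hB : IsPBlock M B) :
    IsBrauerPairOf p M B ⊥ (pull (botIso G) '' B) := by
  have hMp := isPrime_of_isPModular hM
  refine ⟨⟨IsPGroup.of_bot, isPBlock_pull _ hB⟩, hB, ?_⟩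
  rintro _ ⟨χ, hχ, rfl⟩
  rw [brauerOmega_eq]
  have h := om_botIso χ (blockIdem B)
  rw [omega_blockIdem, if_pos hχ] at h
  have h2 : om (Subgroup.centralizer (((⊥ : Subgroup G) : Set G))) (pull (botIso G) χ : _ → ℂ)
      (ofFun (blockCoeff B)) = 1 := h
  rw [h2, sub_self]
  exact memLocalIdeal_zero hMp

/-- Every defect group carries a maximal Brauer pair of its block. -/
theorem exists_maximal_pair [Finite G] {p : ℕ} [Fact p.Prime] (hM : IsPModular p M)
    (B : Set (IrrCharacter G)) (hB : IsPBlock M B) (D : Subgroup G)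
    (hD : IsDefectGroup p M B D) :
    ∃ e : Set (IrrCharacter (Subgroup.centralizer (D : Set G))),
      IsMaximalBrauerPair p M B D e := by
  obtain ⟨c, hmax, -⟩ := exists_maximal_above (p := p) (M := M) B _
    ⟨⊥, pull (botIso G) '' B⟩ ⟨⊥, pull (botIso G) '' B⟩ (isBrauerPairOf_bot hM B hB)
    Relation.ReflTransGen.refl rfl
  have hc := isDefectGroup_of_maximal hM hmax
  obtain ⟨x, hx⟩ := defectGroup_conj hM B hB hc hD
  have hpair := isBrauerPairOf_conj B c.1 x hmax.1
  subst hx
  exact ⟨_, isMaximal_of_isDefectGroup hM hpair hD⟩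

/-- The block of a maximal Brauer pair `(P, e)` has defect group `Z(P)`. -/
theorem isDefectGroup_of_maximal_self [Finite G] {p : ℕ} [Fact p.Prime] (hM : IsPModular p M)
    {B : Set (IrrCharacter G)} {P : Subgroup G}
    {e : Set (IrrCharacter (Subgroup.centralizer (P : Set G)))}
    (hmax : IsMaximalBrauerPair p M B P e) :
    IsDefectGroup p M e ((P ⊓ Subgroup.centralizer (P : Set G)).subgroupOf
      (Subgroup.centralizer (P : Set G))) := by
  apply isDefectGroup_of_max hM hmax Relation.ReflTransGen.refl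
  intro y hy
  have hle : P.map (MulAut.conj y).toMonoidHom ≤ P := le_of_subpairLE _ _ hy
  have heq : P.map (MulAut.conj y).toMonoidHom = P := by
    apply Subgroup.eq_of_le_of_card_ge hle
    rw [Subgroup.card_map_of_injective (MulAut.conj y).injective]
  rw [heq]

/-- Central characters of `C_H(D₀)` and of `C_G(D₀)` agree along the identification. -/
theorem om_up [Finite G] (H : Subgroup G) (D₀ : Subgroup H)
    (hC : Subgroup.centralizer ((D₀.map H.subtype : Subgroup G) : Set G) ≤ H)
    (ξ' : IrrCharacter (Subgroup.centralizer (D₀ : Set H))) (z : MonoidAlgebra ℂ G) :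
    om (Subgroup.centralizer ((D₀.map H.subtype : Subgroup G) : Set G))
        (pull (zIso H D₀ _ (hS_of_le H D₀ hC)).symm ξ' : _ → ℂ) z =
      om (Subgroup.centralizer (D₀ : Set H)) (ξ' : _ → ℂ) (res H z) := by
  have h1 := brauerOmega_eq (D₀.map H.subtype) (fun g => z.coeff g)
    (pull (zIso H D₀ _ (hS_of_le H D₀ hC)).symm ξ' : _ → ℂ)
  rw [ofFun_coeff] at h1
  have h2 := brauerOmega_eq D₀ (fun h : H => (res H z).coeff h) (ξ' : _ → ℂ)
  rw [ofFun_coeff] at h2
  rw [← h1, ← h2]
  have h3 := brauerOmega_zIso H D₀ _ (hS_of_le H D₀ hC) (fun g => z.coeff g)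
    (fun h : H => (res H z).coeff h) (fun h => rfl)
    (pull (zIso H D₀ _ (hS_of_le H D₀ hC)).symm ξ' : _ → ℂ)
  rw [← h3]
  congr 1

/-- The induced central character is the central character at the restricted class sum. -/
theorem omega_res_classSum [Finite G] (H : Subgroup G) (ξ : H → ℂ) (g : G) :
    omega ξ (res H (classSum g)) = inducedCentralChar H ξ g := by
  classical
  cases nonempty_fintype G
  have : Fintype H := Fintype.ofFinite H
  unfold omega inducedCentralChar
  rw [pair_eq_sum, Cfsg.Agent.Lib.Helper16.Grouping.finsum_mem_eq_sum_filter_univ,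
    Finset.sum_filter, Finset.sum_div]
  apply Finset.sum_congr rfl
  intro h _
  rw [coeff_res]
  unfold classSum
  rw [coeff_ofFun]
  by_cases h2 : IsConj g (h : G)
  · rw [if_pos h2, if_pos (show h ∈ {h : H | IsConj g (h : G)} from h2), one_mul]
  · rw [if_neg h2, if_neg (show h ∉ {h : H | IsConj g (h : G)} from h2), zero_mul, zero_div]

end Cfsg.Agent.Lib.Helper16.BPLocal
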