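import Mathlib
import Cfsg.Prelude.Def_Blocks
import Cfsg.Prelude.Def_Solvable
import Cfsg.Agent.Lib.CT.ThirdMain

/-!
# Brauer–Reynolds (`|G| < p³`): specification of the intermediate data

Shared `Prop`-structures for the proof of S0999 / S4701 (groups of order `< p³` with a
non-normal Sylow `p`-subgroup of order `p`).  Notation: `P` a Sylow `p`-subgroup of order `p`
with `C_G(P) = P`, `N = N_G(P)` of order `p e`, `p = e t + 1`, `|G : N| = 1 + n p`.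

* `Tab`: the table of the principal block (`A`, `B`: non-exceptional characters of degree
  `1 + n p`, `p - 1`; `Y`: the `t` exceptional characters of degree `f`; everything else vanishes
  on `P \ {1}`).
* `Res`: restriction of the irreducible characters to `N` (multiplicities `mult χ i` of the
  linear characters `λ_i`, `λ_i (x y^j) = ω^(i j)`).
* `MS`, `CZ`: consequences in the case `δ = -1`.
-/

set_option autoImplicit false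

namespace Cfsg.Agent.Lib.Helper16.BRSpec

open Cfsg Cfsg.Agent.Lib.CT.ThirdMain
open scoped ComplexConjugate

universe u
variable {G : Type u} [Group G]

/-- The characters outside `{1} ∪ A ∪ B ∪ Y`. -/
def Zset (A B Y : Set (IrrCharacter G)) : Set (IrrCharacter G) :=
  {χ | χ ≠ triv G ∧ χ ∉ A ∧ χ ∉ B ∧ χ ∉ Y}

/-- `χ(1) / p` (used for the characters of `Zset`, whose degrees are divisible by `p`). -/
noncomputable def mdeg (p : ℕ) (χ : IrrCharacter G) : ℕ := charDegree (χ : G → ℂ) / p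

/-- The table of the principal `p`-block. -/
structure Tab (p : ℕ) (P : Sylow p G) (e t n a b : ℕ) (δ : ℤ) (f : ℕ)
    (A B Y : Set (IrrCharacter G)) : Prop where
  hP : Nat.card (P : Subgroup G) = p
  hC : Subgroup.centralizer ((P : Subgroup G) : Set G) = (P : Subgroup G)
  hN : Nat.card (Subgroup.normalizer ((P : Subgroup G) : Set G)) = p * e
  hG : Nat.card G = (1 + n * p) * (p * e)
  hpe : p = e * t + 1
  he : 2 ≤ e
  ht : 2 ≤ t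
  hn : n + 1 = t
  htA : triv G ∉ A
  htB : triv G ∉ B
  htY : triv G ∉ Y
  hAB : Disjoint A B
  hAY : Disjoint A Y
  hBY : Disjoint B Y
  cA : A.ncard = a
  cB : B.ncard = b
  cY : Y.ncard = t
  hA : ∀ χ ∈ A, (χ : G → ℂ) 1 = ((1 + n * p : ℕ) : ℂ) ∧
    ∀ z ∈ (P : Subgroup G), z ≠ 1 → (χ : G → ℂ) z = 1
  hB : ∀ χ ∈ B, (χ : G → ℂ) 1 = ((p - 1 : ℕ) : ℂ) ∧
    ∀ z ∈ (P : Subgroup G), z ≠ 1 → (χ : G → ℂ) z = -1
  hY1 : ∀ θ ∈ Y, (θ : G → ℂ) 1 = (f : ℂ)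
  hYs : ∀ θ ∈ Y, ∑ᶠ z ∈ (((P : Subgroup G) : Set G) \ {1}), (θ : G → ℂ) z = -(δ : ℂ) * (e : ℂ)
  hYc : ∀ z ∈ (P : Subgroup G), z ≠ 1 → ∑ᶠ θ ∈ Y, (θ : G → ℂ) z = -(δ : ℂ)
  hYq : ∀ z ∈ (P : Subgroup G), z ≠ 1 →
    ∑ᶠ θ ∈ Y, (θ : G → ℂ) z * conj ((θ : G → ℂ) z) = ((p - e : ℕ) : ℂ)
  hYr : ∀ θ ∈ Y, ∀ θ' ∈ Y, ∀ g : G, ¬ p ∣ orderOf g → (θ : G → ℂ) g = (θ' : G → ℂ) g
  hZ : ∀ χ ∈ Zset A B Y, ∀ z ∈ (P : Subgroup G), z ≠ 1 → (χ : G → ℂ) z = 0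
  hcase : (δ = 1 ∧ f = e ∧ b = a * n ∧ e = a * t + 1) ∨
    (δ = -1 ∧ f + e = p ∧ b = a * n + 1 ∧ e = a * t + 2)

/-- Restriction data to `N = N_G(P) = P ⋊ ⟨y⟩`. -/
structure Res (p : ℕ) (P : Sylow p G) (e : ℕ) (y : G) (ω : ℂ)
    (mult : IrrCharacter G → ℕ → ℕ) : Prop where
  hyN : y ∈ Subgroup.normalizer ((P : Subgroup G) : Set G)
  hyo : orderOf y = e
  hyP : ∀ j, 0 < j → j < e → y ^ j ∉ (P : Subgroup G)
  hcov : ∀ g ∈ Subgroup.normalizer ((P : Subgroup G) : Set G),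
    ∃ x ∈ (P : Subgroup G), ∃ j, j < e ∧ g = x * y ^ j
  hreg : ∀ g ∈ Subgroup.normalizer ((P : Subgroup G) : Set G), g ∉ (P : Subgroup G) →
    ¬ p ∣ orderOf g
  hconj : ∀ x ∈ (P : Subgroup G), ∀ j, 0 < j → j < e → IsConj (x * y ^ j) (y ^ j)
  hω : IsPrimitiveRoot ω e
  r1 : ∀ i, i < e → ∑ᶠ χ : IrrCharacter G, ((mult χ i : ℂ) * (χ : G → ℂ) 1) =
    ((Subgroup.normalizer ((P : Subgroup G) : Set G)).index : ℂ)
  r2 : ∀ χ : IrrCharacter G, (p : ℂ) * ∑ i ∈ Finset.range e, (mult χ i : ℂ) =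
    ∑ᶠ x ∈ ((P : Subgroup G) : Set G), (χ : G → ℂ) x
  r3 : ∀ χ : IrrCharacter G, ∀ j, 0 < j → j < e →
    (χ : G → ℂ) (y ^ j) = ∑ i ∈ Finset.range e, (mult χ i : ℂ) * ω ^ (i * j)
  r4 : ∀ χ χ' : IrrCharacter G, (∀ g, (χ' : G → ℂ) g = conj ((χ : G → ℂ) g)) →
    ∀ i, i < e → mult χ' ((e - i) % e) = mult χ i

/-- The multiplicities in the case `δ = -1`. -/
structure MS (p : ℕ) (e t n : ℕ) (A B Y : Set (IrrCharacter G))
    (mult : IrrCharacter G → ℕ → ℕ) : Prop where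
  heven : Even e
  mT : ∀ i, i < e → mult (triv G) i = if i = 0 then 1 else 0
  mB : ∀ χ ∈ B, ∀ i, i < e → mult χ i = 0
  mY : ∀ θ ∈ Y, ∀ i, i < e → mult θ i = if i = e / 2 then 1 else 0
  mA0 : ∀ χ ∈ A, mult χ 0 = 0 ∧ mult χ (e / 2) = 0
  mA1 : ∀ χ ∈ A, ∀ i, i < e → mult χ i ≤ 1
  mAs : ∀ χ ∈ A, ∑ i ∈ Finset.range e, mult χ i = t
  mAu : ∀ i, i < e → i ≠ 0 → i ≠ e / 2 → ∑ᶠ χ ∈ A, mult χ i = 1
  mZ : ∀ χ ∈ Zset A B Y, (χ : G → ℂ) 1 = ((mdeg p χ * p : ℕ) : ℂ) ∧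
    ∀ i, i < e → mult χ i = if i = 0 then mdeg p χ else 0
  mZs : ∑ᶠ χ ∈ Zset A B Y, mdeg p χ ^ 2 = n

/-- The centralizer of the involution `w = y ^ (e / 2)` and the values of `A` at `w`. -/
structure CZ (e t : ℕ) (A : Set (IrrCharacter G)) (y : G) : Prop where
  cw : Nat.card (Subgroup.centralizer ({y ^ (e / 2)} : Set G)) = e * t
  aw : ∀ χ ∈ A, ((χ : G → ℂ) (y ^ (e / 2))) ^ 2 = (t : ℂ) ^ 2

end Cfsg.Agent.Lib.Helper16.BRSpec
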