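import Mathlib
import Cfsg.Prelude.Def_Blocks
import Cfsg.Prelude.Def_Solvable
import Cfsg.Agent.Lib.CT.ThirdMain
import Cfsg.Agent.Lib.Helper16.BRSpec

/-!
# Brauer–Reynolds (`|G| < p³`): the statements of the pieces

Each `def X : Prop` below is the exact statement of one piece of the proof of S0999 / S4701.
A piece is proved as `theorem x : Cfsg.Agent.Lib.Helper16.BRStmt.X.{u} := by intro G _ _ ...`
(or without `.{u}` for the arithmetic ones), in a file of its own.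
-/

set_option autoImplicit false

namespace Cfsg.Agent.Lib.Helper16.BRStmt

open Cfsg Cfsg.Agent.Lib.CT.ThirdMain Cfsg.Agent.Lib.Helper16.BRSpec
open scoped ComplexConjugate

universe u

/-- [LOC] local structure of a perfect group with a Sylow `p`-subgroup of order `p`. -/
def Loc : Prop :=
  ∀ (G : Type u) [Group G] [Finite G], commutator G = ⊤ → ∀ (p : ℕ) [Fact p.Prime]
    (P : Sylow p G), Nat.card (P : Subgroup G) = p →
    3 ≤ p ∧ ¬ (P : Subgroup G).Normal ∧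
    2 ≤ (Subgroup.centralizer ((P : Subgroup G) : Set G)).relIndex
      (Subgroup.normalizer ((P : Subgroup G) : Set G)) ∧
    (Subgroup.centralizer ((P : Subgroup G) : Set G)).relIndex
      (Subgroup.normalizer ((P : Subgroup G) : Set G)) ∣ p - 1 ∧
    ∃ n : ℕ, 1 ≤ n ∧ (Subgroup.normalizer ((P : Subgroup G) : Set G)).index = 1 + n * p

/-- [DEG] a character with value `±1` at a generator of `P` has degree dividing `|G : C_G(P)|`. -/
def DegDvd : Prop :=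
  ∀ (G : Type u) [Group G] [Finite G] (p : ℕ) [Fact p.Prime] (P : Sylow p G),
    Nat.card (P : Subgroup G) = p → ∀ (χ : IrrCharacter G) (s : ℤ), (s = 1 ∨ s = -1) →
    ∀ z : G, z ∈ (P : Subgroup G) → z ≠ 1 → (χ : G → ℂ) z = (s : ℂ) →
    charDegree (χ : G → ℂ) ∣ (Subgroup.centralizer ((P : Subgroup G) : Set G)).index

/-- [DEGSUM] the same for a family of characters of equal degree whose values add up to `±1`. -/
def DegDvdSum : Prop :=
  ∀ (G : Type u) [Group G] [Finite G] (p : ℕ) [Fact p.Prime] (P : Sylow p G),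
    Nat.card (P : Subgroup G) = p → ∀ (Y : Set (IrrCharacter G)), Y.Nonempty → ∀ f : ℕ,
    (∀ θ ∈ Y, charDegree (θ : G → ℂ) = f) → ∀ s : ℤ, (s = 1 ∨ s = -1) →
    ∀ z : G, z ∈ (P : Subgroup G) → z ≠ 1 → ∑ᶠ θ ∈ Y, (θ : G → ℂ) z = (s : ℂ) →
    f ∣ (Subgroup.centralizer ((P : Subgroup G) : Set G)).index

/-- [ARITHA] -/
def ArithA : Prop :=
  ∀ (p e n f : ℕ), p.Prime → 1 ≤ e → e < p → e * (1 + n * p) < p ^ 2 →
    f ∣ e * (1 + n * p) → f % p = 1 → f ≠ 1 → f = 1 + n * p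

/-- [ARITHB] -/
def ArithB : Prop :=
  ∀ (p e n f : ℕ), p.Prime → 1 ≤ e → 2 * e + 1 ≤ p → e * (1 + n * p) < p ^ 2 →
    f ∣ e * (1 + n * p) → f % p = p - 1 → f = p - 1 ∧ e * (n + 1) = p - 1

/-- [ARITHC] -/
def ArithCase : Prop :=
  ∀ (p e t n a b f : ℕ) (δ : ℤ), p.Prime → p = e * t + 1 → 2 ≤ e → 2 ≤ t → 1 ≤ n →
    e * (1 + n * p) < p ^ 2 → a + b + 1 = e → (1 ≤ b → n + 1 = t) → (δ = 1 ∨ δ = -1) → 0 < f →
    f ∣ e * (1 + n * p) → (f : ℤ) ≡ δ * (e : ℤ) [ZMOD (p : ℤ)] →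
    δ * (f : ℤ) = 1 + (a : ℤ) * (1 + (n : ℤ) * (p : ℤ)) - (b : ℤ) * ((p : ℤ) - 1) →
    n + 1 = t ∧ ((δ = 1 ∧ f = e ∧ b = a * n ∧ e = a * t + 1) ∨
      (δ = -1 ∧ f + e = p ∧ b = a * n + 1 ∧ e = a * t + 2))

/-- [YA] the column sum of the exceptional characters. -/
def YaSum : Prop :=
  ∀ (G : Type u) [Group G] [Finite G] (p : ℕ) [Fact p.Prime] (M : Ideal AlgInt),
    IsPModular p M → ∀ (P : Sylow p G), Nat.card (P : Subgroup G) = p →
    ∀ (X Y : Set (IrrCharacter G)), principalBlock M G = X ∪ Y → Disjoint X Y → Y.Nonempty →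
    ∀ (εX : IrrCharacter G → ℤ) (ε : ℤ), (ε = 1 ∨ ε = -1) →
    (∀ χ ∈ X, ∀ z ∈ (P : Subgroup G), z ≠ 1 → (χ : G → ℂ) z = (εX χ : ℂ)) →
    (∀ θ ∈ Y, ∀ θ' ∈ Y, (θ : G → ℂ) 1 = (θ' : G → ℂ) 1) →
    (∀ θ ∈ Y, (ε : ℂ) * (θ : G → ℂ) 1 = ∑ᶠ χ ∈ X, (εX χ : ℂ) * (χ : G → ℂ) 1) →
    ∀ z ∈ (P : Subgroup G), z ≠ 1 → ∑ᶠ θ ∈ Y, (θ : G → ℂ) z = -(ε : ℂ)

/-- [PD] `C_G(P) = P`. -/
def CentEq : Prop :=
  ∀ (G : Type u) [Group G] [Finite G] (p : ℕ) [Fact p.Prime] (P : Sylow p G),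
    Nat.card (P : Subgroup G) = p → pPrimeCore p G = ⊥ → ∀ χ : IrrCharacter G,
    (χ : G → ℂ) 1 = ((p - 1 : ℕ) : ℂ) →
    (∀ x ∈ (P : Subgroup G), x ≠ 1 →
      ∀ y ∈ Subgroup.centralizer ((P : Subgroup G) : Set G), ¬ p ∣ orderOf y →
        (χ : G → ℂ) (x * y) = -1) →
    Subgroup.centralizer ((P : Subgroup G) : Set G) = (P : Subgroup G)

/-- [PY] the values of the exceptional characters on `P \ {1}`. -/
def YValues : Prop :=
  ∀ (G : Type u) [Group G] [Finite G] (p : ℕ) [Fact p.Prime] (M : Ideal AlgInt),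
    IsPModular p M → ∀ (P : Sylow p G), Nat.card (P : Subgroup G) = p →
    Subgroup.centralizer ((P : Subgroup G) : Set G) = (P : Subgroup G) →
    ∀ (e t : ℕ), p = e * t + 1 →
    Nat.card (Subgroup.normalizer ((P : Subgroup G) : Set G)) = p * e →
    ∀ (X Y : Set (IrrCharacter G)), principalBlock M G = X ∪ Y → Disjoint X Y →
    X.ncard = e → Y.ncard = t → ∀ (εX : IrrCharacter G → ℤ) (ε : ℤ), (ε = 1 ∨ ε = -1) →
    (∀ χ ∈ X, (εX χ = 1 ∨ εX χ = -1) ∧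
      ∀ z ∈ (P : Subgroup G), z ≠ 1 → (χ : G → ℂ) z = (εX χ : ℂ)) →
    (∀ θ ∈ Y, ∀ θ' ∈ Y, (θ : G → ℂ) 1 = (θ' : G → ℂ) 1) →
    (∀ θ ∈ Y, (ε : ℂ) * (θ : G → ℂ) 1 = ∑ᶠ χ ∈ X, (εX χ : ℂ) * (χ : G → ℂ) 1) →
    (∀ z ∈ (P : Subgroup G), z ≠ 1 → ∑ᶠ θ ∈ Y, (θ : G → ℂ) z = -(ε : ℂ)) ∧
    (∀ z ∈ (P : Subgroup G), z ≠ 1 →
      ∑ᶠ θ ∈ Y, (θ : G → ℂ) z * conj ((θ : G → ℂ) z) = ((p - e : ℕ) : ℂ)) ∧
    (∀ θ ∈ Y, ∑ᶠ z ∈ (((P : Subgroup G) : Set G) \ {1}), (θ : G → ℂ) z = -(ε : ℂ) * (e : ℂ)) ∧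
    (∀ χ : IrrCharacter G, χ ∉ principalBlock M G →
      ∀ z ∈ (P : Subgroup G), z ≠ 1 → (χ : G → ℂ) z = 0)

/-- [PF] the case `n = 1`. -/
def PslOfNOne : Prop :=
  ∀ (G : Type u) [Group G] [Finite G], commutator G = ⊤ → ∀ (p : ℕ) [Fact p.Prime]
    (P : Sylow p G), Nat.card (P : Subgroup G) = p → pPrimeCore p G = ⊥ →
    Subgroup.centralizer ((P : Subgroup G) : Set G) = (P : Subgroup G) →
    ∀ e : ℕ, 2 ≤ e → p = 2 * e + 1 →
    Nat.card (Subgroup.normalizer ((P : Subgroup G) : Set G)) = p * e →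
    Nat.card G = (1 + p) * (p * e) →
    3 < p ∧ Nonempty (G ≃* Matrix.ProjectiveSpecialLinearGroup (Fin 2) (ZMod p))

/-- [PG] the case `δ = 1`, `t ≥ 3` does not occur. -/
def CaseCFalse : Prop :=
  ∀ (G : Type u) [Group G] [Finite G] (p : ℕ) [Fact p.Prime] (P : Sylow p G)
    (e t n a b f : ℕ) (A B Y : Set (IrrCharacter G)), Tab p P e t n a b 1 f A B Y → 3 ≤ t →
    False

/-- [PH1] a generator of a complement of `P` in `N_G(P)`. -/
def ExistsGen : Prop :=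
  ∀ (G : Type u) [Group G] [Finite G] (p : ℕ) [Fact p.Prime] (P : Sylow p G),
    Nat.card (P : Subgroup G) = p →
    Subgroup.centralizer ((P : Subgroup G) : Set G) = (P : Subgroup G) → ∀ e : ℕ,
    Nat.card (Subgroup.normalizer ((P : Subgroup G) : Set G)) = p * e →
    ∃ y : G, y ∈ Subgroup.normalizer ((P : Subgroup G) : Set G) ∧ orderOf y = e ∧
      (∀ j, 0 < j → j < e → y ^ j ∉ (P : Subgroup G)) ∧
      (∀ g ∈ Subgroup.normalizer ((P : Subgroup G) : Set G),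
        ∃ x ∈ (P : Subgroup G), ∃ j, j < e ∧ g = x * y ^ j) ∧
      (∀ g ∈ Subgroup.normalizer ((P : Subgroup G) : Set G), g ∉ (P : Subgroup G) →
        ¬ p ∣ orderOf g) ∧
      (∀ x ∈ (P : Subgroup G), ∀ j, 0 < j → j < e → IsConj (x * y ^ j) (y ^ j))

/-- [PH2] restriction of the irreducible characters to `N_G(P)`. -/
def ExistsRes : Prop :=
  ∀ (G : Type u) [Group G] [Finite G] (p : ℕ) [Fact p.Prime] (P : Sylow p G),
    Nat.card (P : Subgroup G) = p →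
    Subgroup.centralizer ((P : Subgroup G) : Set G) = (P : Subgroup G) → ∀ e : ℕ,
    Nat.card (Subgroup.normalizer ((P : Subgroup G) : Set G)) = p * e → ∀ y : G,
    y ∈ Subgroup.normalizer ((P : Subgroup G) : Set G) → orderOf y = e →
    (∀ j, 0 < j → j < e → y ^ j ∉ (P : Subgroup G)) →
    (∀ g ∈ Subgroup.normalizer ((P : Subgroup G) : Set G),
      ∃ x ∈ (P : Subgroup G), ∃ j, j < e ∧ g = x * y ^ j) →
    (∀ g ∈ Subgroup.normalizer ((P : Subgroup G) : Set G), g ∉ (P : Subgroup G) →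
      ¬ p ∣ orderOf g) →
    (∀ x ∈ (P : Subgroup G), ∀ j, 0 < j → j < e → IsConj (x * y ^ j) (y ^ j)) →
    ∃ (ω : ℂ) (mult : IrrCharacter G → ℕ → ℕ), Res p P e y ω mult

/-- [INV] an involution of `N_G(P)` outside `P` inverts `P`. -/
def InvOfInvol : Prop :=
  ∀ (G : Type u) [Group G] [Finite G] (p : ℕ) [Fact p.Prime], p ≠ 2 → ∀ (P : Sylow p G),
    Nat.card (P : Subgroup G) = p →
    Subgroup.centralizer ((P : Subgroup G) : Set G) = (P : Subgroup G) → ∀ w : G,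
    w ∈ Subgroup.normalizer ((P : Subgroup G) : Set G) → w ∉ (P : Subgroup G) → w * w = 1 →
    ∀ x ∈ (P : Subgroup G), w * x * w⁻¹ = x⁻¹

/-- [MS] the multiplicities in the case `δ = -1`. -/
def MsOfTab : Prop :=
  ∀ (G : Type u) [Group G] [Finite G] (p : ℕ) [Fact p.Prime] (P : Sylow p G)
    (e t n a b f : ℕ) (A B Y : Set (IrrCharacter G)), Tab p P e t n a b (-1) f A B Y →
    ∀ (y : G) (ω : ℂ) (mult : IrrCharacter G → ℕ → ℕ), Res p P e y ω mult →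
    MS p e t n A B Y mult

/-- [CZ] the centralizer of the involution `y ^ (e / 2)`. -/
def CzOfMs : Prop :=
  ∀ (G : Type u) [Group G] [Finite G] (p : ℕ) [Fact p.Prime] (P : Sylow p G)
    (e t n a b f : ℕ) (A B Y : Set (IrrCharacter G)), Tab p P e t n a b (-1) f A B Y →
    ∀ (y : G) (ω : ℂ) (mult : IrrCharacter G → ℕ → ℕ), Res p P e y ω mult →
    MS p e t n A B Y mult →
    (∀ x ∈ (P : Subgroup G), y ^ (e / 2) * x * (y ^ (e / 2))⁻¹ = x⁻¹) →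
    CZ e t A y

/-- [PI] the case `δ = -1`, `a ≥ 1`, `t ≥ 3` does not occur. -/
def CaseDFalse : Prop :=
  ∀ (G : Type u) [Group G] [Finite G] (p : ℕ) [Fact p.Prime] (P : Sylow p G)
    (e t n a b f : ℕ) (A B Y : Set (IrrCharacter G)), Tab p P e t n a b (-1) f A B Y →
    ∀ (y : G) (ω : ℂ) (mult : IrrCharacter G → ℕ → ℕ), Res p P e y ω mult →
    MS p e t n A B Y mult → CZ e t A y → 1 ≤ a → 3 ≤ t → False

/-- [PJ1] the case `δ = -1`, `a = 0`: every non-trivial element of `C_G(y)` is conjugate to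
the involution `y`. -/
def CaseDInvol : Prop :=
  ∀ (G : Type u) [Group G] [Finite G] (p : ℕ) [Fact p.Prime] (P : Sylow p G)
    (e t n a b f : ℕ) (A B Y : Set (IrrCharacter G)), Tab p P e t n a b (-1) f A B Y →
    ∀ (y : G) (ω : ℂ) (mult : IrrCharacter G → ℕ → ℕ), Res p P e y ω mult →
    MS p e t n A B Y mult → CZ e t A y → a = 0 → 3 ≤ t →
    ∀ c ∈ Subgroup.centralizer ({y} : Set G), c ≠ 1 → IsConj c y

/-- [PJ2] identification of `PSL(2, 2^m)`. -/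
def PslOfInvol : Prop :=
  ∀ (G : Type u) [Group G] [Finite G] (p : ℕ) [Fact p.Prime], 7 ≤ p → ∀ (P : Sylow p G),
    Nat.card (P : Subgroup G) = p →
    Nat.card (Subgroup.normalizer ((P : Subgroup G) : Set G)) = p * 2 →
    Nat.card G = p * (p - 1) * (p - 2) → ∀ w : G, orderOf w = 2 →
    Nat.card (Subgroup.centralizer ({w} : Set G)) = p - 1 →
    (∀ c ∈ Subgroup.centralizer ({w} : Set G), c ≠ 1 → IsConj c w) →
    ∃ (m : ℕ) (F : Type) (_ : Field F) (_ : Fintype F), Fintype.card F = 2 ^ m ∧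
      p = 2 ^ m + 1 ∧ Nonempty (G ≃* Matrix.ProjectiveSpecialLinearGroup (Fin 2) F)

/-- [T1] `|N_G(P) : C_G(P)| = p - 1` does not occur. -/
def TNeOne : Prop :=
  ∀ (G : Type u) [Group G] [Finite G], commutator G = ⊤ → ∀ (p : ℕ) [Fact p.Prime], 3 ≤ p →
    ∀ (P : Sylow p G), Nat.card (P : Subgroup G) = p → Nat.card G < p ^ 3 →
    (Subgroup.centralizer ((P : Subgroup G) : Set G)).relIndex
      (Subgroup.normalizer ((P : Subgroup G) : Set G)) = p - 1 → False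

/-- The conclusion of the core theorem. -/
def CoreConcl (p : ℕ) (G : Type u) [Group G] : Prop :=
  (3 < p ∧ Nonempty (G ≃* Matrix.ProjectiveSpecialLinearGroup (Fin 2) (ZMod p))) ∨
  (∃ (m : ℕ) (F : Type) (_ : Field F) (_ : Fintype F), Fintype.card F = 2 ^ m ∧
    p = 2 ^ m + 1 ∧ 3 < p ∧ Nonempty (G ≃* Matrix.ProjectiveSpecialLinearGroup (Fin 2) F))

/-- The core theorem. -/
def CoreStmt : Prop :=
  ∀ (H : Type u) [Group H] [Finite H], commutator H = ⊤ → ∀ (p : ℕ) [Fact p.Prime]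
    (P : Sylow p H), Nat.card (P : Subgroup H) = p → pPrimeCore p H = ⊥ →
    Nat.card H < p ^ 3 → CoreConcl p H

/-- [W1] S0999 from the core theorem. -/
def S0999OfCore : Prop :=
  CoreStmt.{u} → ∀ (G : Type u) [Group G] [Finite G] [IsSimpleGroup G], ¬ IsCyclic G →
    ∀ (p : ℕ), p.Prime → p ∣ Nat.card G → Nat.card G < p ^ 3 →
    (∃ (F : Type) (_ : Field F) (_ : Fintype F), Fintype.card F = p ∧ 3 < p ∧
      Nonempty (G ≃* Matrix.ProjectiveSpecialLinearGroup (Fin 2) F)) ∨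
    (∃ (m : ℕ) (F : Type) (_ : Field F) (_ : Fintype F), Fintype.card F = 2 ^ m ∧
      p = 2 ^ m + 1 ∧ 3 < p ∧ Nonempty (G ≃* Matrix.ProjectiveSpecialLinearGroup (Fin 2) F))

/-- [W2] S4701 from the core theorem. -/
def S4701OfCore : Prop :=
  CoreStmt.{u} → ∀ (G : Type u) [Group G] [Finite G], commutator G = ⊤ →
    ∀ (p : ℕ) [Fact p.Prime], p ∣ Nat.card G → Nat.card G < p ^ 3 → ∀ (P : Sylow p G),
    ¬ (P : Subgroup G).Normal → (∀ N : Subgroup G, N.Normal → Nat.card N ≠ 2) →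
    (∃ (F : Type) (_ : Field F) (_ : Fintype F), Fintype.card F = p ∧ 3 < p ∧
      Nonempty (G ≃* Matrix.ProjectiveSpecialLinearGroup (Fin 2) F)) ∨
    (∃ (m : ℕ) (F : Type) (_ : Field F) (_ : Fintype F), Fintype.card F = 2 ^ m ∧
      p = 2 ^ m + 1 ∧ 3 < p ∧ Nonempty (G ≃* Matrix.SpecialLinearGroup (Fin 2) F))

end Cfsg.Agent.Lib.Helper16.BRStmt
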