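import Mathlib
import Cfsg.Agent.Lib.Helper25.ACStmt

/-!
Piece P2STRUCT of S3912 (helper16, second seat): a nonabelian 2-group with a unique involution
`z` and all commutators in `{1, z}` has order 8.
-/

set_option autoImplicit false
set_option linter.unusedVariables false
set_option linter.style.haveILetI false
set_option linter.deprecated false

universe u

namespace Cfsg.Agent.Lib.Helper16.ACP2STRUCT

open Cfsg.Agent.Lib.Helper25.ACStmt

/-- the eight candidate elements -/
def f8 {P : Type u} [Group P] (z x y : P) (t : Bool × Bool × Bool) : P :=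
  cond t.1 z 1 * cond t.2.1 x⁻¹ 1 * cond t.2.2 y⁻¹ 1

theorem main (hC : P2Cent.{u}) : P2Struct.{u} := by
  intro P _ _ hP z hz1 hinv hcomm ⟨x, y, hxy⟩
  haveI : Fact (Nat.Prime 2) := ⟨Nat.prime_two⟩
  obtain ⟨n, hn⟩ := IsPGroup.iff_card.mp hP
  -- `z * z = 1`
  have hz2 : z * z = 1 := by
    have hn0 : n ≠ 0 := by
      rintro rfl
      rw [pow_zero] at hn
      have hsub : Subsingleton P := (Nat.card_eq_one_iff_unique.mp hn).1
      exact hz1 (Subsingleton.elim z 1)
    have hdvd : 2 ∣ Nat.card P := by
      rw [hn]
      exact dvd_pow_self 2 hn0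
    obtain ⟨t, ht⟩ := exists_prime_orderOf_dvd_card' 2 hdvd
    have ht2 : t ^ 2 = 1 := by
      rw [← ht]
      exact pow_orderOf_eq_one t
    have ht1 : t ≠ 1 := by
      rintro rfl
      rw [orderOf_one] at ht
      omega
    rcases hinv t ht2 with h | h
    · exact absurd h ht1
    · rw [← h, ← pow_two]
      exact ht2
  -- `z` is central
  have hzc : ∀ g : P, g * z = z * g := by
    intro g
    have h2 : (g * z * g⁻¹) ^ 2 = 1 := by
      rw [pow_two]
      calc g * z * g⁻¹ * (g * z * g⁻¹) = g * (z * z) * g⁻¹ := by group
        _ = 1 := by rw [hz2]; group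
    rcases hinv _ h2 with h | h
    · exfalso
      apply hz1
      have h3 : z = g⁻¹ * (g * z * g⁻¹) * g := by group
      rw [h3, h]
      group
    · calc g * z = (g * z * g⁻¹) * g := by group
        _ = z * g := by rw [h]
  -- noncommuting elements commute up to `z`
  have hsw : ∀ a b : P, a * b ≠ b * a → a * b = z * (b * a) := by
    intro a b hab
    rcases hcomm a b with h | h
    · exfalso
      apply hab
      calc a * b = (a * b * a⁻¹ * b⁻¹) * (b * a) := by group
        _ = b * a := by rw [h, one_mul]
    · calc a * b = (a * b * a⁻¹ * b⁻¹) * (b * a) := by group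
        _ = z * (b * a) := by rw [h]
  have hyx : y * x = z * (x * y) := hsw y x (fun h => hxy h.symm)
  have hxy' : x * y = z * (y * x) := hsw x y hxy
  -- (A)
  have hA : ∀ g : P, g * x ≠ x * g → g * y * x = x * (g * y) := by
    intro g hg
    have h := hsw g x hg
    calc g * y * x = g * (y * x) := by rw [mul_assoc]
      _ = (g * z) * (x * y) := by rw [hyx, ← mul_assoc g z (x * y)]
      _ = z * ((g * x) * y) := by rw [hzc g]; simp only [mul_assoc]
      _ = (z * z) * (x * (g * y)) := by rw [h]; simp only [mul_assoc]
      _ = x * (g * y) := by rw [hz2, one_mul]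
  -- (C)
  have hCC : ∀ g : P, g * y ≠ y * g → g * x * y = y * (g * x) := by
    intro g hg
    have h := hsw g y hg
    calc g * x * y = g * (x * y) := by rw [mul_assoc]
      _ = (g * z) * (y * x) := by rw [hxy', ← mul_assoc g z (y * x)]
      _ = z * ((g * y) * x) := by rw [hzc g]; simp only [mul_assoc]
      _ = (z * z) * (y * (g * x)) := by rw [h]; simp only [mul_assoc]
      _ = y * (g * x) := by rw [hz2, one_mul]
  have hcent : ∀ c : P, c * x = x * c → c * y = y * c → c = 1 ∨ c = z :=
    hC P hP z hz1 hinv hcomm x y hxy
  have hsurj : Function.Surjective (f8 z x y) := by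
    intro g
    by_cases h1 : g * x = x * g
    · by_cases h2 : g * y = y * g
      · rcases hcent g h1 h2 with h | h
        · refine ⟨(false, false, false), ?_⟩
          show (1 : P) * 1 * 1 = g
          rw [h, mul_one, mul_one]
        · refine ⟨(true, false, false), ?_⟩
          show z * 1 * 1 = g
          rw [h, mul_one, mul_one]
      · have h3 : g * x * y = y * (g * x) := hCC g h2
        have h4 : g * x * x = x * (g * x) := by
          calc g * x * x = x * g * x := by rw [h1]
            _ = x * (g * x) := by rw [mul_assoc]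
        rcases hcent (g * x) h4 h3 with h | h
        · refine ⟨(false, true, false), ?_⟩
          show (1 : P) * x⁻¹ * 1 = g
          rw [one_mul, mul_one]
          exact (eq_inv_of_mul_eq_one_left h).symm
        · refine ⟨(true, true, false), ?_⟩
          show z * x⁻¹ * 1 = g
          rw [mul_one]
          exact (eq_mul_inv_of_mul_eq h).symm
    · have hAg : g * y * x = x * (g * y) := hA g h1
      by_cases h2 : g * y * y = y * (g * y)
      · rcases hcent (g * y) hAg h2 with h | h
        · refine ⟨(false, false, true), ?_⟩
          show (1 : P) * 1 * y⁻¹ = g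
          rw [one_mul, one_mul]
          exact (eq_inv_of_mul_eq_one_left h).symm
        · refine ⟨(true, false, true), ?_⟩
          show z * 1 * y⁻¹ = g
          rw [mul_one]
          exact (eq_mul_inv_of_mul_eq h).symm
      · have h3 : g * y * x * y = y * (g * y * x) := hCC (g * y) h2
        have h4 : g * y * x * x = x * (g * y * x) := by
          calc g * y * x * x = x * (g * y) * x := by rw [hAg]
            _ = x * (g * y * x) := by rw [mul_assoc]
        rcases hcent (g * y * x) h4 h3 with h | h
        · refine ⟨(false, true, true), ?_⟩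
          show (1 : P) * x⁻¹ * y⁻¹ = g
          rw [one_mul]
          have h5 : g * y = x⁻¹ := eq_inv_of_mul_eq_one_left h
          exact (eq_mul_inv_of_mul_eq h5).symm
        · refine ⟨(true, true, true), ?_⟩
          show z * x⁻¹ * y⁻¹ = g
          have h5 : g * y = z * x⁻¹ := eq_mul_inv_of_mul_eq h
          exact (eq_mul_inv_of_mul_eq h5).symm
  have hle : Nat.card P ≤ 8 := by
    have h8 : Nat.card (Bool × Bool × Bool) = 8 := by simp [Nat.card_eq_fintype_card]
    have h9 := Nat.card_le_card_of_surjective (f8 z x y) hsurj
    omega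
  have hn3 : 3 ≤ n := by
    by_contra hlt
    have hn2 : n = 0 ∨ n = 1 ∨ n = 2 := by omega
    rcases hn2 with rfl | rfl | rfl
    · rw [pow_zero] at hn
      have hsub : Subsingleton P := (Nat.card_eq_one_iff_unique.mp hn).1
      exact hxy (Subsingleton.elim _ _)
    · rw [pow_one] at hn
      haveI : IsCyclic P := isCyclic_of_prime_card (p := 2) hn
      exact hxy ((IsCyclic.commGroup (α := P)).mul_comm x y)
    · exact hxy (IsPGroup.commutative_of_card_eq_prime_sq (p := 2) hn x y)
  have hge : 2 ^ 3 ≤ 2 ^ n := Nat.pow_le_pow_right (by norm_num) hn3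
  omega

end Cfsg.Agent.Lib.Helper16.ACP2STRUCT
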