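import Mathlib
import Cfsg.Agent.Lib.Helper25.AICSpec
import Cfsg.Agent.Lib.Helper5.SL2Card
import Cfsg.Agent.S1230

/-!
Piece `Fin1` of S2202: if every element of `C_G(S)` has square one then `QProp G S`.
-/

set_option autoImplicit false

namespace Cfsg.Agent.Lib.Helper16.AICFin1

open Subgroup Cfsg.Agent.Lib.Helper25.AICSpec

universe u

theorem qm1_add_one {G : Type u} [Group G] [Finite G] (S : Sylow 2 G)
    (hsq : ∀ x : G, x ∈ S → x ^ 2 = 1) : qm1 S + 1 = Nat.card (S : Subgroup G) := by
  classical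
  unfold qm1
  have e : {t : G // t ∈ S ∧ orderOf t = 2} ≃ {b : (S : Subgroup G) // b ≠ 1} :=
    { toFun := fun t => ⟨⟨t.1, t.2.1⟩, by
        intro h
        have h1 : t.1 = 1 := congrArg Subtype.val h
        have h2 := t.2.2
        rw [h1, orderOf_one] at h2
        omega⟩
      invFun := fun b => ⟨b.1.1, b.1.2, by
        have h1 : (b.1.1 : G) ≠ 1 := fun h => b.2 (Subtype.ext h)
        exact orderOf_eq_prime (hsq _ b.1.2) h1⟩
      left_inv := fun t => rfl
      right_inv := fun b => rfl }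
  rw [Nat.card_congr e, ← Finite.card_option,
    Nat.card_congr (Equiv.optionSubtypeNe (1 : (S : Subgroup G)))]

theorem main : Fin1.{u} := by
  intro G _ _ S hH hL hsq
  have hthree := hL.three
  have hSsq : ∀ x : G, x ∈ S → x ^ 2 = 1 := fun x hx => hsq x (hL.l1.le hx)
  have hq1 := qm1_add_one S hSsq
  -- an involution of S
  have hpos : 0 < Nat.card {t : G // t ∈ S ∧ orderOf t = 2} := by
    have : qm1 S = Nat.card {t : G // t ∈ S ∧ orderOf t = 2} := rfl
    omega
  obtain ⟨⟨t0, ht0S, ht0⟩⟩ := (Nat.card_pos_iff.mp hpos).1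
  have hC : ∀ t : G, orderOf t = 2 →
      IsMulCommutative (Subgroup.centralizer ({t} : Set G)) ∧
        ∀ c ∈ Subgroup.centralizer ({t} : Set G), c ^ 2 = 1 := by
    intro t ht
    obtain ⟨g, hg⟩ := hL.l2.conj t0 t ht0 ht
    have key : ∀ c ∈ centralizer ({t} : Set G), g * c * g⁻¹ ∈ CS S := by
      intro c hc
      rw [← hL.l1.cent t0 ht0S ht0, mem_centralizer_singleton_iff]
      rw [mem_centralizer_singleton_iff] at hc
      have ht0' : t0 = g * t * g⁻¹ := by rw [← hg]; group
      rw [ht0']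
      calc g * c * g⁻¹ * (g * t * g⁻¹) = g * (c * t) * g⁻¹ := by group
        _ = g * (t * c) * g⁻¹ := by rw [hc]
        _ = g * t * g⁻¹ * (g * c * g⁻¹) := by group
    refine ⟨⟨⟨fun a b => ?_⟩⟩, fun c hc => ?_⟩
    · apply Subtype.ext
      have h1 := hL.l1.comm _ _ (key a.1 a.2) (key b.1 b.2)
      have h2 : g * (a.1 * b.1) * g⁻¹ = g * (b.1 * a.1) * g⁻¹ := by
        calc g * (a.1 * b.1) * g⁻¹ = g * a.1 * g⁻¹ * (g * b.1 * g⁻¹) := by group
          _ = g * b.1 * g⁻¹ * (g * a.1 * g⁻¹) := h1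
          _ = g * (b.1 * a.1) * g⁻¹ := by group
      have h3 : g * (a.1 * b.1) = g * (b.1 * a.1) := mul_right_cancel h2
      exact mul_left_cancel h3
    · have h1 := hsq _ (key c hc)
      have h2 : (g * c * g⁻¹) ^ 2 = g * c ^ 2 * g⁻¹ := by
        rw [sq, sq]; group
      rw [h2] at h1
      have h3 : c ^ 2 = g⁻¹ * (g * c ^ 2 * g⁻¹) * g := by group
      rw [h3, h1]; group
  obtain ⟨F, instF, instFt, hcard, ⟨e⟩⟩ := Cfsg.Agent.S1230.result S hH.2.1 hH.2.2 hC
  refine ⟨?_, hSsq, ?_⟩
  · intro a ha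
    have h1 : a ^ 2 = 1 := hsq a ha.1
    have h2 : orderOf a ∣ 2 := orderOf_dvd_of_pow_eq_one h1
    have h3 : orderOf a = 1 := by
      rcases (Nat.dvd_prime Nat.prime_two).mp h2 with h | h
      · exact h
      · exfalso
        have := ha.2
        rw [h] at this
        exact absurd this (by decide)
    rw [orderOf_eq_one_iff.mp h3]
    exact Subgroup.one_mem _
  · -- the count
    have hCS : CS S = (S : Subgroup G) := by
      apply le_antisymm
      · intro c hc
        have h1 : c ^ 2 = 1 := hsq c hc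
        have h2 : orderOf c ∣ 2 := orderOf_dvd_of_pow_eq_one h1
        apply hL.l1.two c hc
        rcases (Nat.dvd_prime Nat.prime_two).mp h2 with h | h
        · exact ⟨0, by rw [h, pow_zero]⟩
        · exact ⟨1, by rw [h, pow_one]⟩
      · exact hL.l1.le
    have hcardN := hL.cardN
    rw [hCS] at hcardN
    have hidx : Nat.card (Sylow 2 G) = (NS S).index := Sylow.card_eq_index_normalizer S
    have hmul : Nat.card (NS S) * (NS S).index = Nat.card G := Subgroup.card_mul_index (NS S)
    have hG : Nat.card G = Nat.card (Matrix.ProjectiveSpecialLinearGroup (Fin 2) F) :=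
      Nat.card_congr e.toEquiv
    have hq : Fintype.card F = Nat.card (S : Subgroup G) := hcard
    have hpsl := Cfsg.Agent.Lib.Helper5.SL2Card.card_PSL_two (F := F) hq
    obtain ⟨k, hk⟩ := IsPGroup.iff_card.mp S.isPGroup'
    have hk' : Nat.card (S : Subgroup G) = 2 ^ k := hk
    have hkpos : k ≠ 0 := by
      intro h0
      rw [h0, pow_zero] at hk'
      omega
    have hgcd : Nat.gcd 2 (Nat.card (S : Subgroup G) - 1) = 1 := by
      have heven : 2 ∣ Nat.card (S : Subgroup G) := by
        rw [hk']; exact dvd_pow_self 2 hkpos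
      have hodd : ¬ 2 ∣ (Nat.card (S : Subgroup G) - 1) := by omega
      exact (Nat.Prime.coprime_iff_not_dvd Nat.prime_two).mpr hodd
    rw [hgcd, mul_one] at hpsl
    rw [hidx]
    have hq4 : 4 ≤ Nat.card (S : Subgroup G) := by omega
    have hqm : qm1 S = Nat.card (S : Subgroup G) - 1 := by omega
    rw [hcardN, hqm, hG, hpsl] at hmul
    have hfac : Nat.card (S : Subgroup G) * (Nat.card (S : Subgroup G) ^ 2 - 1) =
        Nat.card (S : Subgroup G) * (Nat.card (S : Subgroup G) - 1) *
          (Nat.card (S : Subgroup G) + 1) := by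
      have h1 : Nat.card (S : Subgroup G) ^ 2 - 1 =
          (Nat.card (S : Subgroup G) - 1) * (Nat.card (S : Subgroup G) + 1) := by
        obtain ⟨m, hm⟩ : ∃ m, Nat.card (S : Subgroup G) = m + 1 := ⟨_, (Nat.succ_pred_eq_of_pos (by omega)).symm⟩
        rw [hm]
        simp only [Nat.add_sub_cancel]
        have : (m + 1) ^ 2 = m * (m + 1 + 1) + 1 := by ring
        rw [this, Nat.add_sub_cancel]
      rw [h1, mul_assoc]
    rw [hfac] at hmul
    have hpos' : 0 < Nat.card (S : Subgroup G) * (Nat.card (S : Subgroup G) - 1) := by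
      apply Nat.mul_pos <;> omega
    exact Nat.eq_of_mul_eq_mul_left hpos' hmul

end Cfsg.Agent.Lib.Helper16.AICFin1
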