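import Mathlib
import Cfsg.Agent.Lib.Helper25.AICSpec
import Cfsg.Agent.S1230

/-!
Piece `Fin2a` of S2202: `G / Z(G)` is `PSL₂(F)` with `|F| = |S|`, and `Z(G)` has odd order.
-/

set_option autoImplicit false

namespace Cfsg.Agent.Lib.Helper16.AICFin2a

open Subgroup Cfsg.Agent.Lib.Helper25.AICSpec

universe u

theorem sq_mem_center {G : Type u} [Group G] [Finite G] (S : Sylow 2 G) (hL : Local G S)
    (hQ : QProp G S) (c : G) (hc : c ∈ CS S) : c ^ 2 ∈ center G := by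
  obtain ⟨k, m, hm, hn⟩ := Nat.exists_eq_two_pow_mul_odd (orderOf_pos c).ne'
  have h1 : (c ^ m) ^ (2 ^ k) = 1 := by
    rw [← pow_mul, mul_comm, ← hn, pow_orderOf_eq_one]
  have h2 : orderOf (c ^ m) ∣ 2 ^ k := orderOf_dvd_of_pow_eq_one h1
  obtain ⟨j, -, hj⟩ := (Nat.dvd_prime_pow Nat.prime_two).mp h2
  have h3 : c ^ m ∈ S := hL.l1.two (c ^ m) (pow_mem hc m) ⟨j, hj⟩
  have h4 : (c ^ m) ^ 2 = 1 := hQ.2.1 _ h3
  have h5 : (c ^ 2) ^ m = 1 := by
    rw [← pow_mul, mul_comm, pow_mul, h4]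
  have h6 : orderOf (c ^ 2) ∣ m := orderOf_dvd_of_pow_eq_one h5
  exact hQ.1 (c ^ 2) ⟨pow_mem hc 2, Odd.of_dvd_nat hm h6⟩

theorem main (hLoc : LocalProp.{u}) (hA : QuotA.{u}) (hB : QuotB.{u}) (hC : QuotC.{u}) :
    Fin2a.{u} := by
  intro G _ _ S hH hL hQ
  have hZle : center G ≤ NS S := by
    intro z hz
    unfold NS
    rw [mem_normalizer_iff]
    intro h
    have : z * h * z⁻¹ = h := by
      rw [mem_center_iff] at hz
      rw [← hz h, mul_inv_cancel_right]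
    rw [this]
  have hZcore : center G ≤ (NS S).normalCore :=
    (Subgroup.normal_le_normalCore (H := NS S) (N := center G)).mpr hZle
  have hodd : Odd (Nat.card (center G)) :=
    Odd.of_dvd_nat hL.l5.core_odd (Subgroup.card_dvd_of_le hZcore)
  refine ⟨hodd, ?_⟩
  obtain ⟨T, hTeq, hTnc, hTnn, hTcard, -⟩ := hA G S hH.2.1 hH.2.2 (center G) le_rfl hodd
  have hAIC : AIC (G ⧸ center G) := hB G hH.1 (center G) le_rfl hodd
  have hHT : Hyp (G ⧸ center G) T := ⟨hAIC, hTnc, hTnn⟩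
  have hLT : Local (G ⧸ center G) T := hLoc (G ⧸ center G) T hHT
  have hsq : ∀ x : G ⧸ center G, x ∈ CS T → x ^ 2 = 1 := by
    intro x hx
    obtain ⟨c, hc, hcx⟩ := hC G S (center G) le_rfl hodd T hTeq x hx
    rw [← hcx, ← map_pow]
    exact (QuotientGroup.eq_one_iff _).mpr (sq_mem_center S hL hQ c hc)
  have hthree := hLT.three
  have hpos : 0 < Nat.card {t : G ⧸ center G // t ∈ T ∧ orderOf t = 2} := by
    have : qm1 T = Nat.card {t : G ⧸ center G // t ∈ T ∧ orderOf t = 2} := rfl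
    omega
  obtain ⟨⟨t0, ht0S, ht0⟩⟩ := (Nat.card_pos_iff.mp hpos).1
  have hCC : ∀ t : G ⧸ center G, orderOf t = 2 →
      IsMulCommutative (Subgroup.centralizer ({t} : Set (G ⧸ center G))) ∧
        ∀ c ∈ Subgroup.centralizer ({t} : Set (G ⧸ center G)), c ^ 2 = 1 := by
    intro t ht
    obtain ⟨g, hg⟩ := hLT.l2.conj t0 t ht0 ht
    have key : ∀ c ∈ centralizer ({t} : Set (G ⧸ center G)), g * c * g⁻¹ ∈ CS T := by
      intro c hc
      rw [← hLT.l1.cent t0 ht0S ht0, mem_centralizer_singleton_iff]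
      rw [mem_centralizer_singleton_iff] at hc
      have ht0' : t0 = g * t * g⁻¹ := by rw [← hg]; group
      rw [ht0']
      calc g * c * g⁻¹ * (g * t * g⁻¹) = g * (c * t) * g⁻¹ := by group
        _ = g * (t * c) * g⁻¹ := by rw [hc]
        _ = g * t * g⁻¹ * (g * c * g⁻¹) := by group
    refine ⟨⟨⟨fun a b => ?_⟩⟩, fun c hc => ?_⟩
    · apply Subtype.ext
      have h1 := hLT.l1.comm _ _ (key a.1 a.2) (key b.1 b.2)
      have h2 : g * (a.1 * b.1) * g⁻¹ = g * (b.1 * a.1) * g⁻¹ := by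
        calc g * (a.1 * b.1) * g⁻¹ = g * a.1 * g⁻¹ * (g * b.1 * g⁻¹) := by group
          _ = g * b.1 * g⁻¹ * (g * a.1 * g⁻¹) := h1
          _ = g * (b.1 * a.1) * g⁻¹ := by group
      have h3 : g * (a.1 * b.1) = g * (b.1 * a.1) := mul_right_cancel h2
      exact mul_left_cancel h3
    · have h1 := hsq _ (key c hc)
      have h2 : (g * c * g⁻¹) ^ 2 = g * c ^ 2 * g⁻¹ := by
        rw [sq, sq]; group
      rw [h2] at h1
      have h3 : c ^ 2 = g⁻¹ * (g * c ^ 2 * g⁻¹) * g := by group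
      rw [h3, h1]; group
  obtain ⟨F, instF, instFt, hcard, he⟩ := Cfsg.Agent.S1230.result T hTnc hTnn hCC
  exact ⟨F, instF, instFt, hcard.trans hTcard, he⟩

end Cfsg.Agent.Lib.Helper16.AICFin2a
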