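import Mathlib
import Cfsg.Agent.Lib.Helper25.ACStmt
import Cfsg.Agent.Lib.Helper25.ACOddStmt

set_option autoImplicit false

/-!
# S3911 / CYCSTEP (third seat, short route)

`P` a `p`-group, all proper subgroups cyclic: all commutators have `p`-th power `1`.
If `P` is not cyclic it has two distinct normal subgroups `M₁ ≠ M₂` of index `p`; both are
cyclic, so `M₁ ⊓ M₂` is central (`M₁ ⊔ M₂ = ⊤`); commutators and `p`-th powers lie in
`M₁ ⊓ M₂`; `a ^ n * b = c ^ n * b * a ^ n` for `c = a b a⁻¹ b⁻¹` gives `c ^ p = 1`.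
-/

namespace Cfsg.Agent.Lib.Helper16.AOCYCSTEP

open Cfsg.Agent.Lib.Helper25.ACStmt Cfsg.Agent.Lib.Helper25.ACOddStmt

universe u

/-- a proper subgroup of a finite `p`-group lies in a normal subgroup of index `p` -/
theorem exists_max {P : Type u} [Group P] [Finite P] (p : ℕ) [Fact p.Prime] (hP : IsPGroup p P)
    (H : Subgroup P) (hH : H ≠ ⊤) :
    ∃ K : Subgroup P, H ≤ K ∧ K.Normal ∧ K.index = p := by
  have hp := (Fact.out : p.Prime)
  obtain ⟨k, hk⟩ := IsPGroup.iff_card.mp hP
  obtain ⟨n, hn⟩ := IsPGroup.iff_card.mp (hP.to_subgroup H)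
  have hnk : n < k := by
    have h1 : Nat.card ↥H < Nat.card P := by
      by_contra hcon
      push_neg at hcon
      exact hH (Subgroup.eq_top_of_le_card H hcon)
    rw [hk, hn] at h1
    exact (Nat.pow_lt_pow_iff_right hp.one_lt).mp h1
  obtain ⟨K, hKc, hHK⟩ := Sylow.exists_subgroup_card_pow_prime_le p (m := k - 1) (n := n)
    (by rw [hk]; exact pow_dvd_pow p (by omega)) H hn (by omega)
  have hidx : K.index = p := by
    have h1 := K.card_mul_index
    rw [hKc, hk] at h1
    have h2 : p ^ k = p ^ (k - 1) * p := by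
      rw [← pow_succ]; congr 1; omega
    rw [h2] at h1
    exact Nat.eq_of_mul_eq_mul_left (pow_pos hp.pos _) h1
  refine ⟨K, hHK, ?_, hidx⟩
  apply Subgroup.normal_of_index_eq_minFac_card
  rw [hidx, hk, Nat.pow_minFac (by omega), hp.minFac_eq]

/-- two elements of a cyclic subgroup commute -/
theorem comm_of_cyc {P : Type u} [Group P] (H : Subgroup P) (hH : IsCyclic ↥H) {a b : P}
    (ha : a ∈ H) (hb : b ∈ H) : a * b = b * a := by
  haveI := hH
  obtain ⟨g, hg⟩ := IsCyclic.exists_generator (α := ↥H)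
  obtain ⟨i, hi⟩ := Subgroup.mem_zpowers_iff.mp (hg ⟨a, ha⟩)
  obtain ⟨j, hj⟩ := Subgroup.mem_zpowers_iff.mp (hg ⟨b, hb⟩)
  have h := zpow_mul_comm g i j
  rw [hi, hj] at h
  exact congrArg Subtype.val h

/-- commutators lie in a normal subgroup of prime index -/
theorem comm_mem {P : Type u} [Group P] [Finite P] (p : ℕ) [Fact p.Prime] (M : Subgroup P)
    [M.Normal] (hM : M.index = p) (a b : P) : a * b * a⁻¹ * b⁻¹ ∈ M := by
  have hcard : Nat.card (P ⧸ M) = p := hM
  haveI : IsCyclic (P ⧸ M) := isCyclic_of_prime_card hcard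
  rw [← QuotientGroup.eq_one_iff]
  obtain ⟨g, hg⟩ := IsCyclic.exists_generator (α := P ⧸ M)
  obtain ⟨i, hi⟩ := Subgroup.mem_zpowers_iff.mp (hg (a : P ⧸ M))
  obtain ⟨j, hj⟩ := Subgroup.mem_zpowers_iff.mp (hg (b : P ⧸ M))
  have h := zpow_mul_comm g i j
  rw [hi, hj] at h
  rw [QuotientGroup.mk_mul, QuotientGroup.mk_mul, QuotientGroup.mk_mul, QuotientGroup.mk_inv,
    QuotientGroup.mk_inv, h]
  group

/-- `p`-th powers lie in a normal subgroup of index `p` -/
theorem pow_mem_idx {P : Type u} [Group P] [Finite P] (p : ℕ) (M : Subgroup P)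
    [M.Normal] (hM : M.index = p) (a : P) : a ^ p ∈ M := by
  have hcard : Nat.card (P ⧸ M) = p := hM
  have h := pow_card_eq_one' (G := P ⧸ M) (x := (a : P ⧸ M))
  rw [hcard] at h
  rw [← QuotientGroup.eq_one_iff, QuotientGroup.mk_pow]
  exact h

/-- the power identity -/
theorem key {P : Type u} [Group P] (a b c : P) (hc : ∀ g : P, g * c = c * g)
    (hab : a * b = c * b * a) (n : ℕ) : a ^ n * b = c ^ n * b * a ^ n := by
  induction n with
  | zero => simp
  | succ n ih =>
    have h3 : a * c ^ n = c ^ n * a := (Commute.pow_right (show Commute a c from hc a) n).eq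
    calc a ^ (n + 1) * b = a * (a ^ n * b) := by rw [pow_succ']; group
      _ = a * (c ^ n * b * a ^ n) := by rw [ih]
      _ = (a * c ^ n) * b * a ^ n := by group
      _ = (c ^ n * a) * b * a ^ n := by rw [h3]
      _ = c ^ n * (a * b) * a ^ n := by group
      _ = c ^ n * (c * b * a) * a ^ n := by rw [hab]
      _ = c ^ (n + 1) * b * a ^ (n + 1) := by rw [pow_succ, pow_succ']; group

theorem main : CycStep.{u} := by
  intro P _ _ p _ _ hP N _ hNall hcyc a b
  have hp := (Fact.out : p.Prime)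
  by_cases hPc : IsCyclic P
  · have hc : a * b = b * a := by
      have hPc' : IsCyclic ↥(⊤ : Subgroup P) := by
        haveI := hPc
        infer_instance
      exact comm_of_cyc ⊤ hPc' (Subgroup.mem_top a) (Subgroup.mem_top b)
    have h1 : a * b * a⁻¹ * b⁻¹ = 1 := by rw [hc]; group
    rw [h1]; exact N.one_mem
  · have hz : ∀ x : P, Subgroup.zpowers x ≠ ⊤ := fun x h =>
      hPc (isCyclic_iff_exists_zpowers_eq_top.mpr ⟨x, h⟩)
    have hbot : (⊥ : Subgroup P) ≠ ⊤ := by
      rw [← Subgroup.zpowers_one_eq_bot]; exact hz 1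
    obtain ⟨M₁, -, hM₁n, hM₁i⟩ := exists_max p hP ⊥ hbot
    have hM₁top : M₁ ≠ ⊤ := by
      intro h
      rw [h, Subgroup.index_top] at hM₁i
      exact hp.one_lt.ne hM₁i
    obtain ⟨x, hx⟩ : ∃ x, x ∉ M₁ := by
      by_contra hcon
      push_neg at hcon
      exact hM₁top (eq_top_iff.mpr fun y _ => hcon y)
    obtain ⟨M₂, hxM₂, hM₂n, hM₂i⟩ := exists_max p hP (Subgroup.zpowers x) (hz x)
    have hM₂top : M₂ ≠ ⊤ := by
      intro h
      rw [h, Subgroup.index_top] at hM₂i
      exact hp.one_lt.ne hM₂i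
    have hx2 : x ∈ M₂ := hxM₂ (Subgroup.mem_zpowers x)
    have hjoin : M₁ ⊔ M₂ = ⊤ := by
      by_contra hne
      have hdvd : (M₁ ⊔ M₂).index ∣ M₁.index := Subgroup.index_dvd_of_le le_sup_left
      rw [hM₁i] at hdvd
      rcases (Nat.dvd_prime hp).mp hdvd with h1 | h1
      · exact hne (Subgroup.index_eq_one.mp h1)
      · have heq : M₁ = M₁ ⊔ M₂ := by
          apply Subgroup.eq_of_le_of_card_ge le_sup_left
          have e1 := M₁.card_mul_index
          have e2 := (M₁ ⊔ M₂).card_mul_index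
          rw [hM₁i] at e1
          rw [h1] at e2
          have e3 : Nat.card ↥(M₁ ⊔ M₂) * p = Nat.card ↥M₁ * p := by rw [e1, e2]
          exact (Nat.eq_of_mul_eq_mul_right hp.pos e3).le
        apply hx
        rw [heq]
        exact (le_sup_right : M₂ ≤ M₁ ⊔ M₂) hx2
    have hDc : ∀ d, d ∈ M₁ → d ∈ M₂ → ∀ g : P, g * d = d * g := by
      intro d hd1 hd2 g
      have hg : g ∈ M₁ ⊔ M₂ := by rw [hjoin]; trivial
      have hle : M₁ ⊔ M₂ ≤ Subgroup.centralizer {d} := by
        apply sup_le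
        · intro m hm
          rw [Subgroup.mem_centralizer_iff]
          intro y hy
          rw [Set.mem_singleton_iff] at hy
          subst hy
          exact comm_of_cyc M₁ (hcyc M₁ hM₁top) hd1 hm
        · intro m hm
          rw [Subgroup.mem_centralizer_iff]
          intro y hy
          rw [Set.mem_singleton_iff] at hy
          subst hy
          exact comm_of_cyc M₂ (hcyc M₂ hM₂top) hd2 hm
      have h1 := hle hg
      rw [Subgroup.mem_centralizer_iff] at h1
      exact (h1 d (Set.mem_singleton d)).symm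
    haveI := hM₁n
    haveI := hM₂n
    have hcc : ∀ g : P, g * (a * b * a⁻¹ * b⁻¹) = (a * b * a⁻¹ * b⁻¹) * g :=
      hDc _ (comm_mem p M₁ hM₁i a b) (comm_mem p M₂ hM₂i a b)
    have hap : ∀ g : P, g * a ^ p = a ^ p * g :=
      hDc _ (pow_mem_idx p M₁ hM₁i a) (pow_mem_idx p M₂ hM₂i a)
    have hab : a * b = (a * b * a⁻¹ * b⁻¹) * b * a := by group
    have h5 := key a b (a * b * a⁻¹ * b⁻¹) hcc hab p
    have h6 : (a * b * a⁻¹ * b⁻¹) ^ p = 1 := by
      have h7 : (a * b * a⁻¹ * b⁻¹) ^ p * (b * a ^ p) = 1 * (b * a ^ p) := by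
        rw [one_mul, ← mul_assoc, ← h5, hap b]
      exact mul_right_cancel h7
    by_cases hc0 : a * b * a⁻¹ * b⁻¹ = 1
    · rw [hc0]; exact N.one_mem
    · exact hNall _ (orderOf_eq_prime h6 hc0)

end Cfsg.Agent.Lib.Helper16.AOCYCSTEP
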