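import Mathlib
import Cfsg.Agent.Lib.Helper16.BRStmt
import Cfsg.Agent.S4441
import Cfsg.Agent.Lib.CT.Knorr
import Cfsg.Agent.Lib.CT.LinChar
import Cfsg.Agent.Lib.CT.Wedderburn
import Cfsg.Agent.Lib.CT.Ops

/-!
# Brauer–Reynolds (`|G| < p³`): the table and the core theorem from the pieces
-/

set_option autoImplicit false

namespace Cfsg.Agent.Lib.Helper16.BRCore

open Cfsg Cfsg.Agent.Lib.CT.ThirdMain Cfsg.Agent.Lib.Helper16.BRSpec
  Cfsg.Agent.Lib.Helper16.BRStmt
open scoped ComplexConjugate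

universe u
variable {G : Type u} [Group G]

theorem finsum_mem_const_ncard {α : Type*} (S : Set α) (hS : S.Finite) (F : α → ℂ) (c : ℂ)
    (h : ∀ x ∈ S, F x = c) : ∑ᶠ x ∈ S, F x = (S.ncard : ℂ) * c := by
  rw [finsum_mem_eq_finite_toFinset_sum F hS, Set.ncard_eq_toFinset_card S hS]
  rw [Finset.sum_congr rfl (fun x hx => h x ((Set.Finite.mem_toFinset hS).1 hx))]
  simp

theorem eq_triv_of_degree_one (hperf : commutator G = ⊤) (χ : IrrCharacter G)
    (h1 : charDegree (χ : G → ℂ) = 1) : χ = triv G := by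
  have hχ : IsCharacter G (χ : G → ℂ) := Cfsg.Agent.Lib.CT.Ops.IsIrrCharacter.isCharacter χ.2
  have h1' : (χ : G → ℂ) 1 = 1 := by
    rw [← Cfsg.Agent.Lib.CT.Wedderburn.char_natCast_charDegree hχ, h1]; simp
  obtain ⟨f, hf⟩ := Cfsg.Agent.Lib.CT.LinChar.exists_hom_of_isCharacter (χ : G → ℂ) hχ h1'
  have hker : f.ker = ⊤ := by
    have h := Abelianization.commutator_subset_ker f
    rw [hperf] at h
    exact top_le_iff.1 h
  apply Subtype.ext
  rw [coe_triv]
  funext g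
  rw [hf g]
  have hg : g ∈ f.ker := by rw [hker]; trivial
  rw [MonoidHom.mem_ker] at hg
  simp [hg]

theorem not_dvd_orderOf_one {p : ℕ} (hp : p.Prime) : ¬ p ∣ orderOf (1 : G) := by
  rw [orderOf_one, Nat.dvd_one]
  exact hp.ne_one

/-- The table of the principal block, from the pieces. -/
theorem exists_tab (hLoc : Loc.{u}) (hDeg : DegDvd.{u}) (hDegSum : DegDvdSum.{u})
    (hArA : ArithA) (hArB : ArithB) (hArC : ArithCase) (hYa : YaSum.{u}) (hCent : CentEq.{u})
    (hYV : YValues.{u}) (hT1 : TNeOne.{u})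
    [Finite G] (hperf : commutator G = ⊤) (p : ℕ) [Fact p.Prime] (P : Sylow p G)
    (hP : Nat.card (P : Subgroup G) = p) (hO : pPrimeCore p G = ⊥)
    (hbig : Nat.card G < p ^ 3) :
    ∃ (e t n a b : ℕ) (δ : ℤ) (f : ℕ) (A B Y : Set (IrrCharacter G)),
      Tab p P e t n a b δ f A B Y := by
  classical
  have hp : p.Prime := Fact.out
  obtain ⟨hp3, hPnn, he2, hedvd, n, hn1, hNidx⟩ := hLoc G hperf p P hP
  obtain ⟨e, he⟩ : ∃ e, (Subgroup.centralizer ((P : Subgroup G) : Set G)).relIndex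
      (Subgroup.normalizer ((P : Subgroup G) : Set G)) = e := ⟨_, rfl⟩
  rw [he] at he2 hedvd
  have hep1 : e ≠ p - 1 := fun h => hT1 G hperf p hp3 P hP hbig (he.trans h)
  obtain ⟨t, ht⟩ := hedvd
  have hpe : p = e * t + 1 := by omega
  have ht2 : 2 ≤ t := by
    rcases Nat.lt_or_ge t 2 with h | h
    · interval_cases t
      · omega
      · exfalso; apply hep1; omega
    · exact h
  have h2e : 2 * e + 1 ≤ p := by
    have := Nat.mul_le_mul_left e ht2
    omega
  -- sizes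
  have hCN : Subgroup.centralizer ((P : Subgroup G) : Set G) ≤
      Subgroup.normalizer ((P : Subgroup G) : Set G) := Subgroup.centralizer_le_normalizer _
  have hPC : (P : Subgroup G) ≤ Subgroup.centralizer ((P : Subgroup G) : Set G) := by
    haveI : IsCyclic (P : Subgroup G) := isCyclic_of_prime_card hP
    intro x hx
    rw [Subgroup.mem_centralizer_iff]
    intro y hy
    have h := (IsCyclic.commGroup (α := (P : Subgroup G))).mul_comm ⟨y, hy⟩ ⟨x, hx⟩
    exact congrArg Subtype.val h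
  have hCidx : (Subgroup.centralizer ((P : Subgroup G) : Set G)).index = e * (1 + n * p) := by
    rw [← Subgroup.relIndex_mul_index hCN, he, hNidx]
  have hCcard : p ≤ Nat.card (Subgroup.centralizer ((P : Subgroup G) : Set G)) := by
    have h := Subgroup.card_dvd_of_le hPC
    rw [hP] at h
    exact Nat.le_of_dvd Nat.card_pos h
  have hGC := Subgroup.card_mul_index (Subgroup.centralizer ((P : Subgroup G) : Set G))
  rw [hCidx] at hGC
  have hlt : e * (1 + n * p) < p ^ 2 := by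
    by_contra hcon
    push_neg at hcon
    have h1 : p * p ^ 2 ≤ Nat.card (Subgroup.centralizer ((P : Subgroup G) : Set G)) *
        (e * (1 + n * p)) := Nat.mul_le_mul hCcard hcon
    rw [hGC] at h1
    have h2 : p * p ^ 2 = p ^ 3 := by ring
    omega
  -- the block data
  haveI : Fintype G := Fintype.ofFinite G
  haveI : Finite (IrrCharacter G) := Cfsg.Agent.Lib.CT.Wedderburn.finite_irrCharacter G
  obtain ⟨M, hM⟩ := Cfsg.Agent.Lib.CT.Knorr.exists_isPModular p hp
  have hMp : M.IsPrime := hM.2.1.isPrime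
  obtain ⟨X, Y, hB0, hXY, hXc, hYc, εX, ε, hX, hε, hYd, hYr, hrel⟩ :=
    Cfsg.Agent.S4441.result p M hM (by omega) P hP e he
  rw [Nat.card_coe_set_eq] at hXc hYc
  have hYt : Y.ncard = t := by
    rw [hYc, ht]
    exact Nat.mul_div_cancel_left t (by omega)
  have h1reg : ¬ p ∣ orderOf (1 : G) := not_dvd_orderOf_one hp
  obtain ⟨z₀, hz₀, hz₀1⟩ : ∃ z ∈ (P : Subgroup G), z ≠ 1 := by
    by_contra hcon
    push_neg at hcon
    have hbot : (P : Subgroup G) = ⊥ := (Subgroup.eq_bot_iff_forall _).2 hcon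
    rw [hbot, Subgroup.card_bot] at hP
    omega
  have hXval : ∀ χ ∈ X, ∀ z ∈ (P : Subgroup G), z ≠ 1 → (χ : G → ℂ) z = (εX χ : ℂ) := by
    intro χ hχ z hz hz1
    have h := (hX χ hχ).2.2 z hz hz1 1 (Subgroup.one_mem _) h1reg
    rwa [mul_one] at h
  have htY : triv G ∉ Y := by
    intro h
    have h1 := hYd _ h
    have htd : charDegree ((triv G : IrrCharacter G) : G → ℂ) = 1 :=
      Cfsg.Agent.Lib.CT.Wedderburn.charDegree_eq_of_apply_one (n := 1) (by rw [coe_triv]; simp)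
    rw [htd] at h1
    rcases hε with rfl | rfl
    · have hd : (p : ℤ) ∣ ((e - 1 : ℕ) : ℤ) := by
        have h2 := h1.dvd
        rw [Nat.cast_sub (by omega)]
        simpa using h2
      have h3 := Nat.le_of_dvd (by omega) (Int.natCast_dvd_natCast.1 hd)
      omega
    · have hd : (p : ℤ) ∣ ((e + 1 : ℕ) : ℤ) := by
        have h2 := h1.dvd
        have h3 : ((e + 1 : ℕ) : ℤ) = -(-1 * (e : ℤ) - ((1 : ℕ) : ℤ)) := by push_cast; ring
        rw [h3]
        exact (dvd_neg).2 h2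
      have h3 := Nat.le_of_dvd (by omega) (Int.natCast_dvd_natCast.1 hd)
      omega
  have htX : triv G ∈ X := by
    have h : triv G ∈ X ∪ Y := hB0 ▸ triv_mem_principalBlock hMp
    rcases h with h | h
    · exact h
    · exact absurd h htY
  have hεt : εX (triv G) = 1 := by
    have h := hXval _ htX z₀ hz₀ hz₀1
    rw [coe_triv] at h
    have h2 : ((1 : ℤ) : ℂ) = (εX (triv G) : ℂ) := by simpa using h
    exact (Int.cast_injective h2).symm
  obtain ⟨A, hAmem⟩ : ∃ A : Set (IrrCharacter G),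
      ∀ χ, χ ∈ A ↔ (χ ∈ X ∧ χ ≠ triv G ∧ εX χ = 1) :=
    ⟨{χ | χ ∈ X ∧ χ ≠ triv G ∧ εX χ = 1}, fun χ => Iff.rfl⟩
  obtain ⟨B, hBmem⟩ : ∃ B : Set (IrrCharacter G), ∀ χ, χ ∈ B ↔ (χ ∈ X ∧ εX χ = -1) :=
    ⟨{χ | χ ∈ X ∧ εX χ = -1}, fun χ => Iff.rfl⟩
  have hAX : A ⊆ X := fun χ h => ((hAmem χ).1 h).1
  have hBX : B ⊆ X := fun χ h => ((hBmem χ).1 h).1
  have hABd : Disjoint A B := by
    rw [Set.disjoint_left]
    intro χ hA hB
    have h1 := ((hAmem χ).1 hA).2.2
    have h2 := ((hBmem χ).1 hB).2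
    omega
  have htA : triv G ∉ A := fun h => ((hAmem _).1 h).2.1 rfl
  have htB : triv G ∉ B := fun h => by
    have h2 := ((hBmem _).1 h).2
    omega
  have hXeq : X = {triv G} ∪ (A ∪ B) := by
    ext χ
    constructor
    · intro h
      by_cases hχ : χ = triv G
      · left; exact hχ
      · right
        rcases (hX χ h).1 with h1 | h1
        · left; exact (hAmem χ).2 ⟨h, hχ, h1⟩
        · right; exact (hBmem χ).2 ⟨h, h1⟩
    · rintro (h | h | h)
      · rw [Set.mem_singleton_iff] at h; rw [h]; exact htX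
      · exact hAX h
      · exact hBX h
  have hdis1 : Disjoint ({triv G} : Set (IrrCharacter G)) (A ∪ B) := by
    rw [Set.disjoint_singleton_left]
    rintro (h | h)
    · exact htA h
    · exact htB h
  have hAfin : A.Finite := Set.toFinite A
  have hBfin : B.Finite := Set.toFinite B
  have hab : A.ncard + B.ncard + 1 = e := by
    rw [← hXc, hXeq, Set.ncard_union_eq hdis1 (Set.finite_singleton _) (hAfin.union hBfin),
      Set.ncard_singleton, Set.ncard_union_eq hABd hAfin hBfin]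
    omega
  -- degrees
  have hchar : ∀ χ : IrrCharacter G, (χ : G → ℂ) 1 = (charDegree (χ : G → ℂ) : ℂ) := fun χ =>
    (Cfsg.Agent.Lib.CT.Wedderburn.char_natCast_charDegree
      (Cfsg.Agent.Lib.CT.Ops.IsIrrCharacter.isCharacter χ.2)).symm
  have hAdeg : ∀ χ ∈ A, charDegree (χ : G → ℂ) = 1 + n * p := by
    intro χ hχ
    obtain ⟨hχX, hχt, hχε⟩ := (hAmem χ).1 hχ
    have hdvd : charDegree (χ : G → ℂ) ∣ e * (1 + n * p) := by
      have h := hDeg G p P hP χ (εX χ) (hX χ hχX).1 z₀ hz₀ hz₀1 (hXval χ hχX z₀ hz₀ hz₀1)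
      rwa [hCidx] at h
    have hmod : charDegree (χ : G → ℂ) % p = 1 := by
      have h1 := (hX χ hχX).2.1
      rw [hχε] at h1
      have h2 : (charDegree (χ : G → ℂ) : ℤ) ≡ ((1 : ℕ) : ℤ) [ZMOD (p : ℤ)] := by
        simpa using h1
      have h3 := Int.natCast_modEq_iff.1 h2
      rw [Nat.ModEq, Nat.mod_eq_of_lt hp.one_lt] at h3
      exact h3
    exact hArA p e n _ hp (by omega) (by omega) hlt hdvd hmod
      (fun h => hχt (eq_triv_of_degree_one hperf χ h))
  have hBdeg : ∀ χ ∈ B, charDegree (χ : G → ℂ) = p - 1 ∧ e * (n + 1) = p - 1 := by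
    intro χ hχ
    obtain ⟨hχX, hχε⟩ := (hBmem χ).1 hχ
    have hdvd : charDegree (χ : G → ℂ) ∣ e * (1 + n * p) := by
      have h := hDeg G p P hP χ (εX χ) (hX χ hχX).1 z₀ hz₀ hz₀1 (hXval χ hχX z₀ hz₀ hz₀1)
      rwa [hCidx] at h
    have hmod : charDegree (χ : G → ℂ) % p = p - 1 := by
      have h1 := (hX χ hχX).2.1
      rw [hχε] at h1
      have h2 : (charDegree (χ : G → ℂ) : ℤ) ≡ ((p - 1 : ℕ) : ℤ) [ZMOD (p : ℤ)] := by
        refine h1.trans ?_
        rw [Int.modEq_iff_dvd, Nat.cast_sub hp.one_lt.le]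
        simp
      have h3 := Int.natCast_modEq_iff.1 h2
      rw [Nat.ModEq, Nat.mod_eq_of_lt (by omega : p - 1 < p)] at h3
      exact h3
    exact hArB p e n _ hp (by omega) h2e hlt hdvd hmod
  -- the exceptional characters
  have hYne : Y.Nonempty := by
    apply Set.nonempty_of_ncard_ne_zero
    omega
  obtain ⟨θ₀, hθ₀⟩ := hYne
  obtain ⟨f, hf⟩ : ∃ f, charDegree (θ₀ : G → ℂ) = f := ⟨_, rfl⟩
  have hYdeg : ∀ θ ∈ Y, charDegree (θ : G → ℂ) = f := by
    intro θ hθ
    have h := hYr θ hθ θ₀ hθ₀ 1 h1reg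
    rw [← hf]
    unfold charDegree
    rw [h]
  have hY1 : ∀ θ ∈ Y, (θ : G → ℂ) 1 = (f : ℂ) := by
    intro θ hθ
    rw [hchar θ, hYdeg θ hθ]
  have hf0 : 0 < f := by
    rw [← hf]
    exact Cfsg.Agent.Lib.CT.Wedderburn.irr_charDegree_pos θ₀.2
  have hY11 : ∀ θ ∈ Y, ∀ θ' ∈ Y, (θ : G → ℂ) 1 = (θ' : G → ℂ) 1 := by
    intro θ hθ θ' hθ'
    rw [hY1 θ hθ, hY1 θ' hθ']
  have hdeg : ∀ θ ∈ Y, (ε : ℂ) * (θ : G → ℂ) 1 = ∑ᶠ χ ∈ X, (εX χ : ℂ) * (χ : G → ℂ) 1 :=
    fun θ hθ => hrel θ hθ 1 h1reg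
  have hYaz := hYa G p M hM P hP X Y hB0 hXY ⟨θ₀, hθ₀⟩ εX ε hε hXval hY11 hdeg z₀ hz₀ hz₀1
  have hfdvd : f ∣ e * (1 + n * p) := by
    have hε' : (-ε = 1 ∨ -ε = -1) := by
      rcases hε with h | h
      · right; rw [h]
      · left; rw [h]; norm_num
    have h := hDegSum G p P hP Y ⟨θ₀, hθ₀⟩ f hYdeg (-ε) hε' z₀ hz₀ hz₀1
      (by rw [hYaz]; push_cast; ring)
    rwa [hCidx] at h
  have hmodf : (f : ℤ) ≡ ε * (e : ℤ) [ZMOD (p : ℤ)] := by
    have h := hYd θ₀ hθ₀
    rwa [hf] at h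
  have hXsum : ∑ᶠ χ ∈ X, (εX χ : ℂ) * (χ : G → ℂ) 1 =
      1 + (A.ncard : ℂ) * ((1 + n * p : ℕ) : ℂ) - (B.ncard : ℂ) * ((p - 1 : ℕ) : ℂ) := by
    rw [hXeq, finsum_mem_union hdis1 (Set.finite_singleton _) (hAfin.union hBfin),
      finsum_mem_singleton, finsum_mem_union hABd hAfin hBfin, hεt,
      finsum_mem_const_ncard A hAfin _ ((1 + n * p : ℕ) : ℂ) (by
        intro χ hχ
        rw [((hAmem χ).1 hχ).2.2, hchar χ, hAdeg χ hχ]
        simp),
      finsum_mem_const_ncard B hBfin _ (-((p - 1 : ℕ) : ℂ)) (by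
        intro χ hχ
        rw [((hBmem χ).1 hχ).2, hchar χ, (hBdeg χ hχ).1]
        simp)]
    rw [coe_triv]
    push_cast
    ring
  have hdegZ : ε * (f : ℤ) = 1 + (A.ncard : ℤ) * (1 + (n : ℤ) * (p : ℤ)) -
      (B.ncard : ℤ) * ((p : ℤ) - 1) := by
    have h := hdeg θ₀ hθ₀
    rw [hY1 θ₀ hθ₀, hXsum, Nat.cast_sub hp.one_lt.le] at h
    have h2 : ((ε * (f : ℤ) : ℤ) : ℂ) = ((1 + (A.ncard : ℤ) * (1 + (n : ℤ) * (p : ℤ)) -
        (B.ncard : ℤ) * ((p : ℤ) - 1) : ℤ) : ℂ) := by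
      push_cast
      rw [h]
      push_cast
      ring
    exact Int.cast_injective h2
  have hb : 1 ≤ B.ncard → n + 1 = t := by
    intro h
    obtain ⟨χ, hχ⟩ := Set.nonempty_of_ncard_ne_zero (by omega : B.ncard ≠ 0)
    have h2 := (hBdeg χ hχ).2
    rw [ht] at h2
    exact Nat.eq_of_mul_eq_mul_left (by omega : 0 < e) h2
  obtain ⟨hnt, hcase⟩ := hArC p e t n A.ncard B.ncard f ε hp hpe he2 ht2 hn1 hlt hab hb hε hf0
    hfdvd hmodf hdegZ
  have hb1 : 1 ≤ B.ncard := by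
    rcases hcase with ⟨_, _, h3, h4⟩ | ⟨_, _, h3, _⟩
    · have ha : 1 ≤ A.ncard := by
        rcases Nat.eq_zero_or_pos A.ncard with h0 | h0
        · rw [h0] at h4; omega
        · exact h0
      rw [h3]
      exact Nat.mul_pos ha hn1
    · omega
  obtain ⟨χB, hχB⟩ := Set.nonempty_of_ncard_ne_zero (by omega : B.ncard ≠ 0)
  have hC : Subgroup.centralizer ((P : Subgroup G) : Set G) = (P : Subgroup G) := by
    obtain ⟨hχX, hχε⟩ := (hBmem χB).1 hχB
    refine hCent G p P hP hO χB ?_ ?_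
    · rw [hchar χB, (hBdeg χB hχB).1]
    · intro x hx hx1 y hy hyreg
      have h := (hX χB hχX).2.2 x hx hx1 y hy hyreg
      rw [h, hχε]
      simp
  have hNcard : Nat.card (Subgroup.normalizer ((P : Subgroup G) : Set G)) = p * e := by
    have h1 := Subgroup.card_mul_index (Subgroup.normalizer ((P : Subgroup G) : Set G))
    rw [hNidx] at h1
    rw [hC, hP] at hGC
    have h2 : Nat.card (Subgroup.normalizer ((P : Subgroup G) : Set G)) * (1 + n * p) =
        p * e * (1 + n * p) := by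
      rw [h1, ← hGC]; ring
    exact Nat.eq_of_mul_eq_mul_right (by omega : 0 < 1 + n * p) h2
  have hGcard : Nat.card G = (1 + n * p) * (p * e) := by
    rw [hC, hP] at hGC
    rw [← hGC]; ring
  obtain ⟨hYc', hYq, hYs, hvan⟩ := hYV G p M hM P hP hC e t hpe hNcard X Y hB0 hXY hXc hYt εX ε hε
    (fun χ hχ => ⟨(hX χ hχ).1, hXval χ hχ⟩) hY11 hdeg
  refine ⟨e, t, n, A.ncard, B.ncard, ε, f, A, B, Y, ?_⟩
  exact
    { hP := hP
      hC := hC
      hN := hNcard
      hG := hGcard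
      hpe := hpe
      he := he2
      ht := ht2
      hn := hnt
      htA := htA
      htB := htB
      htY := htY
      hAB := hABd
      hAY := Set.disjoint_of_subset_left hAX hXY
      hBY := Set.disjoint_of_subset_left hBX hXY
      cA := rfl
      cB := rfl
      cY := hYt
      hA := fun χ hχ => ⟨by rw [hchar χ, hAdeg χ hχ], fun z hz hz1 => by
        rw [hXval χ (hAX hχ) z hz hz1, ((hAmem χ).1 hχ).2.2]; simp⟩
      hB := fun χ hχ => ⟨by rw [hchar χ, (hBdeg χ hχ).1], fun z hz hz1 => by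
        rw [hXval χ (hBX hχ) z hz hz1, ((hBmem χ).1 hχ).2]; simp⟩
      hY1 := hY1
      hYs := hYs
      hYc := hYc'
      hYq := hYq
      hYr := hYr
      hZ := by
        intro χ hχ z hz hz1
        obtain ⟨h1, h2, h3, h4⟩ := hχ
        apply hvan χ _ z hz hz1
        rw [hB0]
        rintro (h | h)
        · rcases (hX χ h).1 with h5 | h5
          · exact h2 ((hAmem χ).2 ⟨h, h1, h5⟩)
          · exact h3 ((hBmem χ).2 ⟨h, h5⟩)
        · exact h4 h
      hcase := hcase }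

/-- The core theorem from the table and the remaining pieces. -/
theorem core_of_tab (hPF : PslOfNOne.{u}) (hPG : CaseCFalse.{u}) (hGen : ExistsGen.{u})
    (hRes : ExistsRes.{u}) (hInv : InvOfInvol.{u}) (hMS : MsOfTab.{u}) (hCZ : CzOfMs.{u})
    (hPI : CaseDFalse.{u}) (hPJ1 : CaseDInvol.{u}) (hPJ2 : PslOfInvol.{u})
    [Finite G] (hperf : commutator G = ⊤) (p : ℕ) [Fact p.Prime] (P : Sylow p G)
    (hO : pPrimeCore p G = ⊥) (e t n a b : ℕ) (δ : ℤ) (f : ℕ) (A B Y : Set (IrrCharacter G))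
    (hT : Tab p P e t n a b δ f A B Y) : CoreConcl p G := by
  have hP := hT.hP
  have hC := hT.hC
  have hN := hT.hN
  have hG := hT.hG
  have hpe := hT.hpe
  have he := hT.he
  have ht := hT.ht
  have hn := hT.hn
  rcases Nat.lt_or_ge t 3 with ht3 | ht3
  · have ht2 : t = 2 := by omega
    have hn1 : n = 1 := by omega
    left
    refine hPF G hperf p P hP hO hC e he ?_ hN ?_
    · rw [hpe, ht2]; ring
    · rw [hG, hn1]; ring
  · have hp7 : 7 ≤ p := by
      have h := Nat.mul_le_mul he ht3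
      omega
    rcases hT.hcase with ⟨hδ, -⟩ | ⟨hδ, hfe, hb, hea⟩
    · subst hδ
      exact (hPG G p P e t n a b f A B Y hT ht3).elim
    · subst hδ
      obtain ⟨y, hyN, hyo, hyP, hcov, hreg, hconj⟩ := hGen G p P hP hC e hN
      obtain ⟨ω, mult, hR⟩ := hRes G p P hP hC e hN y hyN hyo hyP hcov hreg hconj
      have hMS' := hMS G p P e t n a b f A B Y hT y ω mult hR
      obtain ⟨k, hk⟩ := hMS'.heven
      have hk2 : e / 2 = k := by omega
      have hwN : y ^ (e / 2) ∈ Subgroup.normalizer ((P : Subgroup G) : Set G) := pow_mem hyN _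
      have hwP : y ^ (e / 2) ∉ (P : Subgroup G) := hyP (e / 2) (by omega) (by omega)
      have hww : y ^ (e / 2) * y ^ (e / 2) = 1 := by
        rw [← pow_add, hk2, ← hk, ← hyo, pow_orderOf_eq_one]
      have hinv := hInv G p (by omega) P hP hC (y ^ (e / 2)) hwN hwP hww
      have hCZ' := hCZ G p P e t n a b f A B Y hT y ω mult hR hMS' hinv
      rcases Nat.eq_zero_or_pos a with ha | ha
      · have he2 : e = 2 := by rw [hea, ha]; simp
        have hconjw := hPJ1 G p P e t n a b f A B Y hT y ω mult hR hMS' hCZ' ha ht3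
        have hcw := hCZ'.cw
        have h22 : e / 2 = 1 := by omega
        rw [h22, pow_one] at hcw
        have hp' : p = 2 * n + 3 := by rw [hpe, he2, ← hn]; ring
        have h1 : p - 1 = 2 * n + 2 := by omega
        have h2 : p - 2 = 2 * n + 1 := by omega
        have hcw' : Nat.card (Subgroup.centralizer ({y} : Set G)) = p - 1 := by
          rw [hcw, he2, h1, ← hn]; ring
        have hG' : Nat.card G = p * (p - 1) * (p - 2) := by
          rw [hG, h1, h2, he2, hp']; ring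
        obtain ⟨m, F, iF, iF', hF, hpm, hiso⟩ := hPJ2 G p hp7 P hP (by rw [hN, he2]) hG' y
          (by rw [hyo, he2]) hcw' hconjw
        right
        exact ⟨m, F, iF, iF', hF, hpm, by omega, hiso⟩
      · exact (hPI G p P e t n a b f A B Y hT y ω mult hR hMS' hCZ' ha ht3).elim

/-- The core theorem from the pieces. -/
theorem core_of_pieces (hLoc : Loc.{u}) (hDeg : DegDvd.{u}) (hDegSum : DegDvdSum.{u})
    (hArA : ArithA) (hArB : ArithB) (hArC : ArithCase) (hYa : YaSum.{u}) (hCent : CentEq.{u})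
    (hYV : YValues.{u}) (hT1 : TNeOne.{u}) (hPF : PslOfNOne.{u}) (hPG : CaseCFalse.{u})
    (hGen : ExistsGen.{u}) (hRes : ExistsRes.{u}) (hInv : InvOfInvol.{u}) (hMS : MsOfTab.{u})
    (hCZ : CzOfMs.{u}) (hPI : CaseDFalse.{u}) (hPJ1 : CaseDInvol.{u}) (hPJ2 : PslOfInvol.{u}) :
    CoreStmt.{u} := by
  intro H _ _ hperf p _ P hP hO hbig
  obtain ⟨e, t, n, a, b, δ, f, A, B, Y, hT⟩ := exists_tab hLoc hDeg hDegSum hArA hArB hArC hYa
    hCent hYV hT1 hperf p P hP hO hbig
  exact core_of_tab hPF hPG hGen hRes hInv hMS hCZ hPI hPJ1 hPJ2 hperf p P hO e t n a b δ f A B Y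
    hT

end Cfsg.Agent.Lib.Helper16.BRCore
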