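import Mathlib
import Cfsg.Agent.Lib.Helper80.BTStmt
import Cfsg.Agent.Lib.Helper80.Integrality
import Cfsg.Agent.Lib.CT.Wedderburn
import Cfsg.Agent.Lib.CT.Ops

/-!
Piece POW2A of S0997 (helper16, second seat): the case `e = 2`.  `X = {1, χ₀}`, the degree
equation gives `χ₀(1) = f + 1 = p - 1`, which divides `2^b (p - 2)`, hence is a power of `2`.
-/

set_option autoImplicit false
set_option linter.unusedVariables false
set_option linter.style.haveILetI false

universe u

namespace Cfsg.Agent.Lib.Helper16.BTPOW2A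

open Cfsg Cfsg.Agent.Lib.Helper80

theorem main : BTStmt.POW2A.{u} := by
  intro G _ _ p b g₀ hyp c hXF hYF hII hYg he2
  classical
  obtain ⟨hsimple, hncyc, hp, hq, hpq, hcard, hg0⟩ := hyp
  obtain ⟨⟨t, htX, ht1⟩, hXq⟩ := hXF
  obtain ⟨⟨θ, hθY⟩, hYall⟩ := hYF
  obtain ⟨hε, hfe⟩ := hII
  have hf : charDegree (θ : G → ℂ) = g₀ := hYg θ hθY
  have hfe' : g₀ + 2 = p := by
    have h := hfe θ hθY
    rw [hf, he2] at h
    exact h
  have hg2 : 2 ≤ g₀ := by
    have h := (hYall θ hθY).2.2.1
    rw [hf] at h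
    exact h
  -- X has two elements
  have hXc : Nat.card c.X = 2 := by rw [c.hX, he2]
  obtain ⟨x, y, hxy, huniv⟩ := Nat.card_eq_two_iff.mp hXc
  have htmem : (⟨t, htX⟩ : c.X) ∈ ({x, y} : Set c.X) := by rw [huniv]; trivial
  obtain ⟨χ₀, hχ₀X, hχ₀t, hXeq⟩ : ∃ χ₀ ∈ c.X, t ≠ χ₀ ∧ c.X = {t, χ₀} := by
    rcases htmem with h | h
    · refine ⟨y.1, y.2, ?_, ?_⟩
      · intro hh
        apply hxy
        rw [← h]
        exact Subtype.ext hh
      · ext χ
        constructor
        · intro hχ
          have hm : (⟨χ, hχ⟩ : c.X) ∈ ({x, y} : Set c.X) := by rw [huniv]; trivial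
          rcases hm with h' | h'
          · left
            rw [← h] at h'
            exact congrArg Subtype.val h'
          · right
            exact congrArg Subtype.val h'
        · rintro (rfl | rfl)
          · exact htX
          · exact y.2
    · have h : (⟨t, htX⟩ : c.X) = y := h
      refine ⟨x.1, x.2, ?_, ?_⟩
      · intro hh
        apply hxy
        rw [← h]
        exact (Subtype.ext hh).symm
      · ext χ
        constructor
        · intro hχ
          have hm : (⟨χ, hχ⟩ : c.X) ∈ ({x, y} : Set c.X) := by rw [huniv]; trivial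
          rcases hm with h' | h'
          · right
            exact congrArg Subtype.val h'
          · left
            have h'' : (⟨χ, hχ⟩ : c.X) = y := h'
            rw [← h] at h''
            exact congrArg Subtype.val h''
        · rintro (rfl | rfl)
          · exact htX
          · exact x.2
  -- the degree equation
  have h1reg : ¬ p ∣ orderOf (1 : G) := by
    rw [orderOf_one, Nat.dvd_one]
    exact hp.ne_one
  have hrel := c.hYX θ hθY 1 h1reg
  rw [hXeq, finsum_mem_pair hχ₀t] at hrel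
  have hθ1 : (θ : G → ℂ) 1 = (g₀ : ℂ) := by
    rw [← Cfsg.Agent.Lib.CT.Wedderburn.char_natCast_charDegree
      (Cfsg.Agent.Lib.CT.Ops.IsIrrCharacter.isCharacter θ.2), hf]
  have hχ1 : (χ₀ : G → ℂ) 1 = (charDegree (χ₀ : G → ℂ) : ℂ) :=
    (Cfsg.Agent.Lib.CT.Wedderburn.char_natCast_charDegree
      (Cfsg.Agent.Lib.CT.Ops.IsIrrCharacter.isCharacter χ₀.2)).symm
  have ht1' : (t : G → ℂ) 1 = 1 := by rw [ht1]
  have htdeg : charDegree (t : G → ℂ) = 1 :=
    Cfsg.Agent.Lib.CT.Wedderburn.charDegree_eq_of_apply_one (n := 1) (by rw [ht1']; simp)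
  have hεt : c.εX t = 1 := by
    obtain ⟨h1, h2, -⟩ := c.hεX t htX
    rcases h1 with h1 | h1
    · exact h1
    · exfalso
      rw [htdeg, h1] at h2
      have hd : (p : ℤ) ∣ (1 : ℤ) - (-1) := by
        have := h2.symm.dvd
        simpa using this
      have hd2 : (p : ℤ) ∣ 2 := by norm_num at hd; exact hd
      have := Int.le_of_dvd (by norm_num) hd2
      omega
  rw [hε, hθ1, ht1', hχ1, hεt] at hrel
  set d := charDegree (χ₀ : G → ℂ)
  have hrelZ : -(g₀ : ℤ) = 1 + c.εX χ₀ * (d : ℤ) := by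
    have h : ((-(g₀ : ℤ) : ℤ) : ℂ) = ((1 + c.εX χ₀ * (d : ℤ) : ℤ) : ℂ) := by
      push_cast
      push_cast at hrel
      linear_combination hrel
    exact_mod_cast h
  have hd : d = p - 1 := by
    rcases (c.hεX χ₀ hχ₀X).1 with h1 | h1
    · rw [h1] at hrelZ
      omega
    · rw [h1] at hrelZ
      omega
  -- divisibility
  have hdvd : d ∣ Nat.card G := Integrality.charDegree_dvd_card χ₀
  rw [hcard, hd] at hdvd
  have hc1 : Nat.Coprime (p - 1) p := by
    have h := Nat.coprime_self_sub_left (n := p) (m := 1) (by omega)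
    simpa using h
  have hc2 : Nat.Coprime (p - 1) g₀ := by
    have h3 : p - 1 = g₀ + 1 := by omega
    rw [h3]
    simp
  have hdvd2 : (p - 1) ∣ 2 ^ b := by
    have h1 : (p - 1) ∣ p * (2 ^ b * g₀) := by
      rw [← mul_assoc]; exact hdvd
    have h2 := hc1.dvd_of_dvd_mul_left h1
    exact hc2.dvd_of_dvd_mul_right h2
  obtain ⟨k, hkb, hk⟩ := (Nat.dvd_prime_pow Nat.prime_two).mp hdvd2
  have hk1 : 1 ≤ k := by
    rcases Nat.eq_zero_or_pos k with h0 | h0
    · rw [h0] at hk
      simp at hk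
      omega
    · exact h0
  refine ⟨⟨k, by omega⟩, χ₀, hχ₀X, ?_, k, hk1, ?_⟩
  · intro hcon
    apply hχ₀t
    apply Subtype.ext
    rw [ht1, hcon]
  · rw [← hk]
    exact hd
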