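import Mathlib
import Cfsg.Agent.Lib.Helper80.FTStmt
import Cfsg.Agent.Lib.Helper5.SLCard

/-!
Piece SL15 of S3999 (helper16, second seat): `SL(2,5)` has order 120 and no element of order 15.
-/

set_option autoImplicit false
set_option linter.unusedVariables false
set_option linter.style.haveILetI false

namespace Cfsg.Agent.Lib.Helper16.FTSL15

open Cfsg.Agent.Lib.Helper80.FTStmt

/-- coefficients of `A ^ n = a • A + b • 1` when `A * A = t • A - 1` -/
def ab (t : ZMod 5) : ℕ → ZMod 5 × ZMod 5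
  | 0 => (0, 1)
  | n + 1 => (t * (ab t n).1 + (ab t n).2, -(ab t n).1)

theorem pow_eq (A : Matrix (Fin 2) (Fin 2) (ZMod 5)) (t : ZMod 5)
    (hA : A * A = t • A - 1) (n : ℕ) :
    A ^ n = (ab t n).1 • A + (ab t n).2 • (1 : Matrix (Fin 2) (Fin 2) (ZMod 5)) := by
  induction n with
  | zero => simp [ab]
  | succ n ih =>
    rw [pow_succ, ih, add_mul, smul_mul_assoc, smul_mul_assoc, one_mul, hA]
    show _ = (t * (ab t n).1 + (ab t n).2) • A
      + (-(ab t n).1) • (1 : Matrix (Fin 2) (Fin 2) (ZMod 5))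
    module

theorem ch (A : Matrix (Fin 2) (Fin 2) (ZMod 5)) (hdet : A.det = 1) :
    A * A = A.trace • A - 1 := by
  have h2 := Matrix.det_fin_two A
  rw [hdet] at h2
  ext i j
  fin_cases i <;> fin_cases j <;>
    simp [Matrix.mul_apply, Fin.sum_univ_two, Matrix.trace] <;>
    first
      | ring1
      | linear_combination h2

theorem ab_key : ∀ t : ZMod 5, ab t 3 = (0, 1) ∨ ab t 4 = (0, 1) ∨ ab t 5 = (0, 1)
    ∨ ab t 6 = (0, 1) ∨ ab t 10 = (0, 1) := by decide

theorem main : SL15 := by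
  haveI : Fact (Nat.Prime 5) := ⟨by norm_num⟩
  refine ⟨?_, ?_⟩
  · have h1 := Cfsg.Agent.Lib.Helper5.SLCard.card_SL_mul (F := ZMod 5) (ι := Fin 2)
    have h2 : Nat.card (Matrix.GeneralLinearGroup (Fin 2) (ZMod 5)) = 480 := by
      rw [Matrix.card_GL_field, Fin.prod_univ_two, ZMod.card]
      norm_num
    have h3 : Nat.card (ZMod 5)ˣ = 4 := by
      rw [Nat.card_eq_fintype_card, ZMod.card_units]
    rw [h2, h3] at h1
    have h4 : Nat.card (Matrix.SpecialLinearGroup (Fin 2) (ZMod 5)) * 4 = 480 := h1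
    omega
  · intro s hs
    have key := ab_key
    have hA := ch (s : Matrix (Fin 2) (Fin 2) (ZMod 5)) s.2
    have hpow : ∀ m : ℕ,
        ab (Matrix.trace (s : Matrix (Fin 2) (Fin 2) (ZMod 5))) m = (0, 1) → s ^ m = 1 := by
      intro m hm
      apply Subtype.ext
      rw [Matrix.SpecialLinearGroup.coe_pow, Matrix.SpecialLinearGroup.coe_one,
        pow_eq _ _ hA m, hm]
      simp
    have hdvd : ∀ m : ℕ, s ^ m = 1 → ¬ (15 ∣ m) → False := by
      intro m hm h15
      have h := orderOf_dvd_of_pow_eq_one hm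
      rw [hs] at h
      exact h15 h
    rcases key (Matrix.trace (s : Matrix (Fin 2) (Fin 2) (ZMod 5))) with h | h | h | h | h
    · exact hdvd 3 (hpow 3 h) (by norm_num)
    · exact hdvd 4 (hpow 4 h) (by norm_num)
    · exact hdvd 5 (hpow 5 h) (by norm_num)
    · exact hdvd 6 (hpow 6 h) (by norm_num)
    · exact hdvd 10 (hpow 10 h) (by norm_num)

end Cfsg.Agent.Lib.Helper16.FTSL15
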