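import Mathlib

/-!
Gauss periods over the nonzero squares of `ZMod p`: for a primitive `p`-th root of unity `ζ`,
`per p ζ a = ∑_{s nonzero square} ζ ^ (a * s)`.  With `A = per p ζ 1`, `B = -1 - A`:
`per p ζ a` is `A` or `B` according to whether `a` is a square, `|A - B|² = p`,
`|A|² + |B|² = (p + 1) / 2`, and the fourth moments.
-/

set_option autoImplicit false
set_option linter.style.haveILetI false

namespace Cfsg.Agent.Lib.Helper16.GaussPer

open scoped ComplexConjugate

variable {p : ℕ} [Fact p.Prime] {ζ : ℂ}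

/-- the Gauss period over the nonzero squares -/
noncomputable def per (p : ℕ) [Fact p.Prime] (ζ : ℂ) (a : ℕ) : ℂ :=
  ∑ s : ZMod p, if quadraticChar (ZMod p) s = 1 then ζ ^ (a * s.val) else 0

/-- the complementary period, over the non-squares -/
noncomputable def perN (p : ℕ) [Fact p.Prime] (ζ : ℂ) (a : ℕ) : ℂ :=
  ∑ s : ZMod p, if quadraticChar (ZMod p) s = -1 then ζ ^ (a * s.val) else 0

theorem qc_one_iff (s : ZMod p) : quadraticChar (ZMod p) s = 1 ↔ (s ≠ 0 ∧ IsSquare s) := by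
  constructor
  · intro h
    have hs : s ≠ 0 := by
      intro h0
      rw [h0, quadraticChar_zero] at h
      exact absurd h (by decide)
    exact ⟨hs, (quadraticChar_one_iff_isSquare hs).mp h⟩
  · rintro ⟨hs, hsq⟩
    exact (quadraticChar_one_iff_isSquare hs).mpr hsq

/-- bridge to the `Finset.filter` formulation with any decidability instance -/
theorem per_eq_filter (a : ℕ) [DecidablePred fun s : ZMod p => s ≠ 0 ∧ IsSquare s] :
    ∑ s ∈ Finset.univ.filter (fun s : ZMod p => s ≠ 0 ∧ IsSquare s), ζ ^ (a * s.val) =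
      per p ζ a := by
  unfold per
  rw [Finset.sum_filter]
  refine Finset.sum_congr rfl fun s _ => ?_
  by_cases h : s ≠ 0 ∧ IsSquare s
  · rw [if_pos h, if_pos ((qc_one_iff s).mpr h)]
  · rw [if_neg h, if_neg (fun h' => h ((qc_one_iff s).mp h'))]

theorem pow_mul_val (hζ : ζ ^ p = 1) (a : ℕ) (s : ZMod p) :
    ζ ^ (a * s.val) = ζ ^ ((a : ZMod p) * s).val := by
  rw [pow_eq_pow_mod (a * s.val) hζ, ZMod.val_mul, ZMod.val_natCast, Nat.mod_mul_mod]

theorem per_of_sq (hζ : ζ ^ p = 1) (a : ℕ) (ha : quadraticChar (ZMod p) (a : ZMod p) = 1) :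
    per p ζ a = per p ζ 1 := by
  have ha0 : (a : ZMod p) ≠ 0 := ((qc_one_iff _).mp ha).1
  unfold per
  rw [← Equiv.sum_comp (Equiv.mulLeft₀ (a : ZMod p) ha0)
    (fun t => if quadraticChar (ZMod p) t = 1 then ζ ^ (1 * t.val) else 0)]
  refine Finset.sum_congr rfl fun s _ => ?_
  simp only [Equiv.mulLeft₀_apply, map_mul, ha, one_mul]
  by_cases h : quadraticChar (ZMod p) s = 1
  · rw [if_pos h, if_pos h, pow_mul_val hζ]
  · rw [if_neg h, if_neg h]

theorem per_of_nonsq (hζ : ζ ^ p = 1) (a : ℕ)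
    (ha : quadraticChar (ZMod p) (a : ZMod p) = -1) :
    per p ζ a = perN p ζ 1 := by
  have ha0 : (a : ZMod p) ≠ 0 := by
    intro h0
    rw [h0, quadraticChar_zero] at ha
    exact absurd ha (by decide)
  unfold per perN
  rw [← Equiv.sum_comp (Equiv.mulLeft₀ (a : ZMod p) ha0)
    (fun t => if quadraticChar (ZMod p) t = -1 then ζ ^ (1 * t.val) else 0)]
  refine Finset.sum_congr rfl fun s _ => ?_
  simp only [Equiv.mulLeft₀_apply, map_mul, ha, one_mul]
  by_cases h : quadraticChar (ZMod p) s = 1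
  · rw [if_pos h, if_pos (by rw [h]; rfl), pow_mul_val hζ]
  · rw [if_neg h, if_neg]
    intro h'
    apply h
    have : quadraticChar (ZMod p) s = -(-1 * quadraticChar (ZMod p) s) := by ring
    rw [this, h']; rfl

theorem sum_all (hζ : IsPrimitiveRoot ζ p) : ∑ s : ZMod p, ζ ^ s.val = 0 := by
  have hp : p.Prime := Fact.out
  have h1 : ζ ^ p = 1 := hζ.pow_eq_one
  have hψ : AddChar.zmodChar p h1 ≠ 1 := by
    intro h
    have h2 := congrArg (fun ψ : AddChar (ZMod p) ℂ => ψ 1) h
    simp only [AddChar.zmodChar_apply, AddChar.one_apply] at h2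
    have hv : (1 : ZMod p).val = 1 := by
      haveI : Fact (1 < p) := ⟨hp.one_lt⟩
      exact ZMod.val_one p
    rw [hv, pow_one] at h2
    exact hζ.ne_one hp.one_lt h2
  have := AddChar.sum_eq_zero_of_ne_one hψ
  simpa [AddChar.zmodChar_apply] using this

theorem per_add_perN (hζ : IsPrimitiveRoot ζ p) : per p ζ 1 + perN p ζ 1 = -1 := by
  have h := sum_all hζ
  have hsplit : ∀ s : ZMod p, ζ ^ s.val =
      (if quadraticChar (ZMod p) s = 1 then ζ ^ (1 * s.val) else 0) +
      (if quadraticChar (ZMod p) s = -1 then ζ ^ (1 * s.val) else 0) +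
      (if s = 0 then 1 else 0) := by
    intro s
    by_cases hs : s = 0
    · subst hs
      simp
    · rcases quadraticChar_dichotomy hs with h1 | h1
      · rw [h1]; simp [hs]
      · rw [h1]; simp [hs]
  rw [Finset.sum_congr rfl (fun s _ => hsplit s), Finset.sum_add_distrib,
    Finset.sum_add_distrib] at h
  simp only [Finset.sum_ite_eq', Finset.mem_univ, if_true] at h
  unfold per perN
  linear_combination h

/-- the quadratic Gauss sum is `A - B` -/
theorem gauss_eq (hζ : IsPrimitiveRoot ζ p) :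
    gaussSum ((quadraticChar (ZMod p)).ringHomComp (Int.castRingHom ℂ))
      (AddChar.zmodChar p hζ.pow_eq_one) = per p ζ 1 - perN p ζ 1 := by
  unfold gaussSum per perN
  rw [← Finset.sum_sub_distrib]
  refine Finset.sum_congr rfl fun s _ => ?_
  rw [MulChar.ringHomComp_apply, AddChar.zmodChar_apply, one_mul]
  by_cases hs : s = 0
  · subst hs
    simp
  · rcases quadraticChar_dichotomy hs with h1 | h1
    · rw [h1]; simp
    · rw [h1]; simp

theorem sub_sq (hζ : IsPrimitiveRoot ζ p) (hp2 : p ≠ 2) :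
    (per p ζ 1 - perN p ζ 1) ^ 2 =
      ((quadraticChar (ZMod p) (-1) : ℤ) : ℂ) * (p : ℂ) := by
  rw [← gauss_eq hζ]
  have hchar : ringChar (ZMod p) ≠ 2 := by rw [ZMod.ringChar_zmod_n]; exact hp2
  have hne : (quadraticChar (ZMod p)).ringHomComp (Int.castRingHom ℂ) ≠ 1 :=
    (MulChar.ringHomComp_ne_one_iff (Int.cast_injective (α := ℂ))).mpr
      (quadraticChar_ne_one hchar)
  have hq : ((quadraticChar (ZMod p)).ringHomComp (Int.castRingHom ℂ)).IsQuadratic :=
    (quadraticChar_isQuadratic (ZMod p)).comp _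
  have hprim := AddChar.zmodChar_primitive_of_primitive_root p hζ
  have h := gaussSum_sq hne hq hprim
  rw [h, MulChar.ringHomComp_apply, ZMod.card]
  simp

theorem qc_neg_one_sq :
    ((quadraticChar (ZMod p) (-1) : ℤ) : ℂ) ^ 2 = 1 := by
  have hne : (-1 : ZMod p) ≠ 0 := neg_ne_zero.mpr one_ne_zero
  rcases quadraticChar_dichotomy hne with h | h
  · rw [h]; simp
  · rw [h]; simp

theorem normSq_sub (hζ : IsPrimitiveRoot ζ p) (hp2 : p ≠ 2) :
    Complex.normSq (per p ζ 1 - perN p ζ 1) = p := by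
  have h := sub_sq hζ hp2
  have h2 : Complex.normSq (per p ζ 1 - perN p ζ 1) ^ 2 = (p : ℝ) ^ 2 := by
    have h3 := congrArg Complex.normSq h
    rw [map_pow, map_mul, Complex.normSq_natCast] at h3
    have h4 : Complex.normSq ((quadraticChar (ZMod p) (-1) : ℤ) : ℂ) = 1 := by
      have h5 := congrArg Complex.normSq (qc_neg_one_sq (p := p))
      rw [map_pow, map_one] at h5
      have h6 : 0 ≤ Complex.normSq ((quadraticChar (ZMod p) (-1) : ℤ) : ℂ) :=
        Complex.normSq_nonneg _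
      nlinarith
    rw [h4, one_mul] at h3
    rw [h3]; ring
  have hnn : 0 ≤ Complex.normSq (per p ζ 1 - perN p ζ 1) := Complex.normSq_nonneg _
  have hp0 : (0 : ℝ) ≤ p := Nat.cast_nonneg p
  nlinarith

theorem parallelogram (A B : ℂ) :
    Complex.normSq (A - B) + Complex.normSq (A + B) =
      2 * (Complex.normSq A + Complex.normSq B) := by
  simp only [Complex.normSq_apply, Complex.sub_re, Complex.sub_im, Complex.add_re,
    Complex.add_im]
  ring

theorem normSq_add_normSq (hζ : IsPrimitiveRoot ζ p) (hp2 : p ≠ 2) :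
    Complex.normSq (per p ζ 1) + Complex.normSq (perN p ζ 1) = ((p : ℝ) + 1) / 2 := by
  have h1 := parallelogram (per p ζ 1) (perN p ζ 1)
  rw [normSq_sub hζ hp2, per_add_perN hζ] at h1
  rw [Complex.normSq_neg, Complex.normSq_one] at h1
  linarith

/-- the product `A * B` -/
theorem per_mul_perN (hζ : IsPrimitiveRoot ζ p) (hp2 : p ≠ 2) :
    4 * (per p ζ 1 * perN p ζ 1) =
      1 - ((quadraticChar (ZMod p) (-1) : ℤ) : ℂ) * (p : ℂ) := by
  have h1 := sub_sq hζ hp2
  have h2 := per_add_perN hζ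
  have h3 : (per p ζ 1 + perN p ζ 1) ^ 2 = 1 := by rw [h2]; ring
  linear_combination h3 - h1

theorem fourth (hζ : IsPrimitiveRoot ζ p) (hp2 : p ≠ 2) (ε : ℝ)
    (hε : ((quadraticChar (ZMod p) (-1) : ℤ) : ℂ) = (ε : ℂ)) :
    Complex.normSq (per p ζ 1) ^ 2 + Complex.normSq (perN p ζ 1) ^ 2 =
      ((p : ℝ) + 1) ^ 2 / 4 - (1 - ε * p) ^ 2 / 8 := by
  have h1 := normSq_add_normSq hζ hp2
  have h2 := per_mul_perN hζ hp2
  rw [hε] at h2
  have h3 : 16 * (Complex.normSq (per p ζ 1) * Complex.normSq (perN p ζ 1)) =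
      (1 - ε * p) ^ 2 := by
    have h4 := congrArg Complex.normSq h2
    rw [map_mul, map_mul] at h4
    have h5 : (1 : ℂ) - (ε : ℂ) * (p : ℂ) = ((1 - ε * p : ℝ) : ℂ) := by push_cast; ring
    rw [h5, Complex.normSq_ofReal] at h4
    have h6 : Complex.normSq (4 : ℂ) = 16 := by
      rw [show (4 : ℂ) = ((4 : ℝ) : ℂ) by norm_num, Complex.normSq_ofReal]; norm_num
    rw [h6] at h4
    linarith
  have h7 : Complex.normSq (per p ζ 1) ^ 2 + Complex.normSq (perN p ζ 1) ^ 2 =
      (Complex.normSq (per p ζ 1) + Complex.normSq (perN p ζ 1)) ^ 2 -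
        2 * (Complex.normSq (per p ζ 1) * Complex.normSq (perN p ζ 1)) := by ring
  rw [h7, h1]
  linarith

theorem fourth_one (hζ : IsPrimitiveRoot ζ p) (hp2 : p ≠ 2) (h4 : p % 4 = 1) :
    Complex.normSq (per p ζ 1) ^ 2 + Complex.normSq (perN p ζ 1) ^ 2 =
      (((p : ℝ) + 1) ^ 2 + 4 * p) / 8 := by
  have hchar : ringChar (ZMod p) ≠ 2 := by rw [ZMod.ringChar_zmod_n]; exact hp2
  have hq : quadraticChar (ZMod p) (-1) = 1 := by
    rw [quadraticChar_neg_one hchar, ZMod.card]
    exact ZMod.χ₄_nat_one_mod_four h4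
  have h := fourth hζ hp2 1 (by rw [hq]; simp)
  rw [h]; ring

theorem fourth_three (hζ : IsPrimitiveRoot ζ p) (hp2 : p ≠ 2) (h4 : p % 4 = 3) :
    Complex.normSq (per p ζ 1) ^ 2 + Complex.normSq (perN p ζ 1) ^ 2 =
      ((p : ℝ) + 1) ^ 2 / 8 := by
  have hchar : ringChar (ZMod p) ≠ 2 := by rw [ZMod.ringChar_zmod_n]; exact hp2
  have hq : quadraticChar (ZMod p) (-1) = -1 := by
    rw [quadraticChar_neg_one hchar, ZMod.card]
    exact ZMod.χ₄_nat_three_mod_four h4
  have h := fourth hζ hp2 (-1) (by rw [hq]; simp)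
  rw [h]; ring

end Cfsg.Agent.Lib.Helper16.GaussPer
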