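import Mathlib
import Cfsg.Agent.Lib.Helper26.J3Stmt

/-!
Piece FR2 of S3366 (helper16, second seat): the coordinates `iotaOf r1 r2` on the extraspecial
group `R`: membership, inversion by `t`, and the multiplication law.
-/

set_option autoImplicit false
set_option linter.unusedVariables false
set_option linter.style.haveILetI false

universe u

namespace Cfsg.Agent.Lib.Helper16.J3FR2

open Cfsg.Agent.Lib.Helper26.J3Stmt

section
variable {X : Type u} [Group X]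

/-- the normal form `z^k r1^a r2^b` -/
def nf (r1 r2 z : X) (a b k : ℕ) : X := z ^ k * (r1 ^ a * r2 ^ b)

theorem cz (z : X) (hz : ∀ x : X, Commute z x) (n : ℕ) (x : X) : x * z ^ n = z ^ n * x :=
  ((hz x).pow_left n).symm.eq

theorem swap (r1 r2 z : X) (hz : ∀ x : X, Commute z x) (h0 : r2 * r1 = z * r1 * r2) (a b : ℕ) :
    r2 ^ b * r1 ^ a = z ^ (a * b) * r1 ^ a * r2 ^ b := by
  have h0' : SemiconjBy r2 r1 (z * r1) := h0
  have h1 : SemiconjBy r2 (r1 ^ a) (z ^ a * r1 ^ a) := by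
    have h := h0'.pow_right a
    rwa [(hz r1).mul_pow] at h
  have h2 : SemiconjBy (r2 ^ b) (r1 ^ a) (z ^ (a * b) * r1 ^ a) := by
    induction b with
    | zero => simp
    | succ b ih =>
      have hc : SemiconjBy (r2 ^ b) (z ^ a) (z ^ a) := ((hz (r2 ^ b)).pow_left a).symm
      have h3 := (hc.mul_right ih).mul_left h1
      have e : z ^ a * (z ^ (a * b) * r1 ^ a) = z ^ (a * (b + 1)) * r1 ^ a := by
        rw [← mul_assoc, ← pow_add]
        congr 2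
        ring
      rw [e] at h3
      rw [pow_succ]
      exact h3
  exact h2.eq

theorem nf_mul (r1 r2 z : X) (hz : ∀ x : X, Commute z x) (h0 : r2 * r1 = z * r1 * r2)
    (a b k a' b' k' : ℕ) :
    nf r1 r2 z a b k * nf r1 r2 z a' b' k' = nf r1 r2 z (a + a') (b + b') (k + k' + a' * b) := by
  unfold nf
  have hs := swap r1 r2 z hz h0 a' b
  calc z ^ k * (r1 ^ a * r2 ^ b) * (z ^ k' * (r1 ^ a' * r2 ^ b'))
      = z ^ k * ((r1 ^ a * r2 ^ b) * z ^ k') * (r1 ^ a' * r2 ^ b') := by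
        simp only [mul_assoc]
    _ = z ^ k * (z ^ k' * (r1 ^ a * r2 ^ b)) * (r1 ^ a' * r2 ^ b') := by
        rw [cz z hz k' (r1 ^ a * r2 ^ b)]
    _ = z ^ k * z ^ k' * (r1 ^ a * (r2 ^ b * r1 ^ a') * r2 ^ b') := by
        simp only [mul_assoc]
    _ = z ^ k * z ^ k' * (r1 ^ a * (z ^ (a' * b) * r1 ^ a' * r2 ^ b) * r2 ^ b') := by
        rw [hs]
    _ = z ^ k * z ^ k' * ((r1 ^ a * z ^ (a' * b)) * (r1 ^ a' * (r2 ^ b * r2 ^ b'))) := by
        simp only [mul_assoc]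
    _ = z ^ k * z ^ k' * ((z ^ (a' * b) * r1 ^ a) * (r1 ^ a' * (r2 ^ b * r2 ^ b'))) := by
        rw [cz z hz (a' * b) (r1 ^ a)]
    _ = z ^ (k + k' + a' * b) * (r1 ^ (a + a') * r2 ^ (b + b')) := by
        rw [pow_add, pow_add, pow_add, pow_add]
        simp only [mul_assoc]

theorem pow3 (x : X) (h : x ^ 3 = 1) {m n : ℕ} (hmn : m ≡ n [MOD 3]) : x ^ m = x ^ n :=
  pow_eq_pow_iff_modEq.mpr (Nat.ModEq.of_dvd (orderOf_dvd_of_pow_eq_one h) hmn)

theorem nf_congr (r1 r2 z : X) (h1 : r1 ^ 3 = 1) (h2 : r2 ^ 3 = 1) (h3 : z ^ 3 = 1)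
    {a b k a' b' k' : ℕ} (ha : a ≡ a' [MOD 3]) (hb : b ≡ b' [MOD 3]) (hk : k ≡ k' [MOD 3]) :
    nf r1 r2 z a b k = nf r1 r2 z a' b' k' := by
  unfold nf
  rw [pow3 r1 h1 ha, pow3 r2 h2 hb, pow3 z h3 hk]

theorem conj_mul3 (t A B C : X) :
    t * (A * (B * C)) * t⁻¹ = (t * A * t⁻¹) * ((t * B * t⁻¹) * (t * C * t⁻¹)) := by
  group

end

theorem modEq_of_cast {m n : ℕ} (h : (m : ZMod 3) = (n : ZMod 3)) : m ≡ n [MOD 3] :=
  (ZMod.natCast_eq_natCast_iff m n 3).mp h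

theorem key1 : ∀ a b c d : ZMod 3,
    2 * (a * b) + 2 * (c * d) + c * b = 2 * ((a + c) * (b + d)) + (a * d - b * c) := by
  decide

theorem key2 : ∀ a b : ZMod 3, 2 * (a * b) + 2 * (a * b) + 2 * a * b = 0 := by
  decide

theorem main : FR2.{u} := by
  intro X _ hyp hZ t ht r1 hr1 r2 hr2 ht1 ht2 hne
  obtain ⟨hfin, hES, hR27, hexp, hSL, hO2, hE⟩ := hyp
  obtain ⟨hZ3, hZR, hZcomm, hZcent, hZcentral⟩ := hZ
  obtain ⟨htt, htR, htmod, htinv⟩ := ht
  have hcZ : r1 * r2 * r1⁻¹ * r2⁻¹ ∈ Zc X := hZcomm r1 hr1 r2 hr2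
  have hzZ : zOf r1 r2 ∈ Zc X := Subgroup.inv_mem _ hcZ
  have hzR : zOf r1 r2 ∈ R X := hZR hzZ
  have hz : ∀ x : X, Commute (zOf r1 r2) x := fun x => (hZcentral _ hzZ x).symm
  have h0 : r2 * r1 = zOf r1 r2 * r1 * r2 := by
    unfold zOf
    group
  have h13 : r1 ^ 3 = 1 := hexp r1 hr1
  have h23 : r2 ^ 3 = 1 := hexp r2 hr2
  have hz3 : zOf r1 r2 ^ 3 = 1 := hexp _ hzR
  have hzne : zOf r1 r2 ≠ 1 := by
    intro h
    apply hne
    rw [h, one_mul] at h0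
    exact h0.symm
  have hcz : r1 * r2 * r1⁻¹ * r2⁻¹ = zOf r1 r2 ^ 2 := by
    have h : zOf r1 r2 ^ 2 = (zOf r1 r2)⁻¹ := by
      rw [eq_inv_iff_mul_eq_one, ← pow_succ]
      exact hz3
    rw [h]
    unfold zOf
    rw [inv_inv]
  have hι : ∀ u : V, iotaOf r1 r2 u =
      nf r1 r2 (zOf r1 r2) (u 0).val (u 1).val (2 * (u 0 * u 1).val) := by
    intro u
    unfold iotaOf nf
    rw [hcz, ← pow_mul, cz _ hz]
  have hmem : ∀ u : V, iotaOf r1 r2 u ∈ R X := by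
    intro u
    unfold iotaOf
    exact Subgroup.mul_mem _ (Subgroup.mul_mem _ (Subgroup.pow_mem _ hr1 _)
      (Subgroup.pow_mem _ hr2 _)) (Subgroup.pow_mem _ (hZR hcZ) _)
  have hmul : ∀ u v : V, iotaOf r1 r2 u * iotaOf r1 r2 v =
      iotaOf r1 r2 (u + v) * zOf r1 r2 ^ (u 0 * v 1 - u 1 * v 0).val := by
    intro u v
    rw [hι u, hι v, hι (u + v), nf_mul r1 r2 _ hz h0]
    have hr : nf r1 r2 (zOf r1 r2) ((u + v) 0).val ((u + v) 1).val
          (2 * ((u + v) 0 * (u + v) 1).val) * zOf r1 r2 ^ (u 0 * v 1 - u 1 * v 0).val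
        = nf r1 r2 (zOf r1 r2) ((u + v) 0).val ((u + v) 1).val
          (2 * ((u + v) 0 * (u + v) 1).val + (u 0 * v 1 - u 1 * v 0).val) := by
      unfold nf
      rw [cz _ hz, ← mul_assoc, ← pow_add, add_comm]
    rw [hr]
    apply nf_congr r1 r2 _ h13 h23 hz3
    · apply modEq_of_cast
      push_cast
      simp only [ZMod.natCast_zmod_val]
      rfl
    · apply modEq_of_cast
      push_cast
      simp only [ZMod.natCast_zmod_val]
      rfl
    · apply modEq_of_cast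
      push_cast
      simp only [ZMod.natCast_zmod_val]
      exact key1 (u 0) (u 1) (v 0) (v 1)
  have hr1inv : r1⁻¹ = r1 ^ 2 := inv_eq_of_mul_eq_one_right (by rw [← pow_succ']; exact h13)
  have hr2inv : r2⁻¹ = r2 ^ 2 := inv_eq_of_mul_eq_one_right (by rw [← pow_succ']; exact h23)
  have hinv : ∀ u : V, t * iotaOf r1 r2 u * t⁻¹ = (iotaOf r1 r2 u)⁻¹ := by
    intro u
    have e1 : t * r1 ^ (u 0).val * t⁻¹ = r1 ^ (2 * (u 0).val) := by
      rw [← conj_pow, ht1, hr1inv, ← pow_mul]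
    have e2 : t * r2 ^ (u 1).val * t⁻¹ = r2 ^ (2 * (u 1).val) := by
      rw [← conj_pow, ht2, hr2inv, ← pow_mul]
    have e3 : t * zOf r1 r2 ^ (2 * (u 0 * u 1).val) * t⁻¹ = zOf r1 r2 ^ (2 * (u 0 * u 1).val) := by
      rw [cz _ hz, mul_inv_cancel_right]
    have hconj : t * iotaOf r1 r2 u * t⁻¹ = nf r1 r2 (zOf r1 r2) (2 * (u 0).val)
        (2 * (u 1).val) (2 * (u 0 * u 1).val) := by
      rw [hι u]
      unfold nf
      rw [conj_mul3, e1, e2, e3]
    have hprod : iotaOf r1 r2 u * (t * iotaOf r1 r2 u * t⁻¹) = 1 := by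
      rw [hconj, hι u, nf_mul r1 r2 _ hz h0]
      have h1 : nf r1 r2 (zOf r1 r2) 0 0 0 = 1 := by
        unfold nf
        simp
      rw [← h1]
      apply nf_congr r1 r2 _ h13 h23 hz3
      · exact (Nat.modEq_zero_iff_dvd).mpr ⟨(u 0).val, by ring⟩
      · exact (Nat.modEq_zero_iff_dvd).mpr ⟨(u 1).val, by ring⟩
      · apply modEq_of_cast
        push_cast
        simp only [ZMod.natCast_zmod_val]
        exact key2 (u 0) (u 1)
    exact eq_inv_of_mul_eq_one_right hprod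
  exact ⟨hmem, hinv, hzZ, hzne, hmul⟩

end Cfsg.Agent.Lib.Helper16.J3FR2
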