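import Mathlib
import Cfsg.Prelude.Def_Blocks
import Cfsg.Agent.Lib.Helper82.Contrib
import Cfsg.Agent.Lib.Helper82.RankQuot
import Cfsg.Agent.Lib.CT.Kernel
import Cfsg.Agent.Lib.CT.DefectZeroBlock
import Cfsg.Agent.Lib.Helper80.Core
import Cfsg.Agent.Lib.Helper16.QuotP2
import Cfsg.Agent.Lib.Helper16.MinMax
import Cfsg.Agent.Lib.Helper16.Defect
import Cfsg.Agent.Lib.Helper16.PSection
import Cfsg.Agent.S0912

/-!
# Laradji's theorem: characters of central defect

`D` a central `p`-subgroup of `G` and `χ` an irreducible character with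
`ν_p(χ(1)) = ν_p(|G : D|)`.

* `central_scalar`: `χ(g z) = ω χ(g)` for central `z`, with `|ω| = 1`.
* `eq_of_pRegular_mul`: for `z, z' ∈ D`, if `g z` and `g z'` are both `p`-regular then `z = z'`.
* `vanish`: `ctr p χ χ = p ^ ν_p(χ(1))`, and `χ(g) ≠ 0` forces `g z` to be `p`-regular for some
  `z ∈ D`.
* `exists_companion`: there is an irreducible character `ψ₀` with `D` in its kernel and
  `ψ₀(g) = ∑_{z ∈ D, g z p-regular} χ(g z)`.
* `defectGroup`: `D` is a defect group of the block of `χ`.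
-/

set_option autoImplicit false

namespace Cfsg.Agent.Lib.Helper16.Laradji

open Cfsg Cfsg.Agent.Lib.Helper77.LocalRing Cfsg.Agent.Lib.Helper77.CentralChar
  Cfsg.Agent.Lib.Helper82.Contrib Cfsg.Agent.Lib.Helper16.QuotP2
open scoped ComplexConjugate

universe u
variable {G : Type u} [Group G] {M : Ideal AlgInt}

/-- A central element acts on an irreducible character through a scalar of absolute value `1`. -/
theorem central_scalar [Finite G] (χ : IrrCharacter G) (z : G) (hz : z ∈ Subgroup.center G) :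
    ∃ ω : ℂ, (∀ g, (χ : G → ℂ) (g * z) = ω * (χ : G → ℂ) g) ∧ Complex.normSq ω = 1 ∧
      (∀ n : ℕ, z ^ n = 1 → ω ^ n = 1) ∧ (χ : G → ℂ) z = ω * (χ : G → ℂ) 1 := by
  have hχc := Cfsg.Agent.Lib.Helper80.Integrality.isCharacter_of_isIrrCharacter χ.2
  obtain ⟨ω, -, h2, h2'⟩ := Cfsg.Agent.Lib.CT.Kernel.exists_scalar_of_norm_eq hχc
    (Cfsg.Agent.Lib.CT.Kernel.norm_eq_of_mem_center χ.2 hz)
  have h1ne : (χ : G → ℂ) 1 ≠ 0 := Cfsg.Agent.Lib.CT.Wedderburn.irr_apply_one_ne_zero χ.2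
  have hpow : ∀ n : ℕ, (χ : G → ℂ) (z ^ n) = ω ^ n * (χ : G → ℂ) 1 := by
    intro n
    induction n with
    | zero => simp
    | succ n ih => rw [pow_succ, h2, ih, pow_succ]; ring
  have hroot : ∀ n : ℕ, z ^ n = 1 → ω ^ n = 1 := by
    intro n hn
    have h3 := hpow n
    rw [hn] at h3
    have h4 : (ω ^ n - 1) * (χ : G → ℂ) 1 = 0 := by rw [sub_mul, ← h3, one_mul, sub_self]
    rcases mul_eq_zero.mp h4 with h5 | h5
    · exact sub_eq_zero.mp h5
    · exact absurd h5 h1ne
  refine ⟨ω, h2, ?_, hroot, h2'⟩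
  have h5 : ‖ω‖ = 1 :=
    Complex.norm_eq_one_of_pow_eq_one (hroot (orderOf z) (pow_orderOf_eq_one z))
      (orderOf_pos z).ne'
  rw [Complex.normSq_eq_norm_sq, h5, one_pow]

/-- For `z, z'` in a central `p`-subgroup: if `g z` and `g z'` are both `p`-regular then
`z = z'`. -/
theorem eq_of_pRegular_mul {p : ℕ} (hp : p.Prime) (D : Subgroup G) (hD : IsPGroup p D)
    (hDZ : D ≤ Subgroup.center G) (g : G) (z z' : D) (h : ¬ p ∣ orderOf (g * (z : G)))
    (h' : ¬ p ∣ orderOf (g * (z' : G))) : z = z' := by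
  have : Fact p.Prime := ⟨hp⟩
  by_contra hne
  have hw : ((z⁻¹ * z' : D) : G) ≠ 1 := by
    intro h1
    apply hne
    have h2 : z⁻¹ * z' = 1 := Subtype.ext h1
    exact (inv_mul_eq_one.mp h2)
  obtain ⟨k, hk⟩ := (IsPGroup.iff_orderOf.mp hD) (z⁻¹ * z')
  have hk' : orderOf ((z⁻¹ * z' : D) : G) = p ^ k := by rw [Subgroup.orderOf_coe, hk]
  have hc : Commute (g * (z : G)) ((z⁻¹ * z' : D) : G) :=
    (Subgroup.mem_center_iff.mp (hDZ (z⁻¹ * z').2) (g * (z : G)))
  have h3 := dvd_orderOf_mul_of_commute hp (g * (z : G)) ((z⁻¹ * z' : D) : G) hc h hw hk'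
  have h4 : g * (z : G) * ((z⁻¹ * z' : D) : G) = g * (z' : G) := by
    push_cast
    group
  rw [h4] at h3
  exact h' h3

/-- The counting identity: `|D| ∑_{y p-regular} |χ(y)|² = ∑_g N(g) |χ(g)|²` with `N(g)` the
number of `z ∈ D` such that `g z` is `p`-regular. -/
theorem card_mul_sum [Fintype G] (p : ℕ) (D : Subgroup G) [Fintype D]
    (hDZ : D ≤ Subgroup.center G) (χ : IrrCharacter G) [DecidablePred fun x : G => p ∣ orderOf x] :
    (Nat.card D : ℝ) * ∑ x : G, (if p ∣ orderOf x then 0 else Complex.normSq ((χ : G → ℂ) x))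
      = ∑ g : G, Complex.normSq ((χ : G → ℂ) g) *
          ∑ z : D, (if p ∣ orderOf (g * (z : G)) then (0 : ℝ) else 1) := by
  have h1 : ∀ z : D, ∑ g : G, (if p ∣ orderOf (g * (z : G)) then 0
        else Complex.normSq ((χ : G → ℂ) g))
      = ∑ x : G, (if p ∣ orderOf x then 0 else Complex.normSq ((χ : G → ℂ) x)) := by
    intro z
    obtain ⟨ω, hω, hn, -, -⟩ := central_scalar χ (z : G) (hDZ z.2)
    rw [← Equiv.sum_comp (Equiv.mulRight (z : G))
      (fun x : G => if p ∣ orderOf x then 0 else Complex.normSq ((χ : G → ℂ) x))]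
    refine Finset.sum_congr rfl fun g _ => ?_
    have e : (Equiv.mulRight (z : G)) g = g * (z : G) := rfl
    by_cases hd : p ∣ orderOf (g * (z : G))
    · rw [e, if_pos hd, if_pos hd]
    · rw [e, if_neg hd, if_neg hd, hω g, Complex.normSq_mul, hn, one_mul]
  have h2 : ∑ z : D, ∑ g : G, (if p ∣ orderOf (g * (z : G)) then 0
        else Complex.normSq ((χ : G → ℂ) g))
      = (Nat.card D : ℝ) * ∑ x : G, (if p ∣ orderOf x then 0
        else Complex.normSq ((χ : G → ℂ) x)) := by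
    rw [Finset.sum_congr rfl (fun z _ => h1 z), Finset.sum_const, Finset.card_univ,
      nsmul_eq_mul, Nat.card_eq_fintype_card]
  rw [← h2, Finset.sum_comm]
  refine Finset.sum_congr rfl fun g _ => ?_
  rw [Finset.mul_sum]
  refine Finset.sum_congr rfl fun z _ => ?_
  split_ifs <;> simp

/-- The main numeric step: `ctr p χ χ = p ^ ν_p(χ(1))`, and `χ` vanishes at every `g` such that
no `g z` (`z ∈ D`) is `p`-regular. -/
theorem vanish [Fintype G] (p : ℕ) [Fact p.Prime] (hM : IsPModular p M) (D : Subgroup G)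
    (hD : IsPGroup p D) (hDZ : D ≤ Subgroup.center G) (χ : IrrCharacter G)
    (hdeg : (charDegree (χ : G → ℂ)).factorization p = D.index.factorization p) :
    ctr p χ χ = (p : ℤ) ^ (charDegree (χ : G → ℂ)).factorization p ∧
      ∀ g : G, (χ : G → ℂ) g ≠ 0 → ∃ z : D, ¬ p ∣ orderOf (g * (z : G)) := by
  classical
  have hpp : p.Prime := Fact.out
  let _ : Fintype D := Fintype.ofFinite D
  obtain ⟨δ, hδ⟩ := IsPGroup.iff_card.mp hD
  have hab : (Nat.card G).factorization p
      = (charDegree (χ : G → ℂ)).factorization p + δ := by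
    have h1 := D.card_mul_index
    rw [← h1, Nat.factorization_mul Nat.card_pos.ne' Subgroup.index_ne_zero_of_finite,
      Finsupp.add_apply, hδ, hdeg, hpp.factorization_pow, Finsupp.single_eq_same]
    exact Nat.add_comm _ _
  obtain ⟨m, hm⟩ := pow_dvd_ctr p hM χ χ
  have hpos := ctr_self_pos p χ
  have hreal := ctr_self_real p χ
  have hcount := card_mul_sum p D hDZ χ
  have hN : ∀ g : G, ∑ z : D, (if p ∣ orderOf (g * (z : G)) then (0 : ℝ) else 1) ≤ 1 := by
    intro g
    by_cases hex : ∃ z : D, ¬ p ∣ orderOf (g * (z : G))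
    · obtain ⟨z₀, hz₀⟩ := hex
      rw [Finset.sum_eq_single z₀]
      · rw [if_neg hz₀]
      · intro z _ hne
        rw [if_pos]
        by_contra hnd
        exact hne (eq_of_pRegular_mul hpp D hD hDZ g z z₀ hnd hz₀)
      · intro h
        exact absurd (Finset.mem_univ _) h
    · push Not at hex
      rw [Finset.sum_eq_zero (fun z _ => if_pos (hex z))]
      exact zero_le_one
  have hsum := Cfsg.Agent.Lib.Helper80.Core.sum_normSq_eq_card χ
  have hle : (Nat.card D : ℝ)
      * ∑ x : G, (if p ∣ orderOf x then 0 else Complex.normSq ((χ : G → ℂ) x))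
      ≤ (Nat.card G : ℝ) := by
    rw [hcount, ← hsum]
    apply Finset.sum_le_sum
    intro g _
    calc Complex.normSq ((χ : G → ℂ) g)
          * ∑ z : D, (if p ∣ orderOf (g * (z : G)) then (0 : ℝ) else 1)
        ≤ Complex.normSq ((χ : G → ℂ) g) * 1 :=
          mul_le_mul_of_nonneg_left (hN g) (Complex.normSq_nonneg _)
      _ = Complex.normSq ((χ : G → ℂ) g) := mul_one _
  have hmX : (m : ℝ) * (Nat.card G : ℝ) = (Nat.card D : ℝ)
      * ∑ x : G, (if p ∣ orderOf x then 0 else Complex.normSq ((χ : G → ℂ) x)) := by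
    have hb0 : ((p : ℝ) ^ (charDegree (χ : G → ℂ)).factorization p) ≠ 0 :=
      pow_ne_zero _ (Nat.cast_ne_zero.mpr hpp.ne_zero)
    apply mul_left_cancel₀ hb0
    have h2 : ((ctr p χ χ : ℤ) : ℝ)
        = (p : ℝ) ^ (charDegree (χ : G → ℂ)).factorization p * (m : ℝ) := by
      rw [hm]
      push_cast
      ring
    rw [← mul_assoc, ← h2, hreal, hab, pow_add, hδ]
    push_cast
    ring
  have hGpos : (0 : ℝ) < (Nat.card G : ℝ) := Nat.cast_pos.mpr Nat.card_pos
  have hmpos : 0 < m := by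
    by_contra hneg
    push Not at hneg
    have h2 : ctr p χ χ ≤ 0 := by
      rw [hm]
      exact mul_nonpos_of_nonneg_of_nonpos (pow_nonneg (Int.natCast_nonneg p) _) hneg
    omega
  have hm1 : m = 1 := by
    have h1 : (m : ℝ) * (Nat.card G : ℝ) ≤ 1 * (Nat.card G : ℝ) := by
      rw [hmX, one_mul]
      exact hle
    have h2 : (m : ℝ) ≤ 1 := le_of_mul_le_mul_right h1 hGpos
    have h3 : m ≤ 1 := by exact_mod_cast h2
    omega
  refine ⟨by rw [hm, hm1, mul_one], ?_⟩
  intro g hg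
  by_contra hex
  push Not at hex
  have heq : (Nat.card D : ℝ)
      * ∑ x : G, (if p ∣ orderOf x then 0 else Complex.normSq ((χ : G → ℂ) x))
      = (Nat.card G : ℝ) := by
    rw [← hmX, hm1]
    push_cast
    ring
  have h3 : ∑ g : G, Complex.normSq ((χ : G → ℂ) g)
      * (1 - ∑ z : D, (if p ∣ orderOf (g * (z : G)) then (0 : ℝ) else 1)) = 0 := by
    simp only [mul_sub, mul_one]
    rw [Finset.sum_sub_distrib, hsum, ← hcount, heq, sub_self]
  have h4 : ∀ g ∈ (Finset.univ : Finset G), 0 ≤ Complex.normSq ((χ : G → ℂ) g)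
      * (1 - ∑ z : D, (if p ∣ orderOf (g * (z : G)) then (0 : ℝ) else 1)) :=
    fun g _ => mul_nonneg (Complex.normSq_nonneg _) (sub_nonneg.mpr (hN g))
  have h5 := (Finset.sum_eq_zero_iff_of_nonneg h4).mp h3 g (Finset.mem_univ _)
  rw [Finset.sum_eq_zero (fun z _ => if_pos (hex z)), sub_zero, mul_one] at h5
  exact hg (Complex.normSq_eq_zero.mp h5)

/-- The exponent of `p` in `|G|` is the exponent in `|G : D|` plus that in `|D|`. -/
theorem factorization_card [Finite G] (p : ℕ) [Fact p.Prime] (D : Subgroup G) (δ : ℕ)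
    (hδ : Nat.card D = p ^ δ) :
    (Nat.card G).factorization p = D.index.factorization p + δ := by
  have hpp : p.Prime := Fact.out
  have h1 := D.card_mul_index
  rw [← h1, Nat.factorization_mul Nat.card_pos.ne' Subgroup.index_ne_zero_of_finite,
    Finsupp.add_apply, hδ, hpp.factorization_pow, Finsupp.single_eq_same]
  exact Nat.add_comm _ _

/-- The companion character: an irreducible character `ψ₀` with `D` in its kernel and
`ψ₀(g) = ∑_{z ∈ D, g z p-regular} χ(g z)`. -/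
theorem exists_companion [Fintype G] (p : ℕ) [Fact p.Prime] (hM : IsPModular p M)
    (D : Subgroup G) [Fintype D] (hD : IsPGroup p D) (hDZ : D ≤ Subgroup.center G)
    (χ : IrrCharacter G)
    (hdeg : (charDegree (χ : G → ℂ)).factorization p = D.index.factorization p)
    [DecidablePred fun x : G => p ∣ orderOf x] :
    ∃ ψ₀ : IrrCharacter G, (∀ u ∈ D, (ψ₀ : G → ℂ) u = (ψ₀ : G → ℂ) 1) ∧
      ∀ g : G, (ψ₀ : G → ℂ) g = ∑ z : D, (if p ∣ orderOf (g * (z : G)) then 0
        else (χ : G → ℂ) (g * (z : G))) := by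
  classical
  have hpp : p.Prime := Fact.out
  have : Finite (IrrCharacter G) := Cfsg.Agent.Lib.CT.Wedderburn.finite_irrCharacter G
  let _ : Fintype (IrrCharacter G) := Fintype.ofFinite _
  have hDn : D.Normal := by
    constructor
    intro n hn g
    have h1 := Subgroup.mem_center_iff.mp (hDZ hn) g
    have e : g * n * g⁻¹ = n := by
      rw [h1]
      group
    rw [e]
    exact hn
  obtain ⟨hcc, -⟩ := vanish p hM D hD hDZ χ hdeg
  obtain ⟨δ, hδ⟩ := IsPGroup.iff_card.mp hD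
  have hab : (Nat.card G).factorization p
      = (charDegree (χ : G → ℂ)).factorization p + δ := by
    rw [hdeg]
    exact factorization_card p D δ hδ
  have hc : ∀ ψ : IrrCharacter G, ∃ c : ℤ,
      ctr p χ ψ = (p : ℤ) ^ (charDegree (χ : G → ℂ)).factorization p * c :=
    fun ψ => pow_dvd_ctr p hM χ ψ
  choose c hc using hc
  have hpC : (p : ℂ) ≠ 0 := Nat.cast_ne_zero.mpr hpp.ne_zero
  -- the value formula
  have hval : ∀ g : G, ∑ z : D, (if p ∣ orderOf (g * (z : G)) then 0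
        else (χ : G → ℂ) (g * (z : G)))
      = ∑ ψ : IrrCharacter G, (if ∀ u ∈ D, (ψ : G → ℂ) u = (ψ : G → ℂ) 1
          then (c ψ : ℂ) * (ψ : G → ℂ) g else 0) := by
    intro g
    have hpa : ((p ^ (Nat.card G).factorization p : ℕ) : ℂ) ≠ 0 := by
      push_cast
      exact pow_ne_zero _ hpC
    apply mul_left_cancel₀ hpa
    rw [Finset.mul_sum]
    have h1 : ∀ z : D, ((p ^ (Nat.card G).factorization p : ℕ) : ℂ)
        * (if p ∣ orderOf (g * (z : G)) then 0 else (χ : G → ℂ) (g * (z : G)))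
        = ∑ ψ : IrrCharacter G, (ctr p χ ψ : ℂ) * (ψ : G → ℂ) (g * (z : G)) := by
      intro z
      have h2 := congrFun (tw_eq_sum p χ) (g * (z : G))
      rw [tw_apply, Finset.sum_apply] at h2
      simp only [Pi.smul_apply, smul_eq_mul] at h2
      rw [← h2]
      by_cases hd : p ∣ orderOf (g * (z : G))
      · rw [if_pos hd, if_pos hd, mul_zero]
      · rw [if_neg hd, if_neg hd]
    rw [Finset.sum_congr rfl (fun z _ => h1 z), Finset.sum_comm, Finset.mul_sum]
    refine Finset.sum_congr rfl fun ψ _ => ?_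
    have h3 : ∀ z : D, (ψ : G → ℂ) (g * (z : G))
        = (ψ : G → ℂ) (z : G) / (ψ : G → ℂ) 1 * (ψ : G → ℂ) g := by
      intro z
      obtain ⟨ω, hω, -, -, hω1⟩ := central_scalar ψ (z : G) (hDZ z.2)
      have h1ne : (ψ : G → ℂ) 1 ≠ 0 := Cfsg.Agent.Lib.CT.Wedderburn.irr_apply_one_ne_zero ψ.2
      rw [hω g, hω1, mul_div_assoc, div_self h1ne, mul_one]
    rw [← Finset.mul_sum, Finset.sum_congr rfl (fun z _ => h3 z), ← Finset.sum_mul,
      ← Finset.sum_div, ← omega_nSum D (ψ : G → ℂ)]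
    by_cases htriv : ∀ u ∈ D, (ψ : G → ℂ) u = (ψ : G → ℂ) 1
    · rw [if_pos htriv, omega_nSum_of_trivial D ψ htriv, hc ψ, hδ, hab]
      push_cast
      ring
    · rw [if_neg htriv, omega_nSum_of_not_trivial D ψ htriv]
      ring
  -- values at `p`-regular elements
  have hreg : ∀ g : G, ¬ p ∣ orderOf g → ∑ z : D, (if p ∣ orderOf (g * (z : G)) then 0
        else (χ : G → ℂ) (g * (z : G))) = (χ : G → ℂ) g := by
    intro g hg
    have hg1 : ¬ p ∣ orderOf (g * ((1 : D) : G)) := by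
      rw [OneMemClass.coe_one, mul_one]
      exact hg
    rw [Finset.sum_eq_single (1 : D)]
    · rw [if_neg hg1, OneMemClass.coe_one, mul_one]
    · intro z _ hne
      rw [if_pos]
      by_contra hnd
      exact hne (eq_of_pRegular_mul hpp D hD hDZ g z 1 hnd hg1)
    · intro h
      exact absurd (Finset.mem_univ _) h
  -- the sum of squares
  have hsq : ∑ ψ : IrrCharacter G, (if ∀ u ∈ D, (ψ : G → ℂ) u = (ψ : G → ℂ) 1
      then c ψ ^ 2 else 0) = 1 := by
    have hb0 : ((p : ℂ) ^ (charDegree (χ : G → ℂ)).factorization p) ≠ 0 := pow_ne_zero _ hpC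
    have key : ((p : ℂ) ^ (charDegree (χ : G → ℂ)).factorization p)
        * ((∑ ψ : IrrCharacter G, (if ∀ u ∈ D, (ψ : G → ℂ) u = (ψ : G → ℂ) 1
          then c ψ ^ 2 else 0) : ℤ) : ℂ)
        = ((p : ℂ) ^ (charDegree (χ : G → ℂ)).factorization p) * ((1 : ℤ) : ℂ) := by
      have h1 : ∀ ψ : IrrCharacter G,
          ((p : ℂ) ^ (charDegree (χ : G → ℂ)).factorization p)
            * (((if ∀ u ∈ D, (ψ : G → ℂ) u = (ψ : G → ℂ) 1 then c ψ ^ 2 else 0 : ℤ)) : ℂ)
          = (if ∀ u ∈ D, (ψ : G → ℂ) u = (ψ : G → ℂ) 1 then (c ψ : ℂ) else 0)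
            * classInner (tw p ((p ^ (Nat.card G).factorization p : ℕ) : ℂ) (χ : G → ℂ))
                (ψ : G → ℂ) := by
        intro ψ
        rw [ctr_spec, hc ψ]
        by_cases ht : ∀ u ∈ D, (ψ : G → ℂ) u = (ψ : G → ℂ) 1
        · rw [if_pos ht, if_pos ht]
          push_cast
          ring
        · rw [if_neg ht, if_neg ht]
          push_cast
          ring
      rw [Int.cast_sum, Finset.mul_sum, Finset.sum_congr rfl (fun ψ _ => h1 ψ)]
      unfold classInner
      have h2 : ∀ ψ : IrrCharacter G,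
          (if ∀ u ∈ D, (ψ : G → ℂ) u = (ψ : G → ℂ) 1 then (c ψ : ℂ) else 0)
            * ((Nat.card G : ℂ)⁻¹ * ∑ g : G,
                tw p ((p ^ (Nat.card G).factorization p : ℕ) : ℂ) (χ : G → ℂ) g
                  * conj ((ψ : G → ℂ) g))
          = (Nat.card G : ℂ)⁻¹ * ∑ g : G,
              tw p ((p ^ (Nat.card G).factorization p : ℕ) : ℂ) (χ : G → ℂ) g
                * conj (if ∀ u ∈ D, (ψ : G → ℂ) u = (ψ : G → ℂ) 1
                    then (c ψ : ℂ) * (ψ : G → ℂ) g else 0) := by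
        intro ψ
        rw [mul_left_comm, Finset.mul_sum]
        congr 1
        refine Finset.sum_congr rfl fun g _ => ?_
        by_cases ht : ∀ u ∈ D, (ψ : G → ℂ) u = (ψ : G → ℂ) 1
        · rw [if_pos ht, if_pos ht, map_mul, map_intCast]
          ring
        · rw [if_neg ht, if_neg ht, map_zero, zero_mul, mul_zero]
      rw [Finset.sum_congr rfl (fun ψ _ => h2 ψ), ← Finset.mul_sum, Finset.sum_comm]
      have h3 : ∀ g : G, ∑ ψ : IrrCharacter G,
            tw p ((p ^ (Nat.card G).factorization p : ℕ) : ℂ) (χ : G → ℂ) g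
              * conj (if ∀ u ∈ D, (ψ : G → ℂ) u = (ψ : G → ℂ) 1
                  then (c ψ : ℂ) * (ψ : G → ℂ) g else 0)
          = tw p ((p ^ (Nat.card G).factorization p : ℕ) : ℂ) (χ : G → ℂ) g
              * conj ((χ : G → ℂ) g) := by
        intro g
        rw [← Finset.mul_sum, ← map_sum, ← hval g, tw_apply]
        by_cases hd : p ∣ orderOf g
        · rw [if_pos hd, zero_mul, zero_mul]
        · rw [if_neg hd, hreg g hd]
      rw [Finset.sum_congr rfl (fun g _ => h3 g)]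
      have h4 := ctr_spec p χ χ
      unfold classInner at h4
      rw [h4, hcc]
      push_cast
      ring
    have h5 := mul_left_cancel₀ hb0 key
    exact_mod_cast h5
  -- the unique character
  have hex : ∃ ψ₀ : IrrCharacter G, (∀ u ∈ D, (ψ₀ : G → ℂ) u = (ψ₀ : G → ℂ) 1) ∧ c ψ₀ ≠ 0 := by
    by_contra hno
    push Not at hno
    have h0 : ∑ ψ : IrrCharacter G, (if ∀ u ∈ D, (ψ : G → ℂ) u = (ψ : G → ℂ) 1
        then c ψ ^ 2 else 0) = 0 := by
      apply Finset.sum_eq_zero
      intro ψ _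
      by_cases ht : ∀ u ∈ D, (ψ : G → ℂ) u = (ψ : G → ℂ) 1
      · rw [if_pos ht, hno ψ ht]
        rfl
      · rw [if_neg ht]
    rw [h0] at hsq
    exact zero_ne_one hsq
  obtain ⟨ψ₀, htriv₀, hc₀⟩ := hex
  have hsplit := Finset.add_sum_erase Finset.univ
    (fun ψ : IrrCharacter G => if ∀ u ∈ D, (ψ : G → ℂ) u = (ψ : G → ℂ) 1 then c ψ ^ 2 else 0)
    (Finset.mem_univ ψ₀)
  have hnn : ∀ ψ ∈ (Finset.univ : Finset (IrrCharacter G)).erase ψ₀,
      0 ≤ (if ∀ u ∈ D, (ψ : G → ℂ) u = (ψ : G → ℂ) 1 then c ψ ^ 2 else 0) := by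
    intro ψ _
    by_cases ht : ∀ u ∈ D, (ψ : G → ℂ) u = (ψ : G → ℂ) 1
    · rw [if_pos ht]
      exact sq_nonneg _
    · rw [if_neg ht]
  have hrest_nonneg := Finset.sum_nonneg hnn
  have hc1 : 1 ≤ c ψ₀ ^ 2 := by
    rcases lt_or_gt_of_ne hc₀ with h | h <;> nlinarith
  simp only [if_pos htriv₀] at hsplit
  rw [hsq] at hsplit
  have hrest0 : ∑ ψ ∈ (Finset.univ : Finset (IrrCharacter G)).erase ψ₀,
      (if ∀ u ∈ D, (ψ : G → ℂ) u = (ψ : G → ℂ) 1 then c ψ ^ 2 else 0) = 0 := by linarith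
  have hcsq : c ψ₀ ^ 2 = 1 := by linarith
  have hothers : ∀ ψ : IrrCharacter G, ψ ≠ ψ₀ → (∀ u ∈ D, (ψ : G → ℂ) u = (ψ : G → ℂ) 1) →
      c ψ = 0 := by
    intro ψ hne ht
    have h1 := (Finset.sum_eq_zero_iff_of_nonneg hnn).mp hrest0 ψ
      (Finset.mem_erase.mpr ⟨hne, Finset.mem_univ _⟩)
    rw [if_pos ht] at h1
    exact pow_eq_zero_iff (two_ne_zero) |>.mp h1
  have hη : ∀ g : G, ∑ z : D, (if p ∣ orderOf (g * (z : G)) then 0
        else (χ : G → ℂ) (g * (z : G))) = (c ψ₀ : ℂ) * (ψ₀ : G → ℂ) g := by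
    intro g
    rw [hval g, Finset.sum_eq_single ψ₀]
    · rw [if_pos htriv₀]
    · intro ψ _ hne
      by_cases ht : ∀ u ∈ D, (ψ : G → ℂ) u = (ψ : G → ℂ) 1
      · rw [if_pos ht, hothers ψ hne ht, Int.cast_zero, zero_mul]
      · rw [if_neg ht]
    · intro h
      exact absurd (Finset.mem_univ _) h
  have hc1' : c ψ₀ = 1 := by
    have h1 : (c ψ₀ - 1) * (c ψ₀ + 1) = 0 := by
      have : (c ψ₀ - 1) * (c ψ₀ + 1) = c ψ₀ ^ 2 - 1 := by ring
      rw [this, hcsq, sub_self]
    rcases mul_eq_zero.mp h1 with h | h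
    · exact sub_eq_zero.mp h
    · exfalso
      have hcm : c ψ₀ = -1 := eq_neg_of_add_eq_zero_left h
      have h2 := hη 1
      rw [hreg 1 (by
        rw [orderOf_one]
        exact fun hd => hpp.one_lt.ne' (Nat.dvd_one.mp hd)), hcm,
        ← Cfsg.Agent.Lib.CT.Wedderburn.char_natCast_charDegree
          (Cfsg.Agent.Lib.CT.Wedderburn.isCharacter_of_irr χ.2),
        ← Cfsg.Agent.Lib.CT.Wedderburn.char_natCast_charDegree
          (Cfsg.Agent.Lib.CT.Wedderburn.isCharacter_of_irr ψ₀.2)] at h2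
      have h3 : ((charDegree (χ : G → ℂ) + charDegree (ψ₀ : G → ℂ) : ℕ) : ℂ) = 0 := by
        push_cast
        rw [h2]
        push_cast
        ring
      have h4 : charDegree (χ : G → ℂ) + charDegree (ψ₀ : G → ℂ) = 0 := by exact_mod_cast h3
      have := Cfsg.Agent.Lib.Helper80.Integrality.charDegree_pos χ
      omega
  refine ⟨ψ₀, htriv₀, fun g => ?_⟩
  rw [hη g, hc1', Int.cast_one, one_mul]

/-- At a `p`-regular element the translated sum is the value of `χ`. -/
theorem sum_of_pRegular [Finite G] (p : ℕ) [Fact p.Prime] (D : Subgroup G) [Fintype D]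
    (hD : IsPGroup p D) (hDZ : D ≤ Subgroup.center G) (χ : IrrCharacter G)
    [DecidablePred fun x : G => p ∣ orderOf x] (g : G) (hg : ¬ p ∣ orderOf g) :
    ∑ z : D, (if p ∣ orderOf (g * (z : G)) then 0 else (χ : G → ℂ) (g * (z : G)))
      = (χ : G → ℂ) g := by
  classical
  have hpp : p.Prime := Fact.out
  have hg1 : ¬ p ∣ orderOf (g * ((1 : D) : G)) := by
    rw [OneMemClass.coe_one, mul_one]
    exact hg
  rw [Finset.sum_eq_single (1 : D)]
  · rw [if_neg hg1, OneMemClass.coe_one, mul_one]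
  · intro z _ hne
    rw [if_pos]
    by_contra hnd
    exact hne (eq_of_pRegular_mul hpp D hD hDZ g z 1 hnd hg1)
  · intro h
    exact absurd (Finset.mem_univ _) h

/-- The companion character lies in the block of `χ`. -/
theorem sameBlock_companion [Fintype G] (p : ℕ) [Fact p.Prime] (hM : IsPModular p M)
    (D : Subgroup G) [Fintype D] (hD : IsPGroup p D) (hDZ : D ≤ Subgroup.center G)
    (χ : IrrCharacter G)
    (hdeg : (charDegree (χ : G → ℂ)).factorization p = D.index.factorization p)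
    [DecidablePred fun x : G => p ∣ orderOf x] (ψ₀ : IrrCharacter G)
    (hψ₀ : ∀ g : G, (ψ₀ : G → ℂ) g = ∑ z : D, (if p ∣ orderOf (g * (z : G)) then 0
        else (χ : G → ℂ) (g * (z : G)))) :
    SameBlock M (χ : G → ℂ) (ψ₀ : G → ℂ) := by
  classical
  have hpp : p.Prime := Fact.out
  have hMp := isPrime_of_isPModular hM
  obtain ⟨-, hvan⟩ := vanish p hM D hD hDZ χ hdeg
  have h1 : (ψ₀ : G → ℂ) 1 = (χ : G → ℂ) 1 := by
    rw [hψ₀ 1]
    exact sum_of_pRegular p D hD hDZ χ 1 (by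
      rw [orderOf_one]
      exact fun hd => hpp.one_lt.ne' (Nat.dvd_one.mp hd))
  intro g
  unfold centralChar
  by_cases hex : ∃ z : D, ¬ p ∣ orderOf (g * (z : G))
  · obtain ⟨z₀, hz₀⟩ := hex
    have h2 : (ψ₀ : G → ℂ) g = (χ : G → ℂ) (g * (z₀ : G)) := by
      rw [hψ₀ g, Finset.sum_eq_single z₀]
      · rw [if_neg hz₀]
      · intro z _ hne
        rw [if_pos]
        by_contra hnd
        exact hne (eq_of_pRegular_mul hpp D hD hDZ g z z₀ hnd hz₀)
      · intro h
        exact absurd (Finset.mem_univ _) h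
    obtain ⟨ω, hω, -, hroot, -⟩ := central_scalar χ (z₀ : G) (hDZ z₀.2)
    obtain ⟨k, hk⟩ := (IsPGroup.iff_orderOf.mp hD) z₀
    have hωp : ω ^ p ^ k = 1 := hroot _ (by
      rw [← hk, ← Subgroup.orderOf_coe]
      exact pow_orderOf_eq_one _)
    have hJ := Cfsg.Agent.Lib.Helper16.PSection.memLocalIdeal_sub_one_of_pow_eq_one hM ω k hωp
    rw [h2, hω g, h1]
    have e : ((Subgroup.centralizer ({g} : Set G)).index : ℂ) * (χ : G → ℂ) g / (χ : G → ℂ) 1
          - ((Subgroup.centralizer ({g} : Set G)).index : ℂ) * (ω * (χ : G → ℂ) g)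
            / (χ : G → ℂ) 1
        = -((ω - 1) * centralChar (χ : G → ℂ) g) := by
      unfold centralChar
      ring
    rw [e]
    exact memLocalIdeal_neg (memLocalIdeal_mul_right hMp hJ (memLocalRing_of_isIntegral hMp
      (Cfsg.Agent.Lib.Helper77.ClassSum.isIntegral_centralChar χ.2 g)))
  · push Not at hex
    have h2 : (ψ₀ : G → ℂ) g = 0 := by
      rw [hψ₀ g]
      exact Finset.sum_eq_zero (fun z _ => if_pos (hex z))
    have h3 : (χ : G → ℂ) g = 0 := by
      by_contra hne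
      obtain ⟨z, hz⟩ := hvan g hne
      exact hz (hex z)
    rw [h2, h3, mul_zero, zero_div, zero_div, sub_zero]
    exact memLocalIdeal_zero hMp

/-- **Laradji.** `D` is a defect group of the block of `χ`. -/
theorem defectGroup [Finite G] (p : ℕ) [Fact p.Prime] (hM : IsPModular p M) (D : Subgroup G)
    (hD : IsPGroup p D) (hDZ : D ≤ Subgroup.center G) (χ : IrrCharacter G)
    (hdeg : (charDegree (χ : G → ℂ)).factorization p = D.index.factorization p) :
    IsDefectGroup p M (blockOf M (χ : G → ℂ)) D := by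
  classical
  have hpp : p.Prime := Fact.out
  have hMp := isPrime_of_isPModular hM
  let _ : Fintype G := Fintype.ofFinite G
  let _ : Fintype D := Fintype.ofFinite D
  have hDn : D.Normal := by
    constructor
    intro n hn g
    have h1 := Subgroup.mem_center_iff.mp (hDZ hn) g
    have e : g * n * g⁻¹ = n := by
      rw [h1]
      group
    rw [e]
    exact hn
  obtain ⟨ψ₀, htriv, hψ₀⟩ := exists_companion p hM D hD hDZ χ hdeg
  have hsame := sameBlock_companion p hM D hD hDZ χ hdeg ψ₀ hψ₀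
  have hψ₀1 : (ψ₀ : G → ℂ) 1 = (χ : G → ℂ) 1 := by
    rw [hψ₀ 1]
    exact sum_of_pRegular p D hD hDZ χ 1 (by
      rw [orderOf_one]
      exact fun hd => hpp.one_lt.ne' (Nat.dvd_one.mp hd))
  have hB : IsPBlock M (blockOf M (χ : G → ℂ)) := ⟨χ, rfl⟩
  have hψB : ψ₀ ∈ blockOf M (χ : G → ℂ) := hsame
  obtain ⟨Bbar, hBbar, hsub, hdef⟩ :=
    exists_block_quot p hM D hD (blockOf M (χ : G → ℂ)) hB
  obtain ⟨ξ, hξ⟩ := Cfsg.Agent.Lib.CT.DefectZeroBlock.isPBlock_nonempty hMp hBbar
  obtain ⟨ψbar, hψbar⟩ := Cfsg.Agent.Lib.Helper82.RankQuot.exists_infl_eq D ψ₀ htriv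
  have hξB : Cfsg.Agent.Lib.Helper82.RankQuot.infl D ξ ∈ blockOf M (χ : G → ℂ) :=
    hsub ξ hξ (Cfsg.Agent.Lib.Helper82.RankQuot.infl D ξ)
      (funext fun g => Cfsg.Agent.Lib.Helper82.RankQuot.infl_apply D ξ g)
  have hs1 : SameBlock M (Cfsg.Agent.Lib.Helper82.RankQuot.infl D ξ : G → ℂ)
      (Cfsg.Agent.Lib.Helper82.RankQuot.infl D ψbar : G → ℂ) := by
    rw [hψbar]
    exact Cfsg.Agent.Lib.Helper16.ZR.sameBlock_of_mem hMp hB hξB hψB
  have hsup : D ⊔ Subgroup.centralizer (D : Set G) = ⊤ := by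
    have h1 : Subgroup.centralizer (D : Set G) = ⊤ := by
      rw [eq_top_iff]
      intro g _
      rw [Subgroup.mem_centralizer_iff]
      intro d hd
      exact (Subgroup.mem_center_iff.mp (hDZ hd) g).symm
    rw [h1, sup_top_eq]
  have hs2 := (Cfsg.Agent.Lib.Helper82.RankQuot.sameBlock_infl_iff p M hM D hD hsup ξ ψbar).mp hs1
  have hψbarB : ψbar ∈ Bbar := by
    rw [Cfsg.Agent.Lib.CT.DefectZeroBlock.eq_blockOf_of_mem hMp hBbar hξ]
    exact hs2
  have hdegbar : (charDegree (ψbar : G ⧸ D → ℂ)).factorization p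
      = (Nat.card (G ⧸ D)).factorization p := by
    have e1 : charDegree (ψbar : G ⧸ D → ℂ) = charDegree (χ : G → ℂ) := by
      unfold charDegree
      have h2 : (ψbar : G ⧸ D → ℂ) 1 = (χ : G → ℂ) 1 := by
        have h1 := Cfsg.Agent.Lib.Helper82.RankQuot.infl_apply D ψbar 1
        rw [hψbar] at h1
        rw [← hψ₀1, h1]
        rfl
      rw [h2]
    rw [e1, hdeg, Subgroup.index_eq_card]
  have hsing : Bbar = {ψbar} := by
    rw [Cfsg.Agent.Lib.CT.DefectZeroBlock.eq_blockOf_of_mem hMp hBbar hψbarB]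
    exact Cfsg.Agent.Lib.CT.DefectZeroBlock.blockOf_eq_singleton_of_defect_zero hM ψbar hdegbar
  have hd0 : blockDefect p Bbar = 0 := by
    rw [Cfsg.Agent.Lib.CT.DefectZeroBlock.blockDefect_eq_zero_iff p Bbar ⟨ψbar, hψbarB⟩]
    intro χ' hχ'
    rw [hsing] at hχ'
    rw [Set.mem_singleton_iff.mp hχ']
    exact hdegbar
  obtain ⟨Dbar, hDbar⟩ := Cfsg.Agent.Lib.Helper16.MinMax.exists_defectGroup hM Bbar hBbar
  have hcard := Cfsg.Agent.Lib.Helper16.Defect.card_defectGroup p hM Bbar hBbar Dbar hDbar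
  rw [hd0, pow_zero] at hcard
  have hbot : Dbar = ⊥ := Subgroup.card_eq_one.mp hcard
  obtain ⟨P, hP, hPmap⟩ := (hdef Dbar).mp hDbar
  have hPD : P ≤ D := by
    intro x hx
    have h1 : (QuotientGroup.mk' D) x ∈ P.map (QuotientGroup.mk' D) :=
      Subgroup.mem_map_of_mem _ hx
    rw [← hPmap, hbot, Subgroup.mem_bot] at h1
    exact (QuotientGroup.eq_one_iff x).mp h1
  have hDP : D ≤ P := (Cfsg.Agent.Lib.Helper78.Fitting.le_pCore hDn hD).trans
    (Cfsg.Agent.S0912.result p M hM _ hB P hP)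
  rw [le_antisymm hDP hPD]
  exact hP

/-- **Laradji.** `χ` vanishes at every element whose `p`-part lies outside `D`. -/
theorem vanish_of_pPart [Finite G] (p : ℕ) [Fact p.Prime] (hM : IsPModular p M)
    (D : Subgroup G) (hD : IsPGroup p D) (hDZ : D ≤ Subgroup.center G) (χ : IrrCharacter G)
    (hdeg : (charDegree (χ : G → ℂ)).factorization p = D.index.factorization p)
    (g x : G) (hx : IsPPart p g x) (hxD : x ∉ D) : (χ : G → ℂ) g = 0 := by
  classical
  have hpp : p.Prime := Fact.out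
  let _ : Fintype G := Fintype.ofFinite G
  obtain ⟨-, hvan⟩ := vanish p hM D hD hDZ χ hdeg
  by_contra hne
  obtain ⟨z, hz⟩ := hvan g hne
  obtain ⟨y, hxy, hc, ⟨k, hk⟩, hy⟩ := hx
  obtain ⟨j, hj⟩ := (IsPGroup.iff_orderOf.mp hD) z
  have hzc : ∀ h : G, h * (z : G) = (z : G) * h := Subgroup.mem_center_iff.mp (hDZ z.2)
  -- `x z` is a `p`-element
  have hpow : (x * (z : G)) ^ (p ^ (k + j)) = 1 := by
    have hcx : Commute x (z : G) := hzc x
    have hx1 : x ^ (p ^ (k + j)) = 1 := by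
      rw [pow_add, pow_mul, ← hk, pow_orderOf_eq_one, one_pow]
    have hz1 : (z : G) ^ (p ^ (k + j)) = 1 := by
      rw [pow_add, mul_comm, pow_mul, ← hj, ← Subgroup.orderOf_coe, pow_orderOf_eq_one, one_pow]
    rw [hcx.mul_pow, hx1, hz1, one_mul]
  obtain ⟨i, -, hi⟩ := (Nat.dvd_prime_pow hpp).mp (orderOf_dvd_of_pow_eq_one hpow)
  apply hxD
  by_cases h1 : x * (z : G) = 1
  · have h2 : x = ((z⁻¹ : D) : G) := by
      rw [Subgroup.coe_inv]
      exact eq_inv_of_mul_eq_one_left h1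
    rw [h2]
    exact (z⁻¹).2
  · exfalso
    have hc2 : Commute y (x * (z : G)) := by
      have h3 : Commute y (z : G) := hzc y
      exact (hc.symm).mul_right h3
    have h4 := dvd_orderOf_mul_of_commute hpp y (x * (z : G)) hc2 hy h1 hi
    have h5 : y * (x * (z : G)) = g * (z : G) := by
      rw [← hxy, ← mul_assoc, hc.symm.eq]
    rw [h5] at h4
    exact hz h4

end Cfsg.Agent.Lib.Helper16.Laradji
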