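import Mathlib
import Cfsg.Prelude.Def_Blocks
import Cfsg.Agent.Lib.CT.Kernel
import Cfsg.Agent.Lib.CT.DefectZeroBlock
import Cfsg.Agent.Lib.Helper16.Fong
import Cfsg.Agent.Lib.Helper16.Normal
import Cfsg.Agent.Lib.Helper16.Defect
import Cfsg.Agent.Lib.Helper16.MinMax
import Cfsg.Agent.S0912

/-!
# Characters of defect zero modulo a normal `p`-subgroup
-/

set_option autoImplicit false

namespace Cfsg.Agent.Lib.Helper16.Weight

open Cfsg Cfsg.Agent.Lib.Helper77.LocalRing Cfsg.Agent.Lib.Helper77.CentralChar
  Cfsg.Agent.Lib.Helper77.ClassSum Cfsg.Agent.Lib.Helper77.BlockIdem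
  Cfsg.Agent.Lib.CT.Wedderburn Cfsg.Agent.Lib.Helper16.ZR
  Cfsg.Agent.Lib.Helper16.MinMax Cfsg.Agent.Lib.Helper16.Normal
  Cfsg.Agent.Lib.Helper16.Fong Cfsg.Agent.Lib.Helper16.Defect

universe u
variable {M : Ideal AlgInt}

/-- Summing a function of the image over the source of a surjective homomorphism. -/
theorem sum_comp_surjective {X Y : Type*} [Group X] [Group Y] [Fintype X] [Fintype Y]
    (π : X →* Y) (hπ : Function.Surjective π) (F : Y → ℂ) :
    ∑ x : X, F (π x) = (Nat.card π.ker : ℂ) * ∑ y : Y, F y := by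
  classical
  have hfib : ∀ y : Y, (Finset.univ.filter (fun x : X => π x = y)).card = Nat.card π.ker := by
    intro y
    have h1 := MonoidHom.card_fiber_eq_of_mem_range π (x := y) (y := 1)
      (hπ y) ⟨1, map_one π⟩
    rw [h1, Nat.card_eq_fintype_card, Fintype.card_subtype]
    congr 1
    ext x
    simp [MonoidHom.mem_ker]
  rw [← Finset.sum_fiberwise (s := Finset.univ) (g := fun x => π x) (f := fun x => F (π x)),
    Finset.mul_sum]
  apply Finset.sum_congr rfl
  intro y _
  rw [Finset.sum_congr rfl (fun x hx => by rw [(Finset.mem_filter.mp hx).2] :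
    ∀ x ∈ Finset.univ.filter (fun x : X => π x = y), F (π x) = F y),
    Finset.sum_const, hfib, nsmul_eq_mul]

theorem card_eq_ker_mul {X Y : Type*} [Group X] [Group Y] [Finite X]
    (π : X →* Y) (hπ : Function.Surjective π) :
    Nat.card X = Nat.card π.ker * Nat.card Y := by
  have h1 := Subgroup.card_mul_index π.ker
  rw [Subgroup.index_ker, MonoidHom.range_eq_top.mpr hπ, Subgroup.card_top] at h1
  exact h1.symm

/-- The inner product is unchanged by composition with a surjective homomorphism. -/
theorem classInner_comp_surjective {X Y : Type u} [Group X] [Group Y] [Fintype X] [Fintype Y]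
    (π : X →* Y) (hπ : Function.Surjective π) (φ ψ : Y → ℂ) :
    classInner (fun x : X => φ (π x)) (fun x : X => ψ (π x)) = classInner φ ψ := by
  unfold classInner
  rw [sum_comp_surjective π hπ (fun y => φ y * (starRingEnd ℂ) (ψ y)), card_eq_ker_mul π hπ]
  have hk : (Nat.card π.ker : ℂ) ≠ 0 := by
    exact_mod_cast Nat.card_pos.ne'
  have hy : (Nat.card Y : ℂ) ≠ 0 := by
    exact_mod_cast Nat.card_pos.ne'
  push_cast
  field_simp

theorem centralizer_le_comap_hom {X Y : Type*} [Group X] [Group Y] (f : X →* Y) (g : X) :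
    Subgroup.centralizer ({g} : Set X) ≤
      (Subgroup.centralizer ({f g} : Set Y)).comap f := by
  intro x hx
  rw [Subgroup.mem_comap, Subgroup.mem_centralizer_iff]
  intro y hy
  rw [Set.mem_singleton_iff] at hy
  subst hy
  have := Subgroup.mem_centralizer_iff.mp hx g rfl
  rw [← map_mul, ← map_mul, this]

/-- Central characters under composition with a surjective homomorphism. -/
theorem centralChar_comp_hom {X Y : Type*} [Group X] [Group Y] [Finite X]
    (f : X →* Y) (hf : Function.Surjective f) (g : X) (φ : Y → ℂ) :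
    centralChar (fun x : X => φ (f x)) g
      = (((Subgroup.centralizer ({g} : Set X)).relIndex
          ((Subgroup.centralizer ({f g} : Set Y)).comap f) : ℕ) : ℂ)
        * centralChar φ (f g) := by
  have hle := centralizer_le_comap_hom f g
  have hidx : ((Subgroup.centralizer ({f g} : Set Y)).comap f).index
      = (Subgroup.centralizer ({f g} : Set Y)).index :=
    Subgroup.index_comap_of_surjective _ hf
  have hm := Subgroup.relIndex_mul_index hle
  rw [hidx] at hm
  unfold centralChar
  rw [← hm]
  push_cast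
  rw [map_one]
  ring

/-- The idempotents of a set of characters and of its complement add up to one. -/
theorem blockIdem_add_compl {N : Type u} [Group N] [Finite N] (S : Set (IrrCharacter N)) :
    blockIdem S + blockIdem Sᶜ = 1 := by
  classical
  apply eq_of_omega_eq
  · exact Subalgebra.add_mem _ (blockIdem_mem_center S) (blockIdem_mem_center Sᶜ)
  · exact Subalgebra.one_mem _
  · intro ψ
    rw [omega_add, omega_blockIdem, omega_blockIdem, omega_one_irr ψ.2]
    by_cases h : ψ ∈ S
    · rw [if_pos h, if_neg (fun h' => h' h), add_zero]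
    · rw [if_neg h, if_pos (show ψ ∈ Sᶜ from h), zero_add]

/-- If the idempotent of `S` acts as the identity on `χ`, every constituent of the restriction
of `χ` lies in `S`. -/
theorem constituent_mem {G : Type u} [Group G] [Fintype G] (N : Subgroup G) [Fintype N]
    (S : Set (IrrCharacter N)) (χ : IrrCharacter G)
    (h1 : omega (χ : G → ℂ) (iota N (blockIdem S)) = 1) (θ : IrrCharacter N)
    (hθ : classInner (fun n : N => (χ : G → ℂ) n) (θ : N → ℂ) ≠ 0) : θ ∈ S := by
  by_contra hn
  have h2 := omega_iota_blockIdem_ne_zero N Sᶜ χ ⟨θ, hn, hθ⟩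
  apply h2
  have h3 : iota N (blockIdem S) + iota N (blockIdem Sᶜ) = 1 := by
    rw [← map_add, blockIdem_add_compl, map_one]
  have h4 : omega (χ : G → ℂ) (iota N (blockIdem S) + iota N (blockIdem Sᶜ)) = 1 := by
    rw [h3, omega_one_irr χ.2]
  rw [omega_add, h1] at h4
  exact add_left_cancel (h4.trans (add_zero 1).symm)

/-- A block containing a character inflated, along a surjection with central kernel, from a
character of defect zero has defect at most the `p`-part of the kernel. -/
theorem blockDefect_le_of_comp {X Y : Type u} [Group X] [Group Y] [Finite X] [Finite Y]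
    (p : ℕ) [Fact p.Prime] (hM : IsPModular p M) (f : X →* Y) (hf : Function.Surjective f)
    (hker : f.ker ≤ Subgroup.center X) (ψ : IrrCharacter Y)
    (hψ : (charDegree (ψ : Y → ℂ)).factorization p = (Nat.card Y).factorization p)
    (e : Set (IrrCharacter X)) (he : IsPBlock M e) (θ : IrrCharacter X) (hθ : θ ∈ e)
    (hθψ : ∀ x : X, (θ : X → ℂ) x = (ψ : Y → ℂ) (f x)) :
    blockDefect p e ≤ (Nat.card f.ker).factorization p := by
  classical
  have hp : p.Prime := Fact.out
  have hMp := isPrime_of_isPModular hM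
  have hB : blockOf M (ψ : Y → ℂ) = {ψ} :=
    Cfsg.Agent.Lib.CT.DefectZeroBlock.blockOf_eq_singleton_of_defect_zero hM ψ hψ
  have hBb : IsPBlock M (blockOf M (ψ : Y → ℂ)) := isPBlock_blockOf ψ
  obtain ⟨y, hy⟩ := exists_defectClass hMp (blockOf M (ψ : Y → ℂ)) hBb
  have hd0 : blockDefect p (blockOf M (ψ : Y → ℂ)) = 0 := by
    rw [Cfsg.Agent.Lib.CT.DefectZeroBlock.blockDefect_eq_zero_iff p _ ⟨ψ, mem_blockOf_self hMp ψ⟩]
    intro χ hχ
    rw [hB] at hχ
    rw [Set.mem_singleton_iff.mp hχ]
    exact hψ
  have hcy : (Nat.card (Subgroup.centralizer ({y} : Set Y))).factorization p = 0 := by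
    have := le_blockDefect_of_blockCoeff p hM _ hBb y hy.2.1
    omega
  obtain ⟨x, rfl⟩ := hf y
  have hcc := centralChar_comp_hom f hf x (ψ : Y → ℂ)
  have hfun : (fun x : X => (ψ : Y → ℂ) (f x)) = (θ : X → ℂ) := by
    funext x
    exact (hθψ x).symm
  rw [hfun] at hcc
  -- orders
  have hle := centralizer_le_comap_hom f x
  have hcard := card_eq_ker_mul f hf
  have hidx : ((Subgroup.centralizer ({f x} : Set Y)).comap f).index
      = (Subgroup.centralizer ({f x} : Set Y)).index :=
    Subgroup.index_comap_of_surjective _ hf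
  have hc1 := Subgroup.card_mul_index ((Subgroup.centralizer ({f x} : Set Y)).comap f)
  have hc2 := Subgroup.card_mul_index (Subgroup.centralizer ({f x} : Set Y))
  have hXpos : 0 < Nat.card X := Nat.card_pos
  have hYpos : 0 < Nat.card Y := Nat.card_pos
  have hcomap : Nat.card ((Subgroup.centralizer ({f x} : Set Y)).comap f)
      = Nat.card f.ker * Nat.card (Subgroup.centralizer ({f x} : Set Y)) := by
    have hi : 0 < (Subgroup.centralizer ({f x} : Set Y)).index := Nat.pos_of_ne_zero
      (Subgroup.index_ne_zero_of_finite)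
    apply Nat.eq_of_mul_eq_mul_right hi
    rw [mul_assoc, hc2, ← hcard, ← hidx, hc1]
  have hrel := Subgroup.relIndex_mul_index hle
  have hc3 := Subgroup.card_mul_index (Subgroup.centralizer ({x} : Set X))
  set m := (Subgroup.centralizer ({x} : Set X)).relIndex
    ((Subgroup.centralizer ({f x} : Set Y)).comap f) with hm
  have hci : 0 < ((Subgroup.centralizer ({f x} : Set Y)).comap f).index := Nat.pos_of_ne_zero
    (Subgroup.index_ne_zero_of_finite)
  have hprod : Nat.card f.ker * Nat.card (Subgroup.centralizer ({f x} : Set Y))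
      = Nat.card (Subgroup.centralizer ({x} : Set X)) * m := by
    apply Nat.eq_of_mul_eq_mul_right hci
    rw [← hcomap, hc1, mul_assoc, hrel, hc3]
  have hkpos : Nat.card f.ker ≠ 0 := Nat.card_pos.ne'
  have hcypos : Nat.card (Subgroup.centralizer ({f x} : Set Y)) ≠ 0 := Nat.card_pos.ne'
  have hcxpos : Nat.card (Subgroup.centralizer ({x} : Set X)) ≠ 0 := Nat.card_pos.ne'
  have hmpos : m ≠ 0 := by
    intro h0
    rw [h0, mul_zero] at hprod
    exact (Nat.mul_ne_zero hkpos hcypos) hprod
  have hfac : (Nat.card f.ker * Nat.card (Subgroup.centralizer ({f x} : Set Y))).factorization p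
      = (Nat.card (Subgroup.centralizer ({x} : Set X)) * m).factorization p := by
    rw [hprod]
  rw [Nat.factorization_mul hkpos hcypos, Nat.factorization_mul hcxpos hmpos,
    Finsupp.add_apply, Finsupp.add_apply, hcy, add_zero] at hfac
  have hkle : f.ker ≤ Subgroup.centralizer ({x} : Set X) := by
    intro k hk
    rw [Subgroup.mem_centralizer_iff]
    intro z hz
    rw [Set.mem_singleton_iff] at hz
    subst hz
    exact (Subgroup.mem_center_iff.mp (hker hk) z)
  have hkdvd : Nat.card f.ker ∣ Nat.card (Subgroup.centralizer ({x} : Set X)) :=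
    Subgroup.card_dvd_of_le hkle
  have hkfac : (Nat.card f.ker).factorization p
      ≤ (Nat.card (Subgroup.centralizer ({x} : Set X))).factorization p :=
    (Nat.factorization_le_iff_dvd hkpos hcxpos).mpr hkdvd p
  have hm0 : m.factorization p = 0 := by omega
  have hpm : ¬ p ∣ m := by
    intro hd
    have := hp.factorization_pos_of_dvd hmpos hd
    omega
  have hnot : ¬ MemLocalIdeal M (centralChar (θ : X → ℂ) x) := by
    rw [hcc]
    apply not_memLocalIdeal_mul hMp (memLocalRing_natCast hMp m)
    · rw [memLocalIdeal_natCast_iff hM]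
      exact hpm
    · exact hy.2.2 ψ (mem_blockOf_self hMp ψ)
  have hfin := blockDefect_le_of_centralChar p hM e he x ⟨θ, hθ, hnot⟩
  omega

/-- A normal `p`-subgroup lies in `Q` when some irreducible character has `Q` in its kernel
and defect zero modulo `Q`. -/
theorem le_of_defect_zero_mod {X : Type u} [Group X] [Finite X] (p : ℕ) [Fact p.Prime]
    (hM : IsPModular p M) (Q : Subgroup X) [Q.Normal] (χ : IrrCharacter X)
    (hχQ : ∀ q ∈ Q, (χ : X → ℂ) q = (χ : X → ℂ) 1)
    (hdeg : (charDegree (χ : X → ℂ)).factorization p + (Nat.card Q).factorization p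
      = (Nat.card X).factorization p)
    (R : Subgroup X) (hRn : R.Normal) (hR : IsPGroup p R) : R ≤ Q := by
  classical
  have hMp := isPrime_of_isPModular hM
  obtain ⟨χb, hχb, hval⟩ := Cfsg.Agent.Lib.CT.Kernel.exists_quotient_irr Q χ.2 hχQ
  have hdegb : charDegree χb = charDegree (χ : X → ℂ) := by
    unfold charDegree
    rw [← hval 1]
    rfl
  have hcard : Nat.card X = Nat.card (X ⧸ Q) * Nat.card Q :=
    Subgroup.card_eq_card_quotient_mul_card_subgroup Q
  have hqpos : Nat.card (X ⧸ Q) ≠ 0 := Nat.card_pos.ne'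
  have hQpos : Nat.card Q ≠ 0 := Nat.card_pos.ne'
  have hzero : (charDegree χb).factorization p = (Nat.card (X ⧸ Q)).factorization p := by
    rw [hdegb]
    have h1 : (Nat.card X).factorization p
        = (Nat.card (X ⧸ Q)).factorization p + (Nat.card Q).factorization p := by
      rw [hcard, Nat.factorization_mul hqpos hQpos, Finsupp.add_apply]
    omega
  have hB := Cfsg.Agent.Lib.CT.DefectZeroBlock.blockOf_eq_singleton_of_defect_zero hM
    (⟨χb, hχb⟩ : IrrCharacter (X ⧸ Q)) hzero
  have hBb : IsPBlock M (blockOf M χb) := isPBlock_blockOf (⟨χb, hχb⟩ : IrrCharacter (X ⧸ Q))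
  have hd0 : blockDefect p (blockOf M χb) = 0 := by
    rw [Cfsg.Agent.Lib.CT.DefectZeroBlock.blockDefect_eq_zero_iff p _
      ⟨(⟨χb, hχb⟩ : IrrCharacter (X ⧸ Q)), mem_blockOf_self hMp _⟩]
    intro ψ hψ
    have hψ' : ψ ∈ ({(⟨χb, hχb⟩ : IrrCharacter (X ⧸ Q))} : Set (IrrCharacter (X ⧸ Q))) := by
      rw [← hB]
      exact hψ
    rw [Set.mem_singleton_iff.mp hψ']
    exact hzero
  obtain ⟨D, hD⟩ := exists_defectGroup hM _ hBb
  have hDc := card_defectGroup p hM _ hBb D hD
  rw [hd0, pow_zero] at hDc
  have hDbot : D = ⊥ := Subgroup.eq_bot_of_card_eq D hDc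
  have hRb : R.map (QuotientGroup.mk' Q) ≤ D := by
    refine le_trans ?_ (Cfsg.Agent.S0912.result p M hM _ hBb D hD)
    exact le_sSup ⟨hRn.map _ (QuotientGroup.mk'_surjective Q), hR.map _⟩
  intro r hr
  have h1 : (QuotientGroup.mk' Q r) ∈ D := hRb ⟨r, hr, rfl⟩
  rw [hDbot, Subgroup.mem_bot] at h1
  exact (QuotientGroup.eq_one_iff r).mp h1

end Cfsg.Agent.Lib.Helper16.Weight
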