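import Mathlib
import Cfsg.Prelude.Def_BrauerPairs
import Cfsg.Agent.Lib.Helper16.Weight
import Cfsg.Agent.Lib.Helper16.Transfer
import Cfsg.Agent.Lib.Helper16.Fong2
import Cfsg.Agent.Lib.Helper16.Cover
import Cfsg.Agent.Lib.Helper16.ExtFirst
import Cfsg.Agent.Lib.Helper3.TDBasic
import Cfsg.Agent.Lib.Helper77.BPStab

/-!
# Brauer pairs carrying a weight
-/

set_option autoImplicit false

namespace Cfsg.Agent.Lib.Helper16.Weight2

open Cfsg Cfsg.Agent.Lib.Helper77.LocalRing Cfsg.Agent.Lib.Helper77.CentralChar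
  Cfsg.Agent.Lib.Helper77.ClassSum Cfsg.Agent.Lib.Helper77.BlockIdem
  Cfsg.Agent.Lib.CT.Wedderburn Cfsg.Agent.Lib.Helper16.ZR
  Cfsg.Agent.Lib.Helper16.MinMax Cfsg.Agent.Lib.Helper16.Normal
  Cfsg.Agent.Lib.Helper16.Fong Cfsg.Agent.Lib.Helper16.Defect
  Cfsg.Agent.Lib.Helper16.Weight Cfsg.Agent.Lib.Helper16.Transfer
  Cfsg.Agent.Lib.Helper77.BPTransport Cfsg.Agent.Lib.Helper77.BPStab
  Cfsg.Agent.Lib.Helper77.BPConj

universe u
variable {G : Type u} [Group G] {M : Ideal AlgInt}

theorem card_pow_factorization {X : Type*} [Group X] [Finite X] {p : ℕ} [Fact p.Prime]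
    (h : IsPGroup p X) : Nat.card X = p ^ (Nat.card X).factorization p := by
  have hp : p.Prime := Fact.out
  obtain ⟨n, hn⟩ := h.exists_card_eq
  rw [hn, hp.factorization_pow, Finsupp.single_eq_same]

theorem weight_main [Fintype G] (p : ℕ) [Fact p.Prime] (hM : IsPModular p M)
    (B : Set (IrrCharacter G)) (Q : Subgroup G)
    (e : Set (IrrCharacter (Subgroup.centralizer (Q : Set G))))
    (hQe : IsBrauerPairOf p M B Q e) (T : Subgroup G)
    (hT : ∀ y : G, y ∈ T ↔ y ∈ Subgroup.normalizer (Q : Set G) ∧
      StabilizesBlock (Subgroup.centralizer (Q : Set G)) e y)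
    (F' : Set (IrrCharacter T)) (hF' : IsPBlock M F')
    (hF'e : ∀ t : T, blockCoeff F' t =
      subgroupBlockCoeff (Subgroup.centralizer (Q : Set G)) e (t : G))
    (χ : IrrCharacter T) (hχ : χ ∈ F')
    (hχQ : ∀ q : G, q ∈ Q → ∀ t : T, ∀ t' : T, (t' : G) = q * (t : G) →
      (χ : T → ℂ) t' = (χ : T → ℂ) t)
    (hdeg : (charDegree (χ : T → ℂ)).factorization p + (Nat.card Q).factorization p
      = (Nat.card T).factorization p) :
    IsDefectGroup p M e ((Q ⊓ Subgroup.centralizer (Q : Set G)).subgroupOf
        (Subgroup.centralizer (Q : Set G))) ∧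
      ∀ R : Subgroup G, R ≤ T → IsPGroup p R →
        (∀ t ∈ T, t ∈ Subgroup.normalizer (R : Set G)) → R ≤ Q := by
  classical
  have hp : p.Prime := Fact.out
  have hMp := isPrime_of_isPModular hM
  have hQp : IsPGroup p Q := hQe.1.1
  have he : IsPBlock M e := hQe.1.2
  have hQT : Q ≤ T := fun q hq =>
    (hT q).mpr ⟨Subgroup.le_normalizer hq, stabilizes_of_mem Q e hq⟩
  have hCT : Subgroup.centralizer (Q : Set G) ≤ T := fun c hc =>
    (hT c).mpr ⟨Subgroup.centralizer_le_normalizer _ hc, stabilizes_of_mem_centralizer Q e hc⟩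
  have hTN : T ≤ Subgroup.normalizer (Q : Set G) := fun t ht => ((hT t).mp ht).1
  have hQn : (Q.subgroupOf T).Normal :=
    (Subgroup.normal_subgroupOf_iff_le_normalizer hQT).mpr hTN
  have hCn : ((Subgroup.centralizer (Q : Set G)).subgroupOf T).Normal :=
    (Subgroup.normal_subgroupOf_iff_le_normalizer hCT).mpr
      (hTN.trans (normalizer_le_normalizer_centralizer Q))
  have hχQ' : ∀ q ∈ Q.subgroupOf T, (χ : T → ℂ) q = (χ : T → ℂ) 1 := fun q hq =>
    hχQ (q : G) (Subgroup.mem_subgroupOf.mp hq) 1 q (by simp)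
  have hcardQ : Nat.card (Q.subgroupOf T) = Nat.card Q :=
    Nat.card_congr (Subgroup.subgroupOfEquivOfLe hQT).toEquiv
  have hdeg' : (charDegree (χ : T → ℂ)).factorization p
      + (Nat.card (Q.subgroupOf T)).factorization p = (Nat.card T).factorization p := by
    rw [hcardQ]
    exact hdeg
  constructor
  · haveI := hQn
    obtain ⟨χb, hχb, hval⟩ :=
      Cfsg.Agent.Lib.CT.Kernel.exists_quotient_irr (Q.subgroupOf T) χ.2 hχQ'
    have hdegb : charDegree χb = charDegree (χ : T → ℂ) := by
      unfold charDegree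
      rw [← hval 1]
      rfl
    have hcard : Nat.card T = Nat.card (T ⧸ Q.subgroupOf T) * Nat.card (Q.subgroupOf T) :=
      Subgroup.card_eq_card_quotient_mul_card_subgroup _
    have hqpos : Nat.card (T ⧸ Q.subgroupOf T) ≠ 0 := Nat.card_pos.ne'
    have hQpos : Nat.card (Q.subgroupOf T) ≠ 0 := Nat.card_pos.ne'
    have hzero : (charDegree χb).factorization p
        = (Nat.card (T ⧸ Q.subgroupOf T)).factorization p := by
      rw [hdegb]
      have h1 : (Nat.card T).factorization p
          = (Nat.card (T ⧸ Q.subgroupOf T)).factorization p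
            + (Nat.card (Q.subgroupOf T)).factorization p := by
        rw [hcard, Nat.factorization_mul hqpos hQpos, Finsupp.add_apply]
      omega
    -- the image of the centralizer in the quotient
    let Cb : Subgroup (T ⧸ Q.subgroupOf T) :=
      ((Subgroup.centralizer (Q : Set G)).subgroupOf T).map (QuotientGroup.mk' (Q.subgroupOf T))
    haveI hCbn : Cb.Normal := hCn.map _ (QuotientGroup.mk'_surjective _)
    letI : Fintype (T ⧸ Q.subgroupOf T) := Fintype.ofFinite _
    letI : Fintype Cb := Fintype.ofFinite _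
    obtain ⟨ψ, hψ⟩ := Cfsg.Agent.Lib.Helper16.Cover.exists_constituent Cb
      (⟨χb, hχb⟩ : IrrCharacter (T ⧸ Q.subgroupOf T))
    obtain ⟨hdvd, hquot⟩ := Cfsg.Agent.Lib.Helper3.TDBasic.deg_of_constituent Cb ψ
      (⟨χb, hχb⟩ : IrrCharacter (T ⧸ Q.subgroupOf T)) hψ
    have hψzero : (charDegree (ψ : Cb → ℂ)).factorization p = (Nat.card Cb).factorization p := by
      apply le_antisymm (Cfsg.Agent.Lib.CT.DefectZeroBlock.factorization_charDegree_le p ψ)
      obtain ⟨k, hk⟩ := hdvd
      have hapos : charDegree (ψ : Cb → ℂ) ≠ 0 := (irr_charDegree_pos ψ.2).ne'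
      have hbpos : charDegree χb ≠ 0 := (irr_charDegree_pos hχb).ne'
      have hk' : charDegree χb / charDegree (ψ : Cb → ℂ) = k := by
        show charDegree χb / charDegree (ψ : Cb → ℂ) = k
        have : charDegree χb = charDegree (ψ : Cb → ℂ) * k := hk
        rw [this, Nat.mul_div_cancel_left _ (Nat.pos_of_ne_zero hapos)]
      have hkpos : k ≠ 0 := by
        intro h0
        apply hbpos
        have : charDegree χb = charDegree (ψ : Cb → ℂ) * k := hk
        rw [this, h0, mul_zero]
      have hkidx : k ∣ Cb.index := by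
        have := hquot
        rwa [hk'] at this
      have hipos : Cb.index ≠ 0 := Subgroup.index_ne_zero_of_finite
      have hkfac : k.factorization p ≤ Cb.index.factorization p :=
        (Nat.factorization_le_iff_dvd hkpos hipos).mpr hkidx p
      have hcb := Subgroup.card_mul_index Cb
      have hcbpos : Nat.card Cb ≠ 0 := Nat.card_pos.ne'
      have h2 : (Nat.card (T ⧸ Q.subgroupOf T)).factorization p
          = (Nat.card Cb).factorization p + Cb.index.factorization p := by
        rw [← hcb, Nat.factorization_mul hcbpos hipos, Finsupp.add_apply]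
      have h3 : (charDegree χb).factorization p
          = (charDegree (ψ : Cb → ℂ)).factorization p + k.factorization p := by
        have : charDegree χb = charDegree (ψ : Cb → ℂ) * k := hk
        rw [this, Nat.factorization_mul hapos hkpos, Finsupp.add_apply]
      omega
    -- the surjection from the centralizer
    let f : Subgroup.centralizer (Q : Set G) →* Cb :=
      ((QuotientGroup.mk' (Q.subgroupOf T)).comp (Subgroup.inclusion hCT)).codRestrict Cb
        (fun c => ⟨Subgroup.inclusion hCT c, Subgroup.mem_subgroupOf.mpr c.2, rfl⟩)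
    have hfval : ∀ c : Subgroup.centralizer (Q : Set G),
        ((f c : Cb) : T ⧸ Q.subgroupOf T) = QuotientGroup.mk' (Q.subgroupOf T)
          (Subgroup.inclusion hCT c) := fun c => rfl
    have hf : Function.Surjective f := by
      rintro ⟨y, n, hn, rfl⟩
      refine ⟨⟨(n : G), Subgroup.mem_subgroupOf.mp hn⟩, ?_⟩
      apply Subtype.ext
      rw [hfval]
      rfl
    have hkermem : ∀ c : Subgroup.centralizer (Q : Set G), c ∈ f.ker ↔ (c : G) ∈ Q := by
      intro c
      rw [MonoidHom.mem_ker]
      constructor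
      · intro h
        have h1 : ((f c : Cb) : T ⧸ Q.subgroupOf T) = 1 := by rw [h]; rfl
        rw [hfval] at h1
        have h2 := (QuotientGroup.eq_one_iff _).mp h1
        exact Subgroup.mem_subgroupOf.mp h2
      · intro h
        apply Subtype.ext
        rw [hfval]
        exact (QuotientGroup.eq_one_iff _).mpr (Subgroup.mem_subgroupOf.mpr h)
    have hker : f.ker ≤ Subgroup.center (Subgroup.centralizer (Q : Set G)) := by
      intro c hc
      rw [Subgroup.mem_center_iff]
      intro d
      apply Subtype.ext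
      exact (Subgroup.mem_centralizer_iff.mp d.2 (c : G) ((hkermem c).mp hc)).symm
    have hkerZ : f.ker = (Q ⊓ Subgroup.centralizer (Q : Set G)).subgroupOf
        (Subgroup.centralizer (Q : Set G)) := by
      ext c
      rw [hkermem, Subgroup.mem_subgroupOf, Subgroup.mem_inf]
      exact ⟨fun h => ⟨h, c.2⟩, fun h => h.1⟩
    let θ : IrrCharacter (Subgroup.centralizer (Q : Set G)) :=
      ⟨fun c => (ψ : Cb → ℂ) (f c),
        Cfsg.Agent.Lib.CT.Ops.isIrrCharacter_comp_surjective f hf ψ.2⟩
    have hθe : θ ∈ e := by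
      letI : Fintype ((Subgroup.centralizer (Q : Set G)).subgroupOf T) := Fintype.ofFinite _
      letI : Fintype T := Fintype.ofFinite _
      let π : (Subgroup.centralizer (Q : Set G)).subgroupOf T →* Cb :=
        ((QuotientGroup.mk' (Q.subgroupOf T)).comp
          ((Subgroup.centralizer (Q : Set G)).subgroupOf T).subtype).codRestrict Cb
          (fun n => ⟨n, n.2, rfl⟩)
      have hπ : Function.Surjective π := by
        rintro ⟨y, n, hn, rfl⟩
        exact ⟨⟨n, hn⟩, rfl⟩
      have h1 := classInner_comp_surjective π hπ (fun c : Cb => χb c) (ψ : Cb → ℂ)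
      have hcon : classInner
          (fun n : (Subgroup.centralizer (Q : Set G)).subgroupOf T => (χ : T → ℂ) n)
          (pull (sIso _ T hCT) θ : _ → ℂ) ≠ 0 := by
        have e1 : (fun n : (Subgroup.centralizer (Q : Set G)).subgroupOf T => (χ : T → ℂ) n)
            = fun x => χb ((π x : Cb) : T ⧸ Q.subgroupOf T) := by
          funext n
          exact (hval n).symm
        have e2 : (pull (sIso _ T hCT) θ : _ → ℂ) = fun x => (ψ : Cb → ℂ) (π x) := by
          funext n
          rw [pull_apply]
          show (ψ : Cb → ℂ) (f (sIso _ T hCT n)) = (ψ : Cb → ℂ) (π n)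
          congr 1
        rw [e1, e2, h1]
        exact hψ
      have h2 : iota ((Subgroup.centralizer (Q : Set G)).subgroupOf T)
          (blockIdem (pull (sIso _ T hCT) '' e)) = blockIdem F' := by
        ext t
        rw [Cfsg.Agent.Lib.Helper16.Fong2.coeff_iota_blockIdem, coeff_blockIdem, hF'e]
        unfold subgroupBlockCoeff
        by_cases ht : (t : G) ∈ Subgroup.centralizer (Q : Set G)
        · rw [dif_pos ht, dif_pos (show t ∈ (Subgroup.centralizer (Q : Set G)).subgroupOf T
            from Subgroup.mem_subgroupOf.mpr ht), blockCoeff_pull]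
          congr 1
        · rw [dif_neg ht, dif_neg (fun h => ht (Subgroup.mem_subgroupOf.mp h))]
      have h3 : omega (χ : T → ℂ) (iota ((Subgroup.centralizer (Q : Set G)).subgroupOf T)
          (blockIdem (pull (sIso _ T hCT) '' e))) = 1 := by
        rw [h2, omega_blockIdem, if_pos hχ]
      obtain ⟨θ', hθ', heq⟩ := constituent_mem _ _ χ h3 _ hcon
      rw [← pull_injective _ heq]
      exact hθ'
    have hdef := blockDefect_le_of_comp p hM f hf hker ψ hψzero e he θ hθe (fun x => rfl)
    rw [hkerZ] at hdef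
    obtain ⟨D, hD⟩ := exists_defectGroup hM e he
    have hDc := card_defectGroup p hM e he D hD
    have hZp : IsPGroup p ((Q ⊓ Subgroup.centralizer (Q : Set G)).subgroupOf
        (Subgroup.centralizer (Q : Set G))) :=
      Cfsg.Agent.Lib.Helper16.ExtFirst.isPGroup_subgroupOf _ _ (hQp.to_le inf_le_left)
    have hZn : ((Q ⊓ Subgroup.centralizer (Q : Set G)).subgroupOf
        (Subgroup.centralizer (Q : Set G))).Normal := by
      rw [← hkerZ]
      exact MonoidHom.normal_ker f
    have hZc : (Q ⊓ Subgroup.centralizer (Q : Set G)).subgroupOf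
        (Subgroup.centralizer (Q : Set G)) ≤ Cfsg.pCore p (Subgroup.centralizer (Q : Set G)) :=
      le_sSup ⟨hZn, hZp⟩
    have hZD : (Q ⊓ Subgroup.centralizer (Q : Set G)).subgroupOf
        (Subgroup.centralizer (Q : Set G)) ≤ D :=
      le_trans hZc (Cfsg.Agent.S0912.result p M hM e he D hD)
    have hcardZ := card_pow_factorization hZp
    have hDZ : (Q ⊓ Subgroup.centralizer (Q : Set G)).subgroupOf
        (Subgroup.centralizer (Q : Set G)) = D :=
      Subgroup.eq_of_le_of_card_ge hZD (by
        rw [hDc, hcardZ]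
        exact Nat.pow_le_pow_right hp.pos hdef)
    rw [hDZ]
    exact hD
  · intro R hRT hRp hRn
    have hRn' : (R.subgroupOf T).Normal :=
      (Subgroup.normal_subgroupOf_iff_le_normalizer hRT).mpr (fun t ht => hRn t ht)
    have hle := le_of_defect_zero_mod p hM (Q.subgroupOf T) χ hχQ' hdeg' (R.subgroupOf T) hRn'
      (Cfsg.Agent.Lib.Helper16.ExtFirst.isPGroup_subgroupOf R T hRp)
    intro r hr
    exact Subgroup.mem_subgroupOf.mp
      (hle (show (⟨r, hRT hr⟩ : T) ∈ R.subgroupOf T from Subgroup.mem_subgroupOf.mpr hr))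

end Cfsg.Agent.Lib.Helper16.Weight2
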