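import Mathlib
import Cfsg.Prelude.Def_BrauerPairs
import Cfsg.Agent.Lib.Helper16.Fong2
import Cfsg.Agent.Lib.Helper16.Cover2
import Cfsg.Agent.Lib.Helper16.ExtFirst2
import Cfsg.Agent.Lib.Helper16.BPLocal
import Cfsg.Agent.Lib.Helper16.Brauer
import Cfsg.Agent.Lib.Helper16.Weight2
import Cfsg.Agent.Lib.Helper77.BPInd
import Cfsg.Agent.Lib.Helper77.BPFix
import Cfsg.Agent.S0912
import Cfsg.Agent.S4437
import Cfsg.Agent.S0968
import Cfsg.Agent.S0969

/-!
# Maximal Brauer pairs and the block of `Q C_G(Q)`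

For a `p`-subgroup `Q` and a block `e` of `C = C_G(Q)` with defect group `Z(Q) = Q ∩ C`, the block
`b₀` of `L = Q C` covering `e` has the same idempotent, defect group `Q`, and is induced by `e`.
-/

set_option autoImplicit false

namespace Cfsg.Agent.Lib.Helper16.MaxPair

open Cfsg Cfsg.Agent.Lib.Helper77.LocalRing Cfsg.Agent.Lib.Helper77.CentralChar
  Cfsg.Agent.Lib.Helper77.ClassSum Cfsg.Agent.Lib.Helper77.BlockIdem
  Cfsg.Agent.Lib.CT.Wedderburn Cfsg.Agent.Lib.Helper16.ZR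
  Cfsg.Agent.Lib.Helper16.MinMax Cfsg.Agent.Lib.Helper16.Normal
  Cfsg.Agent.Lib.Helper16.Fong Cfsg.Agent.Lib.Helper16.Defect
  Cfsg.Agent.Lib.Helper16.Transfer Cfsg.Agent.Lib.Helper16.Fong2
  Cfsg.Agent.Lib.Helper16.ExtFirst Cfsg.Agent.Lib.Helper16.ExtFirst2
  Cfsg.Agent.Lib.Helper77.BPTransport Cfsg.Agent.Lib.Helper77.BPStab
  Cfsg.Agent.Lib.Helper77.BPConj Cfsg.Agent.Lib.Helper77.BPBasic

open scoped Pointwise

universe u
variable {G : Type u} [Group G] {M : Ideal AlgInt}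

theorem exists_mul_of_sup (Q C L : Subgroup G) (hQL : Q ≤ L) (hCL : C ≤ L) (hL : L = Q ⊔ C)
    [hn : (C.subgroupOf L).Normal] (l : L) :
    ∃ q ∈ Q.subgroupOf L, ∃ c ∈ C.subgroupOf L, q * c = l := by
  have hsup : Q.subgroupOf L ⊔ C.subgroupOf L = ⊤ := by
    rw [← Subgroup.subgroupOf_sup hQL hCL, ← hL]
    exact Subgroup.subgroupOf_self L
  have hl : l ∈ ((Q.subgroupOf L ⊔ C.subgroupOf L : Subgroup L) : Set L) := by
    rw [hsup]
    trivial
  rw [Subgroup.mul_normal] at hl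
  exact Set.mem_mul.mp hl

theorem index_pow {p : ℕ} [Fact p.Prime] [Finite G] (Q C L : Subgroup G) (hQ : IsPGroup p Q)
    (hQL : Q ≤ L) (hCL : C ≤ L) (hL : L = Q ⊔ C) [hn : (C.subgroupOf L).Normal] :
    ∃ k : ℕ, (C.subgroupOf L).index = p ^ k := by
  have hP : IsPGroup p (L ⧸ C.subgroupOf L) := by
    intro x
    obtain ⟨l, rfl⟩ := QuotientGroup.mk_surjective x
    obtain ⟨q, hq, c, hc, rfl⟩ := exists_mul_of_sup Q C L hQL hCL hL l
    obtain ⟨k, hk⟩ := hQ ⟨(q : G), Subgroup.mem_subgroupOf.mp hq⟩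
    refine ⟨k, ?_⟩
    have h1 : (QuotientGroup.mk (q * c) : L ⧸ C.subgroupOf L) = QuotientGroup.mk q := by
      rw [QuotientGroup.mk_mul, (QuotientGroup.eq_one_iff c).mpr hc, mul_one]
    rw [h1, ← QuotientGroup.mk_pow]
    have hq1 : q ^ p ^ k = 1 := by
      apply Subtype.ext
      have := congrArg Subtype.val hk
      simpa using this
    rw [hq1, QuotientGroup.mk_one]
  obtain ⟨n, hn'⟩ := hP.exists_card_eq
  exact ⟨n, by rw [Subgroup.index_eq_card, hn']⟩

theorem gstable_sup (Q C L : Subgroup G) (hQL : Q ≤ L) (hCL : C ≤ L) (hL : L = Q ⊔ C)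
    (hcomm : ∀ q ∈ Q, ∀ c ∈ C, q * c = c * q) (hn : (C.subgroupOf L).Normal)
    (S : Set (IrrCharacter (C.subgroupOf L))) : GStable (C.subgroupOf L) hn S := by
  intro θ hθ g
  obtain ⟨q, hq, c, hc, rfl⟩ := exists_mul_of_sup Q C L hQL hCL hL g
  have hq' : cI (C.subgroupOf L) hn q θ = θ := by
    apply Subtype.ext
    funext n
    rw [cI_apply]
    refine congrArg _ (Subtype.ext (Subtype.ext ?_))
    show (q : G) * ((n : L) : G) * (q : G)⁻¹ = ((n : L) : G)
    rw [hcomm q (Subgroup.mem_subgroupOf.mp hq) n (Subgroup.mem_subgroupOf.mp n.2),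
      mul_inv_cancel_right]
  have h1 : cI (C.subgroupOf L) hn (q * c) θ = θ := by
    rw [← cI_cI, hq', cI_of_mem _ hn c hc θ]
  rw [h1]
  exact hθ

theorem card_eq_inf_mul_index {X : Type*} [Group X] (P N : Subgroup X) [N.Normal]
    (h : P ⊔ N = ⊤) : Nat.card P = Nat.card ↥(P ⊓ N) * N.index := by
  have h1 : N.relIndex P = N.index := by
    rw [← Subgroup.relIndex_sup_right (H := P) (K := N), h, Subgroup.relIndex_top_right]
  have h2 : (⊥ : Subgroup X).relIndex (P ⊓ N) * (P ⊓ N).relIndex P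
      = (⊥ : Subgroup X).relIndex P :=
    Subgroup.relIndex_mul_relIndex _ _ _ bot_le inf_le_left
  rw [Subgroup.relIndex_bot_left, Subgroup.relIndex_bot_left, Subgroup.inf_relIndex_left, h1] at h2
  exact h2.symm

/-- The block of `L = Q C_G(Q)` above a block `e` of `C_G(Q)` with defect group `Z(Q)`. -/
theorem sup_block [Finite G] (p : ℕ) [Fact p.Prime] (hM : IsPModular p M) (Q : Subgroup G)
    (hQ : IsPGroup p Q) (e : Set (IrrCharacter (Subgroup.centralizer (Q : Set G))))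
    (he : IsPBlock M e)
    (hZ : IsDefectGroup p M e ((Q ⊓ Subgroup.centralizer (Q : Set G)).subgroupOf
      (Subgroup.centralizer (Q : Set G)))) :
    ∃ b₀ : Set (IrrCharacter ↥(Q ⊔ Subgroup.centralizer (Q : Set G))),
      IsPBlock M b₀ ∧
      ext (Q ⊔ Subgroup.centralizer (Q : Set G)) (blockIdem b₀)
        = ext (Subgroup.centralizer (Q : Set G)) (blockIdem e) ∧
      IsDefectGroup p M b₀ (Q.subgroupOf (Q ⊔ Subgroup.centralizer (Q : Set G))) ∧
      IsInducedBlock M ((Subgroup.centralizer (Q : Set G)).subgroupOf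
          (Q ⊔ Subgroup.centralizer (Q : Set G)))
        (pull (sIso (Subgroup.centralizer (Q : Set G)) (Q ⊔ Subgroup.centralizer (Q : Set G))
          le_sup_right) '' e) b₀ := by
  classical
  have hp : p.Prime := Fact.out
  have hMp := isPrime_of_isPModular hM
  have hQL : Q ≤ Q ⊔ Subgroup.centralizer (Q : Set G) := le_sup_left
  have hCL : Subgroup.centralizer (Q : Set G) ≤ Q ⊔ Subgroup.centralizer (Q : Set G) :=
    le_sup_right
  have hLN : Q ⊔ Subgroup.centralizer (Q : Set G) ≤ Subgroup.normalizer (Q : Set G) :=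
    sup_centralizer_le_normalizer Q
  have hn : ((Subgroup.centralizer (Q : Set G)).subgroupOf
      (Q ⊔ Subgroup.centralizer (Q : Set G))).Normal :=
    (Subgroup.normal_subgroupOf_iff_le_normalizer hCL).mpr
      (hLN.trans (normalizer_le_normalizer_centralizer Q))
  have hQn : (Q.subgroupOf (Q ⊔ Subgroup.centralizer (Q : Set G))).Normal :=
    (Subgroup.normal_subgroupOf_iff_le_normalizer hQL).mpr hLN
  have hQ' : IsPGroup p (Q.subgroupOf (Q ⊔ Subgroup.centralizer (Q : Set G))) :=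
    isPGroup_subgroupOf Q _ hQ
  have hcomm : ∀ q ∈ Q, ∀ c ∈ Subgroup.centralizer (Q : Set G), q * c = c * q :=
    fun q hq c hc => Subgroup.mem_centralizer_iff.mp hc q hq
  let _ : Fintype ↥(Q ⊔ Subgroup.centralizer (Q : Set G)) := Fintype.ofFinite _
  let _ : Fintype ↥((Subgroup.centralizer (Q : Set G)).subgroupOf
      (Q ⊔ Subgroup.centralizer (Q : Set G))) := Fintype.ofFinite _
  obtain ⟨k, hk⟩ := index_pow Q _ _ hQ hQL hCL rfl
  have he' : IsPBlock M (pull (sIso _ _ hCL) '' e) := isPBlock_pull _ he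
  have hst := gstable_sup Q _ _ hQL hCL rfl hcomm hn (pull (sIso _ _ hCL) '' e)
  obtain ⟨b₀, hb₀, hidem, ⟨χ, hχ, θ, hθ, hcon⟩, -⟩ :=
    exists_block_of_pow_index p hM _ hk _ he' hst
  refine ⟨b₀, hb₀, ?_, ?_, ?_⟩
  · apply MonoidAlgebra.coeff_injective
    ext g
    rw [coeff_ext, coeff_ext]
    by_cases hgC : g ∈ Subgroup.centralizer (Q : Set G)
    · have hgL : g ∈ Q ⊔ Subgroup.centralizer (Q : Set G) := hCL hgC
      rw [dif_pos hgL, dif_pos hgC, ← hidem]
      have h1 := coeff_iota_coe ((Subgroup.centralizer (Q : Set G)).subgroupOf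
        (Q ⊔ Subgroup.centralizer (Q : Set G))) (blockIdem (pull (sIso _ _ hCL) '' e))
        ⟨⟨g, hgL⟩, Subgroup.mem_subgroupOf.mpr hgC⟩
      rw [h1, coeff_blockIdem, coeff_blockIdem, blockCoeff_pull]
      congr 1
    · rw [dif_neg hgC]
      by_cases hgL : g ∈ Q ⊔ Subgroup.centralizer (Q : Set G)
      · rw [dif_pos hgL, ← hidem]
        exact coeff_iota_of_not_mem _ _ _ (fun h => hgC (Subgroup.mem_subgroupOf.mp h))
      · rw [dif_neg hgL]
  · obtain ⟨P', hP'⟩ := exists_defectGroup hM b₀ hb₀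
    have hcore : Q.subgroupOf (Q ⊔ Subgroup.centralizer (Q : Set G))
        ≤ Cfsg.pCore p ↥(Q ⊔ Subgroup.centralizer (Q : Set G)) := le_sSup ⟨hQn, hQ'⟩
    have hQP : Q.subgroupOf (Q ⊔ Subgroup.centralizer (Q : Set G)) ≤ P' :=
      le_trans hcore (Cfsg.Agent.S0912.result p M hM b₀ hb₀ P' hP')
    obtain ⟨hsupP, hdefP⟩ := defect_of_pow_index p hM _ hk _ he' hst b₀ hidem P' hP'
    have hc1 := card_defectGroup p hM _ he' _ hdefP
    have hc2 := card_defectGroup p hM e he _ hZ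
    have hc3 : blockDefect p (pull (sIso _ _ hCL) '' e) = blockDefect p e :=
      blockDefect_pull p _ e
    have hc4 : Nat.card ((P' ⊓ (Subgroup.centralizer (Q : Set G)).subgroupOf
        (Q ⊔ Subgroup.centralizer (Q : Set G))).subgroupOf
        ((Subgroup.centralizer (Q : Set G)).subgroupOf (Q ⊔ Subgroup.centralizer (Q : Set G))))
        = Nat.card ↥(P' ⊓ (Subgroup.centralizer (Q : Set G)).subgroupOf
        (Q ⊔ Subgroup.centralizer (Q : Set G))) :=
      Nat.card_congr (Subgroup.subgroupOfEquivOfLe inf_le_right).toEquiv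
    have hc5 : Nat.card ((Q ⊓ Subgroup.centralizer (Q : Set G)).subgroupOf
        (Subgroup.centralizer (Q : Set G))) = Nat.card ↥(Q ⊓ Subgroup.centralizer (Q : Set G)) :=
      Nat.card_congr (Subgroup.subgroupOfEquivOfLe inf_le_right).toEquiv
    have hinf : Q.subgroupOf (Q ⊔ Subgroup.centralizer (Q : Set G)) ⊓
        (Subgroup.centralizer (Q : Set G)).subgroupOf (Q ⊔ Subgroup.centralizer (Q : Set G))
        = (Q ⊓ Subgroup.centralizer (Q : Set G)).subgroupOf
          (Q ⊔ Subgroup.centralizer (Q : Set G)) := by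
      ext x
      simp [Subgroup.mem_subgroupOf]
    have hc6 : Nat.card ↥(Q.subgroupOf (Q ⊔ Subgroup.centralizer (Q : Set G)) ⊓
        (Subgroup.centralizer (Q : Set G)).subgroupOf (Q ⊔ Subgroup.centralizer (Q : Set G)))
        = Nat.card ↥(Q ⊓ Subgroup.centralizer (Q : Set G)) := by
      rw [hinf]
      exact Nat.card_congr (Subgroup.subgroupOfEquivOfLe (inf_le_left.trans hQL)).toEquiv
    have hsupQ : Q.subgroupOf (Q ⊔ Subgroup.centralizer (Q : Set G)) ⊔
        (Subgroup.centralizer (Q : Set G)).subgroupOf (Q ⊔ Subgroup.centralizer (Q : Set G))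
        = ⊤ := by
      rw [← Subgroup.subgroupOf_sup hQL hCL]
      exact Subgroup.subgroupOf_self _
    have hsupP' : P' ⊔ (Subgroup.centralizer (Q : Set G)).subgroupOf
        (Q ⊔ Subgroup.centralizer (Q : Set G)) = ⊤ := (sup_comm _ _).trans hsupP
    have hcardQ := card_eq_inf_mul_index _ _ hsupQ
    have hcardP := card_eq_inf_mul_index _ _ hsupP'
    have hcard : Nat.card P' ≤ Nat.card (Q.subgroupOf (Q ⊔ Subgroup.centralizer (Q : Set G))) := by
      rw [hcardQ, hcardP, hc6, ← hc4, hc1, hc3, ← hc2, hc5]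
    rw [Subgroup.eq_of_le_of_card_ge hQP hcard]
    exact hP'
  · apply Cfsg.Agent.Lib.Helper16.Cover2.isInducedBlock_of_cover hM
      (Q.subgroupOf (Q ⊔ Subgroup.centralizer (Q : Set G))) hQ' _ ?_ _ he' b₀ hb₀ χ hχ θ hθ hcon
    intro l hl
    rw [Subgroup.mem_subgroupOf, Subgroup.mem_centralizer_iff]
    intro q hq
    have h1 := Subgroup.mem_centralizer_iff.mp hl ⟨q, hQL hq⟩ (Subgroup.mem_subgroupOf.mpr hq)
    exact congrArg Subtype.val h1

theorem normalizer_le_normalizer_sup (Q : Subgroup G) :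
    Subgroup.normalizer (Q : Set G)
      ≤ Subgroup.normalizer ((Q ⊔ Subgroup.centralizer (Q : Set G) : Subgroup G) : Set G) :=
  (Subgroup.normal_subgroupOf_iff_le_normalizer (sup_centralizer_le_normalizer Q)).mp
    (normal_sup_centralizer Q)

/-- Stabilizing the block of `Q C_G(Q)` is the same as stabilizing the block of `C_G(Q)` with the
same idempotent. -/
theorem stab_iff [Finite G] (Q : Subgroup G)
    (e : Set (IrrCharacter (Subgroup.centralizer (Q : Set G))))
    (b₀ : Set (IrrCharacter ↥(Q ⊔ Subgroup.centralizer (Q : Set G))))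
    (hext : ext (Q ⊔ Subgroup.centralizer (Q : Set G)) (blockIdem b₀)
      = ext (Subgroup.centralizer (Q : Set G)) (blockIdem e))
    (g : G) (hg : g ∈ Subgroup.normalizer (Q : Set G)) :
    (∀ θ ∈ b₀, ∀ θ' : IrrCharacter ↥(Q ⊔ Subgroup.centralizer (Q : Set G)),
      (∀ h h' : ↥(Q ⊔ Subgroup.centralizer (Q : Set G)), (h' : G) = g * h * g⁻¹ →
        (θ' : _ → ℂ) h' = (θ : _ → ℂ) h) → θ' ∈ b₀)
      ↔ StabilizesBlock (Subgroup.centralizer (Q : Set G)) e g := by
  have hgL := normalizer_le_normalizer_sup Q hg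
  have hgC := normalizer_le_normalizer_centralizer Q hg
  rw [stabilizesBlock_iff_conjA _ g hgC e, ← hext, ← stabilizesBlock_iff_conjA _ g hgL b₀]
  constructor
  · intro Hc
    refine ⟨hgL, fun χ hχ => ?_⟩
    refine ⟨pull (normConj _ g hgL) χ, Hc χ hχ _ ?_, ?_⟩
    · intro h h' hh'
      rw [pull_apply]
      refine congrArg _ (Subtype.ext ?_)
      rw [coe_normConj, hh']
      group
    · intro h h' hh'
      rw [pull_apply]
      refine congrArg _ (Subtype.ext ?_)
      rw [coe_normConj, hh']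
      group
  · rintro ⟨-, Hs⟩ θ hθ θ' hθ'
    obtain ⟨χ', hχ', hconj⟩ := Hs θ hθ
    have heq : θ' = χ' := by
      apply Subtype.ext
      funext k'
      have hk : (k' : G) = g * ((normConj _ g hgL k' : ↥(Q ⊔ Subgroup.centralizer (Q : Set G))) : G)
          * g⁻¹ := by
        rw [coe_normConj]
        group
      rw [hθ' _ k' hk, hconj _ k' hk]
    rw [heq]
    exact hχ'

/-- A maximal Brauer pair `(Q, e)`: elements of `p`-power order of `N_G(Q, e)` lie in
`Q C_G(Q)`. -/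
theorem pElement_mem_of_maximal [Fintype G] (p : ℕ) [Fact p.Prime] (hM : IsPModular p M)
    (B : Set (IrrCharacter G)) (Q : Subgroup G)
    (e : Set (IrrCharacter (Subgroup.centralizer (Q : Set G))))
    (hmax : IsMaximalBrauerPair p M B Q e) (g : G) (hg : g ∈ Subgroup.normalizer (Q : Set G))
    (hgs : StabilizesBlock (Subgroup.centralizer (Q : Set G)) e g)
    (hgp : ∃ k : ℕ, orderOf g = p ^ k) : g ∈ Q ⊔ Subgroup.centralizer (Q : Set G) := by
  classical
  have hp : p.Prime := Fact.out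
  have hMp := isPrime_of_isPModular hM
  have hBe := hmax.1
  have hQ : IsPGroup p Q := hBe.1.1
  have he : IsPBlock M e := hBe.1.2
  have hZ := Cfsg.Agent.Lib.Helper16.BPLocal.isDefectGroup_of_maximal_self hM hmax
  obtain ⟨b₀, hb₀, hext, hdef, hind'⟩ := sup_block p hM Q hQ e he hZ
  have hCL : Subgroup.centralizer (Q : Set G) ≤ Q ⊔ Subgroup.centralizer (Q : Set G) :=
    le_sup_right
  have hindC : IsInducedBlock M (Subgroup.centralizer (Q : Set G)) e B :=
    (Cfsg.Agent.Lib.Helper77.BPInd.isBrauerPairOf_iff_isInducedBlock hM Q hQ e B).mp hBe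
  have hindL : IsInducedBlock M (Q ⊔ Subgroup.centralizer (Q : Set G)) b₀ B := by
    apply isInducedBlock_of_trans hMp _ _ hCL _ b₀ B hind'
    rw [pull_symm_image_pull_image]
    exact hindC
  have hDB : IsDefectGroup p M B Q :=
    Cfsg.Agent.Lib.Helper77.BPMax2.isDefectGroup_of_maximal hM hmax
  let _ : Fintype ↥(Q ⊔ Subgroup.centralizer (Q : Set G)) := Fintype.ofFinite _
  have hT : ∀ x : G, x ∈ Cfsg.Agent.Lib.Helper77.BPFix.stab Q e ↔
      (x ∈ Subgroup.normalizer (Q : Set G) ∧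
        ∀ θ ∈ b₀, ∀ θ' : IrrCharacter ↥(Q ⊔ Subgroup.centralizer (Q : Set G)),
          (∀ h h' : ↥(Q ⊔ Subgroup.centralizer (Q : Set G)), (h' : G) = x * h * x⁻¹ →
            (θ' : _ → ℂ) h' = (θ : _ → ℂ) h) → θ' ∈ b₀) := by
    intro x
    rw [Cfsg.Agent.Lib.Helper77.BPFix.mem_stab]
    constructor
    · rintro ⟨hx, hxs⟩
      exact ⟨hx, (stab_iff Q e b₀ hext x hx).mpr hxs⟩
    · rintro ⟨hx, hxs⟩
      exact ⟨hx, (stab_iff Q e b₀ hext x hx).mp hxs⟩
  have hnot := (Cfsg.Agent.S4437.result p M hM Q hQ (Q ⊔ Subgroup.centralizer (Q : Set G)) rfl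
    b₀ hb₀ hdef B hindL (Cfsg.Agent.Lib.Helper77.BPFix.stab Q e) hT).mp hDB
  have hgT : g ∈ Cfsg.Agent.Lib.Helper77.BPFix.stab Q e :=
    Cfsg.Agent.Lib.Helper77.BPFix.mem_stab.mpr ⟨hg, hgs⟩
  have hTN : Cfsg.Agent.Lib.Helper77.BPFix.stab Q e ≤ Subgroup.normalizer (Q : Set G) :=
    fun x hx => (Cfsg.Agent.Lib.Helper77.BPFix.mem_stab.mp hx).1
  have hLT : Q ⊔ Subgroup.centralizer (Q : Set G) ≤ Cfsg.Agent.Lib.Helper77.BPFix.stab Q e := by
    apply sup_le
    · intro q hq
      exact Cfsg.Agent.Lib.Helper77.BPFix.mem_stab.mpr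
        ⟨Subgroup.le_normalizer hq, stabilizes_of_mem Q e hq⟩
    · intro c hc
      exact Cfsg.Agent.Lib.Helper77.BPFix.mem_stab.mpr
        ⟨Subgroup.centralizer_le_normalizer _ hc, stabilizes_of_mem_centralizer Q e hc⟩
  have hnL : ((Q ⊔ Subgroup.centralizer (Q : Set G)).subgroupOf
      (Cfsg.Agent.Lib.Helper77.BPFix.stab Q e)).Normal :=
    (Subgroup.normal_subgroupOf_iff_le_normalizer hLT).mpr
      (hTN.trans (normalizer_le_normalizer_sup Q))
  obtain ⟨k, hk⟩ := hgp
  by_contra hgL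
  apply hnot
  have hx1 : (QuotientGroup.mk (⟨g, hgT⟩ : Cfsg.Agent.Lib.Helper77.BPFix.stab Q e) :
      Cfsg.Agent.Lib.Helper77.BPFix.stab Q e ⧸ (Q ⊔ Subgroup.centralizer (Q : Set G)).subgroupOf
        (Cfsg.Agent.Lib.Helper77.BPFix.stab Q e)) ≠ 1 := by
    intro h1
    exact hgL (Subgroup.mem_subgroupOf.mp ((QuotientGroup.eq_one_iff _).mp h1))
  have hx2 : (QuotientGroup.mk (⟨g, hgT⟩ : Cfsg.Agent.Lib.Helper77.BPFix.stab Q e) :
      Cfsg.Agent.Lib.Helper77.BPFix.stab Q e ⧸ (Q ⊔ Subgroup.centralizer (Q : Set G)).subgroupOf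
        (Cfsg.Agent.Lib.Helper77.BPFix.stab Q e)) ^ p ^ k = 1 := by
    rw [← QuotientGroup.mk_pow]
    have : (⟨g, hgT⟩ : Cfsg.Agent.Lib.Helper77.BPFix.stab Q e) ^ p ^ k = 1 := by
      apply Subtype.ext
      show g ^ p ^ k = 1
      rw [← hk]
      exact pow_orderOf_eq_one g
    rw [this, QuotientGroup.mk_one]
  obtain ⟨j, hj, hord⟩ := (Nat.dvd_prime_pow hp).mp (orderOf_dvd_of_pow_eq_one hx2)
  have hj0 : j ≠ 0 := by
    rintro rfl
    rw [pow_zero, orderOf_eq_one_iff] at hord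
    exact hx1 hord
  have hdvd : p ∣ orderOf (QuotientGroup.mk (⟨g, hgT⟩ : Cfsg.Agent.Lib.Helper77.BPFix.stab Q e) :
      Cfsg.Agent.Lib.Helper77.BPFix.stab Q e ⧸ (Q ⊔ Subgroup.centralizer (Q : Set G)).subgroupOf
        (Cfsg.Agent.Lib.Helper77.BPFix.stab Q e)) := by
    rw [hord]
    exact dvd_pow_self p hj0
  exact hdvd.trans (by
    rw [Subgroup.relIndex, Subgroup.index_eq_card]
    exact orderOf_dvd_natCard _)

theorem card_center_factorization [Finite G] (p : ℕ) (Q : Subgroup G) :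
    ((Q ⊓ Subgroup.centralizer (Q : Set G)).subgroupOf
        (Subgroup.centralizer (Q : Set G))).index.factorization p
      + (Nat.card ↥(Q ⊓ Subgroup.centralizer (Q : Set G))).factorization p
      = (Nat.card (Subgroup.centralizer (Q : Set G))).factorization p := by
  have h1 := Subgroup.card_mul_index ((Q ⊓ Subgroup.centralizer (Q : Set G)).subgroupOf
    (Subgroup.centralizer (Q : Set G)))
  have h2 : Nat.card ((Q ⊓ Subgroup.centralizer (Q : Set G)).subgroupOf
      (Subgroup.centralizer (Q : Set G))) = Nat.card ↥(Q ⊓ Subgroup.centralizer (Q : Set G)) :=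
    Nat.card_congr (Subgroup.subgroupOfEquivOfLe inf_le_right).toEquiv
  rw [h2] at h1
  rw [← h1, Nat.factorization_mul Nat.card_pos.ne' Subgroup.index_ne_zero_of_finite,
    Finsupp.add_apply, add_comm]

/-- The canonical character of the block of a maximal Brauer pair. -/
theorem exists_canonical_of_maximal [Finite G] (p : ℕ) [Fact p.Prime] (hM : IsPModular p M)
    (B : Set (IrrCharacter G)) (Q : Subgroup G)
    (e : Set (IrrCharacter (Subgroup.centralizer (Q : Set G))))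
    (hmax : IsMaximalBrauerPair p M B Q e) :
    ∃ θ ∈ e, (∀ z : Subgroup.centralizer (Q : Set G), (z : G) ∈ Q →
        (θ : Subgroup.centralizer (Q : Set G) → ℂ) z
          = (θ : Subgroup.centralizer (Q : Set G) → ℂ) 1) ∧
      (charDegree (θ : Subgroup.centralizer (Q : Set G) → ℂ)).factorization p
        + (Nat.card ↥(Q ⊓ Subgroup.centralizer (Q : Set G))).factorization p
        = (Nat.card (Subgroup.centralizer (Q : Set G))).factorization p := by
  classical
  have hBe := hmax.1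
  have hQ : IsPGroup p Q := hBe.1.1
  have he : IsPBlock M e := hBe.1.2
  have hZ := Cfsg.Agent.Lib.Helper16.BPLocal.isDefectGroup_of_maximal_self hM hmax
  have hZp : IsPGroup p ((Q ⊓ Subgroup.centralizer (Q : Set G)).subgroupOf
      (Subgroup.centralizer (Q : Set G))) :=
    isPGroup_subgroupOf _ _ (hQ.to_le inf_le_left)
  have htop : (Q ⊓ Subgroup.centralizer (Q : Set G)).subgroupOf
      (Subgroup.centralizer (Q : Set G)) ⊔ Subgroup.centralizer
        ((((Q ⊓ Subgroup.centralizer (Q : Set G)).subgroupOf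
          (Subgroup.centralizer (Q : Set G)) : Subgroup (Subgroup.centralizer (Q : Set G))) :
            Set (Subgroup.centralizer (Q : Set G)))) = ⊤ := by
    rw [eq_top_iff]
    refine le_trans ?_ le_sup_right
    intro c _
    rw [Subgroup.mem_centralizer_iff]
    intro z hz
    apply Subtype.ext
    exact Subgroup.mem_centralizer_iff.mp c.2 (z : G) (Subgroup.mem_subgroupOf.mp hz).1
  obtain ⟨⟨θ, ⟨hθe, hθZ⟩, -⟩, hdeg, -⟩ := Cfsg.Agent.S0968.result p M hM _ hZp htop e he hZ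
  refine ⟨θ, hθe, fun z hz => hθZ z (Subgroup.mem_subgroupOf.mpr ⟨hz, z.2⟩), ?_⟩
  rw [hdeg θ hθe hθZ]
  exact card_center_factorization p Q

/-- A Brauer pair with a canonical character and `p'` inertial quotient is maximal. -/
theorem exists_maximal_of_canonical [Fintype G] (p : ℕ) [Fact p.Prime] (hM : IsPModular p M)
    (Q : Subgroup G) (e : Set (IrrCharacter (Subgroup.centralizer (Q : Set G))))
    (hQe : IsBrauerPair p M Q e) (θ : IrrCharacter (Subgroup.centralizer (Q : Set G)))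
    (hθ : θ ∈ e)
    (hdeg : (charDegree (θ : Subgroup.centralizer (Q : Set G) → ℂ)).factorization p
        + (Nat.card ↥(Q ⊓ Subgroup.centralizer (Q : Set G))).factorization p
        = (Nat.card (Subgroup.centralizer (Q : Set G))).factorization p)
    (h3 : ∀ g : G, g ∈ Subgroup.normalizer (Q : Set G) →
      StabilizesBlock (Subgroup.centralizer (Q : Set G)) e g → (∃ k : ℕ, orderOf g = p ^ k) →
        g ∈ Q ⊔ Subgroup.centralizer (Q : Set G)) :
    ∃ B : Set (IrrCharacter G), IsMaximalBrauerPair p M B Q e := by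
  classical
  have hp : p.Prime := Fact.out
  have hMp := isPrime_of_isPModular hM
  have hQ : IsPGroup p Q := hQe.1
  have he : IsPBlock M e := hQe.2
  have hZp : IsPGroup p ((Q ⊓ Subgroup.centralizer (Q : Set G)).subgroupOf
      (Subgroup.centralizer (Q : Set G))) :=
    isPGroup_subgroupOf _ _ (hQ.to_le inf_le_left)
  have hZc : (Q ⊓ Subgroup.centralizer (Q : Set G)).subgroupOf
      (Subgroup.centralizer (Q : Set G)) ≤ Subgroup.center (Subgroup.centralizer (Q : Set G)) := by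
    intro z hz
    rw [Subgroup.mem_center_iff]
    intro c
    apply Subtype.ext
    exact (Subgroup.mem_centralizer_iff.mp c.2 (z : G) (Subgroup.mem_subgroupOf.mp hz).1).symm
  have hdeg' : (charDegree (θ : Subgroup.centralizer (Q : Set G) → ℂ)).factorization p
      = ((Q ⊓ Subgroup.centralizer (Q : Set G)).subgroupOf
        (Subgroup.centralizer (Q : Set G))).index.factorization p := by
    have := card_center_factorization p Q
    omega
  have hZ : IsDefectGroup p M e ((Q ⊓ Subgroup.centralizer (Q : Set G)).subgroupOf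
      (Subgroup.centralizer (Q : Set G))) := by
    rw [isPBlock_eq_blockOf hMp he hθ]
    exact (Cfsg.Agent.S0969.result p M hM _ hZp hZc θ hdeg').1
  obtain ⟨b₀, hb₀, hext, hdef, hind'⟩ := sup_block p hM Q hQ e he hZ
  have hQL : Q ≤ Q ⊔ Subgroup.centralizer (Q : Set G) := le_sup_left
  have hCL : Subgroup.centralizer (Q : Set G) ≤ Q ⊔ Subgroup.centralizer (Q : Set G) :=
    le_sup_right
  have hLN : Q ⊔ Subgroup.centralizer (Q : Set G) ≤ Subgroup.normalizer (Q : Set G) :=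
    sup_centralizer_le_normalizer Q
  obtain ⟨B, hindL⟩ := Cfsg.Agent.Lib.Helper16.Brauer.inducedBlockDefined_of_local hM Q _ hQ hQL
    hCL hLN b₀ hb₀
  have hindC : IsInducedBlock M (Subgroup.centralizer (Q : Set G)) e B := by
    have h := isInducedBlock_trans hMp _ _ hCL _ b₀ B hind' hindL
    rwa [pull_symm_image_pull_image] at h
  have hBe : IsBrauerPairOf p M B Q e :=
    (Cfsg.Agent.Lib.Helper77.BPInd.isBrauerPairOf_iff_isInducedBlock hM Q hQ e B).mpr hindC
  let _ : Fintype ↥(Q ⊔ Subgroup.centralizer (Q : Set G)) := Fintype.ofFinite _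
  have hT : ∀ x : G, x ∈ Cfsg.Agent.Lib.Helper77.BPFix.stab Q e ↔
      (x ∈ Subgroup.normalizer (Q : Set G) ∧
        ∀ θ ∈ b₀, ∀ θ' : IrrCharacter ↥(Q ⊔ Subgroup.centralizer (Q : Set G)),
          (∀ h h' : ↥(Q ⊔ Subgroup.centralizer (Q : Set G)), (h' : G) = x * h * x⁻¹ →
            (θ' : _ → ℂ) h' = (θ : _ → ℂ) h) → θ' ∈ b₀) := by
    intro x
    rw [Cfsg.Agent.Lib.Helper77.BPFix.mem_stab]
    constructor
    · rintro ⟨hx, hxs⟩
      exact ⟨hx, (stab_iff Q e b₀ hext x hx).mpr hxs⟩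
    · rintro ⟨hx, hxs⟩
      exact ⟨hx, (stab_iff Q e b₀ hext x hx).mp hxs⟩
  have hTN : Cfsg.Agent.Lib.Helper77.BPFix.stab Q e ≤ Subgroup.normalizer (Q : Set G) :=
    fun x hx => (Cfsg.Agent.Lib.Helper77.BPFix.mem_stab.mp hx).1
  have hLT : Q ⊔ Subgroup.centralizer (Q : Set G) ≤ Cfsg.Agent.Lib.Helper77.BPFix.stab Q e := by
    apply sup_le
    · intro q hq
      exact Cfsg.Agent.Lib.Helper77.BPFix.mem_stab.mpr
        ⟨Subgroup.le_normalizer hq, stabilizes_of_mem Q e hq⟩
    · intro c hc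
      exact Cfsg.Agent.Lib.Helper77.BPFix.mem_stab.mpr
        ⟨Subgroup.centralizer_le_normalizer _ hc, stabilizes_of_mem_centralizer Q e hc⟩
  have hnL : ((Q ⊔ Subgroup.centralizer (Q : Set G)).subgroupOf
      (Cfsg.Agent.Lib.Helper77.BPFix.stab Q e)).Normal :=
    (Subgroup.normal_subgroupOf_iff_le_normalizer hLT).mpr
      (hTN.trans (normalizer_le_normalizer_sup Q))
  have hnot : ¬ p ∣ (Q ⊔ Subgroup.centralizer (Q : Set G)).relIndex
      (Cfsg.Agent.Lib.Helper77.BPFix.stab Q e) := by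
    intro hdvd
    rw [Subgroup.relIndex, Subgroup.index_eq_card] at hdvd
    obtain ⟨x, hx⟩ := exists_prime_orderOf_dvd_card' p hdvd
    obtain ⟨t, rfl⟩ := QuotientGroup.mk_surjective x
    have hn0 : orderOf t ≠ 0 := (orderOf_pos t).ne'
    obtain ⟨k, m, hm, hkm⟩ := Nat.exists_eq_pow_mul_and_not_dvd hn0 p hp.ne_one
    have hm0 : m ≠ 0 := by
      rintro rfl
      exact hm (dvd_zero p)
    have hord : orderOf (t ^ m) = p ^ k := by
      rw [orderOf_pow_of_dvd hm0 (Dvd.intro_left _ hkm.symm), hkm,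
        Nat.mul_div_cancel _ (Nat.pos_of_ne_zero hm0)]
    have hordG : orderOf (((t ^ m : Cfsg.Agent.Lib.Helper77.BPFix.stab Q e)) : G) = p ^ k := by
      rw [Subgroup.orderOf_coe]
      exact hord
    have hmem := Cfsg.Agent.Lib.Helper77.BPFix.mem_stab.mp (t ^ m).2
    have hL := h3 _ hmem.1 hmem.2 ⟨k, hordG⟩
    have h1 : (QuotientGroup.mk (t ^ m) : Cfsg.Agent.Lib.Helper77.BPFix.stab Q e ⧸
        (Q ⊔ Subgroup.centralizer (Q : Set G)).subgroupOf
          (Cfsg.Agent.Lib.Helper77.BPFix.stab Q e)) = 1 :=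
      (QuotientGroup.eq_one_iff _).mpr (Subgroup.mem_subgroupOf.mpr hL)
    rw [QuotientGroup.mk_pow] at h1
    have h2 := orderOf_dvd_of_pow_eq_one h1
    rw [hx] at h2
    exact hm h2
  have hDB := (Cfsg.Agent.S4437.result p M hM Q hQ (Q ⊔ Subgroup.centralizer (Q : Set G)) rfl
    b₀ hb₀ hdef B hindL (Cfsg.Agent.Lib.Helper77.BPFix.stab Q e) hT).mpr hnot
  exact ⟨B, Cfsg.Agent.Lib.Helper77.BPSub.isMaximal_of_isDefectGroup hM hBe hDB⟩

end Cfsg.Agent.Lib.Helper16.MaxPair
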