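import Cfsg.Agent.Lib.CT.FongPS2

/-!
# The block over an invariant character of a normal `p'`-subgroup, `p`-constrained case

`fong_gen`: let `N ≤ L` be normal subgroups of `G` with `N` a `p'`-group and `L / N` a
`p`-group, such that the centralizer of every complement `Q` of `N` in `L` lies in `L`.  If `θ`
is a `G`-invariant irreducible character of `N`, then the irreducible characters of `G` over
`θ` form one `p`-block, whose defect groups are the Sylow `p`-subgroups of `G`.  (This is the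
argument of `Cfsg.Agent.Lib.CT.FongPS2.fong_psolvable` with the Hall–Higman lemma replaced by a
hypothesis.)
-/

set_option autoImplicit false
open Cfsg

namespace Cfsg.Agent.Lib.Helper16.PCon

open Cfsg.Agent.Lib.CT.Wedderburn Cfsg.Agent.Lib.CT.KnUtil Cfsg.Agent.Lib.CT.DefectZeroBlock
open Cfsg.Agent.Lib.Helper77.BPTransport Cfsg.Agent.Lib.Helper16.Transfer
open Cfsg.Agent.Lib.Helper77.LocalRing Cfsg.Agent.Lib.Helper16.Normal
open Cfsg.Agent.Lib.Helper33.Conj Cfsg.Agent.Lib.Helper16.MinMax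
open Cfsg.Agent.Lib.CT.KnMain Cfsg.Agent.Lib.Helper77.DefectClass
open Cfsg.Agent.Lib.Helper16.UniqueCover Cfsg.Agent.Lib.CT.FongPS1
open Cfsg.Agent.Lib.CT.FongPS2
open scoped Pointwise

universe u
variable {G : Type u} [Group G] {M : Ideal AlgInt}

theorem fong_gen [Fintype G] (p : ℕ) [Fact p.Prime] (hM : IsPModular p M)
    (N : Subgroup G) [hN : N.Normal] [Fintype N] (hndvd : ¬ p ∣ Nat.card N)
    (L : Subgroup G) (hLn : L.Normal) (hNL : N ≤ L) (k : ℕ) (hk : N.relIndex L = p ^ k)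
    (hCL : ∀ Q : Subgroup G, Q ≤ L → IsPGroup p Q → N ⊔ Q = L →
      Subgroup.centralizer (Q : Set G) ≤ L)
    (θ : IrrCharacter N)
    (hinv : ∀ (g : G) (n : N),
      (θ : N → ℂ) ⟨g * n * g⁻¹, hN.conj_mem n n.2 g⟩ = (θ : N → ℂ) n) :
    ∃ B : Set (IrrCharacter G), IsPBlock M B ∧
      (∀ χ : IrrCharacter G, χ ∈ B ↔
        classInner (fun n : N => (χ : G → ℂ) n) (θ : N → ℂ) ≠ 0) ∧
      (∀ P : Sylow p G, IsDefectGroup p M B (P : Subgroup G)) ∧
      ∀ D : Subgroup G, IsDefectGroup p M B D → ∃ P : Sylow p G, D = (P : Subgroup G) := by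
  classical
  have hMp := isPrime_of_isPModular hM
  have hp := (Fact.out : p.Prime)
  -- `{θ}` is a `G`-stable block of `N`
  have hc0 : blockOf M (θ : N → ℂ) = {θ} := by
    apply blockOf_eq_singleton_of_defect_zero hM θ
    have h1 : (Nat.card N).factorization p = 0 := Nat.factorization_eq_zero_of_not_dvd hndvd
    have h2 := factorization_charDegree_le p θ
    omega
  have hc : IsPBlock M ({θ} : Set (IrrCharacter N)) := by
    rw [← hc0]
    exact isPBlock_blockOf θ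
  have hcI : ∀ g : G, cI N hN g θ = θ := by
    intro g
    apply Subtype.ext
    funext n
    rw [cI_apply]
    exact hinv g n
  have hst : GStable N hN ({θ} : Set (IrrCharacter N)) := by
    intro θ' hθ' g
    rw [Set.mem_singleton_iff] at hθ' ⊢
    rw [hθ']
    exact hcI g
  let _ : Fintype L := Fintype.ofFinite _
  have hnL : (N.subgroupOf L).Normal := inferInstance
  let _ : Fintype (N.subgroupOf L) := Fintype.ofFinite _
  have hk' : (N.subgroupOf L).index = p ^ k := hk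
  -- the unique block `b` of `L` covering `{θ}`
  obtain ⟨c', hc'def⟩ : ∃ c' : Set (IrrCharacter (N.subgroupOf L)),
      c' = pull (sIso N L hNL) '' ({θ} : Set (IrrCharacter N)) := ⟨_, rfl⟩
  have hc' : IsPBlock M c' := by
    rw [hc'def]
    exact isPBlock_pull _ hc
  have hst' : GStable (N.subgroupOf L) hnL c' := by
    intro θ' hθ' s
    rw [hc'def] at hθ' ⊢
    obtain ⟨θ₀, hθ₀, rfl⟩ := hθ'
    rw [Set.mem_singleton_iff] at hθ₀
    rw [hθ₀, cI_pull_subgroupOf N L hN hNL hnL s θ, hcI]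
    exact Set.mem_image_of_mem _ rfl
  obtain ⟨b, hb, hiota, -, hbuniq⟩ :=
    Cfsg.Agent.Lib.Helper16.Fong2.exists_block_of_pow_index p hM (N.subgroupOf L) hk' c' hc' hst'
  obtain ⟨P₀, hP₀⟩ := exists_defectGroup hM b hb
  obtain ⟨hsup, -⟩ := Cfsg.Agent.Lib.Helper16.Fong2.defect_of_pow_index p hM (N.subgroupOf L) hk'
    c' hc' hst' b hiota P₀ hP₀
  obtain ⟨Q, hQdef⟩ : ∃ Q : Subgroup G, Q = P₀.map L.subtype := ⟨_, rfl⟩
  have hQL : Q ≤ L := by
    rw [hQdef]
    exact Subgroup.map_subtype_le _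
  have hQsub : Q.subgroupOf L = P₀ := by
    rw [hQdef]
    exact Subgroup.comap_map_eq_self_of_injective L.subtype_injective P₀
  have hQ : IsDefectGroup p M b (Q.subgroupOf L) := by
    rw [hQsub]
    exact hP₀
  have hNQ : N ⊔ Q = L := by
    have h1 := congrArg (Subgroup.map L.subtype) hsup
    rw [Subgroup.map_sup, Subgroup.map_subgroupOf_eq_of_le hNL, ← hQdef] at h1
    rw [h1, ← MonoidHom.range_eq_map, Subgroup.range_subtype]
  have hQp : IsPGroup p Q := by
    rw [hQdef]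
    exact (isPGroup_of_isDefectGroup hP₀).map L.subtype
  have hCQ : Subgroup.centralizer (Q : Set G) ≤ L := hCL Q hQL hQp hNQ
  -- a character over `θ` lies over a character of `b`
  have hover : ∀ χ : IrrCharacter G,
      classInner (fun n : N => (χ : G → ℂ) n) (θ : N → ℂ) ≠ 0 →
      ∃ ψ ∈ b, classInner (fun l : L => (χ : G → ℂ) l) (ψ : L → ℂ) ≠ 0 := by
    intro χ hχ
    obtain ⟨ψ, hψ1, hψ2⟩ := exists_middle N L hNL χ θ hχ
    refine ⟨ψ, ?_, hψ1⟩
    have h1 : blockOf M (ψ : L → ℂ) = b := by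
      apply hbuniq _ (isPBlock_blockOf ψ)
      rw [hc'def, cover_pull_iff N L hNL {θ} (blockOf M (ψ : L → ℂ))]
      exact ⟨ψ, self_mem_blockOf hMp ψ, θ, rfl, hψ2⟩
    rw [← h1]
    exact self_mem_blockOf hMp ψ
  obtain ⟨χ₀, hχ₀⟩ := Cfsg.Agent.Lib.Helper16.Cover4.exists_over N θ
  obtain ⟨B, hBdef⟩ : ∃ B : Set (IrrCharacter G), B = blockOf M (χ₀ : G → ℂ) := ⟨_, rfl⟩
  have hB : IsPBlock M B := by
    rw [hBdef]
    exact isPBlock_blockOf χ₀
  have hχ₀B : χ₀ ∈ B := by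
    rw [hBdef]
    exact self_mem_blockOf hMp χ₀
  have hBcovb : ∃ χ ∈ B, ∃ ψ ∈ b,
      classInner (fun l : L => (χ : G → ℂ) l) (ψ : L → ℂ) ≠ 0 := by
    obtain ⟨ψ, hψ, h⟩ := hover χ₀ hχ₀
    exact ⟨χ₀, hχ₀B, ψ, hψ, h⟩
  have hBcovc : ∃ χ ∈ B, ∃ θ' ∈ ({θ} : Set (IrrCharacter N)),
      classInner (fun n : N => (χ : G → ℂ) n) (θ' : N → ℂ) ≠ 0 :=
    ⟨χ₀, hχ₀B, θ, rfl, hχ₀⟩
  have hmem : ∀ χ : IrrCharacter G, χ ∈ B ↔
      classInner (fun n : N => (χ : G → ℂ) n) (θ : N → ℂ) ≠ 0 := by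
    intro χ
    constructor
    · intro hχ
      obtain ⟨θ', hθ', h⟩ := Cfsg.Agent.Lib.Helper16.Reynolds.forall_cover hMp N hN {θ} hc B hB
        hBcovc χ hχ
      rw [Set.mem_singleton_iff] at hθ'
      rw [hθ'] at h
      exact h
    · intro hχ
      obtain ⟨ψ, hψ, h⟩ := hover χ hχ
      have h1 : B = blockOf M (χ : G → ℂ) :=
        cover_unique_of_centralizer p hM L b hb Q hQL hQ hCQ B _ hB (isPBlock_blockOf χ) hBcovb
          ⟨χ, self_mem_blockOf hMp χ, ψ, hψ, h⟩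
      rw [h1]
      exact self_mem_blockOf hMp χ
  -- defect groups
  have hfong : ∀ P : Subgroup G, IsDefectGroup p M B P → ¬ p ∣ (P ⊔ N).index := by
    intro P hP
    refine (Cfsg.Agent.Lib.Helper16.Fong.fong p hM N {θ} hc hst B hB hBcovc ?_ P hP).1
    intro B' hB' hcov'
    obtain ⟨χ', hχ', θ', hθ', h⟩ := hcov'
    rw [Set.mem_singleton_iff] at hθ'
    rw [hθ'] at h
    have h1 : χ' ∈ B := (hmem χ').mpr h
    have h2 : B' = B := by
      rw [eq_blockOf_of_mem hMp hB' hχ', eq_blockOf_of_mem hMp hB h1]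
    rw [h2]
  have hsyl : ∀ D : Subgroup G, IsDefectGroup p M B D →
      ∃ P : Sylow p G, D = (P : Subgroup G) := by
    intro D hD
    have hDp : IsPGroup p D := isPGroup_of_isDefectGroup hD
    have h2 : ¬ p ∣ D.index := not_dvd_index_of_sup p N D hndvd hDp (hfong D hD)
    exact ⟨hDp.toSylow h2, (IsPGroup.toSylow_coe hDp h2).symm⟩
  refine ⟨B, hB, hmem, ?_, hsyl⟩
  intro P
  obtain ⟨D, hD⟩ := exists_defectGroup hM B hB
  obtain ⟨P', hP'⟩ := hsyl D hD
  obtain ⟨g, hg⟩ := MulAction.exists_smul_eq G P' P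
  have h1 := isDefectGroup_conj hD g
  have h2 : (P : Subgroup G) = D.map (MulAut.conj g).toMonoidHom := by
    rw [← hg, hP']
    ext x
    rw [mem_cj, Sylow.coe_subgroup_smul, Subgroup.mem_pointwise_smul_iff_inv_smul_mem]
    simp [MulAut.smul_def, mul_assoc]
  rw [h2]
  exact h1

end Cfsg.Agent.Lib.Helper16.PCon
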