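import Cfsg.Agent.Lib.Helper16.PCon
import Cfsg.Agent.Lib.Helper16.BPLocal
import Cfsg.Agent.Lib.Helper77.BPStab
import Cfsg.Agent.Lib.Helper77.BPEquiv2
import Cfsg.Agent.Lib.Helper77.BPSubpair
import Cfsg.Agent.Lib.Helper77.BPMax2
import Cfsg.Agent.Lib.Helper77.BPConjMax
import Cfsg.Agent.Lib.Helper77.BPInd
import Cfsg.Agent.Lib.Helper77.BPUp
import Cfsg.Agent.Lib.Helper77.BPSub

/-!
# Blocks of principal type over an invariant character of a normal `p'`-subgroup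

Let `K ≤ L` be normal subgroups of `G` with `K` a `p'`-group, `L / K` a `p`-group and
`C_G(Q) ≤ L` for the Sylow `p`-subgroups `Q` of `L`, and let `θ` be a `G`-invariant irreducible
character of `K`.  The block `B` of the characters of `G` over `θ` has exactly one Brauer pair
at each `p`-subgroup.
-/

set_option autoImplicit false
open Cfsg

namespace Cfsg.Agent.Lib.Helper16.PCon2

open Cfsg.Agent.Lib.CT.Wedderburn Cfsg.Agent.Lib.CT.KnUtil Cfsg.Agent.Lib.CT.DefectZeroBlock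
open Cfsg.Agent.Lib.Helper77.BPTransport Cfsg.Agent.Lib.Helper16.Transfer
open Cfsg.Agent.Lib.Helper77.LocalRing Cfsg.Agent.Lib.Helper16.Normal
open Cfsg.Agent.Lib.Helper33.Conj Cfsg.Agent.Lib.Helper16.MinMax
open Cfsg.Agent.Lib.Helper77.DefectClass
open Cfsg.Agent.Lib.Helper16.UniqueCover
open Cfsg.Agent.Lib.Helper77.CentralChar Cfsg.Agent.Lib.Helper77.BlockIdem
open Cfsg.Agent.Lib.Helper77.BPBasic Cfsg.Agent.Lib.Helper77.BPBrauer
open Cfsg.Agent.Lib.Helper77.BPInd Cfsg.Agent.Lib.Helper77.BPSub Cfsg.Agent.Lib.Helper77.BPUp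
open Cfsg.Agent.Lib.Helper77.BPEquiv Cfsg.Agent.Lib.Helper77.BPEquiv2
open Cfsg.Agent.Lib.Helper77.BPStab Cfsg.Agent.Lib.Helper77.BPSubpair
open Cfsg.Agent.Lib.Helper77.BPNormal Cfsg.Agent.Lib.Helper77.BPMax2
open Cfsg.Agent.Lib.Helper77.BPConjMax Cfsg.Agent.Lib.Helper16.BPLocal
open scoped Pointwise

universe u
variable {G : Type u} [Group G] {M : Ideal AlgInt}

/-! ### Group theory -/

theorem sup_eq_of_isSylIn [Finite G] {p : ℕ} [Fact p.Prime] (K L Q : Subgroup G) (hKL : K ≤ L)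
    {k : ℕ} (hk : K.relIndex L = p ^ k) (hQ : IsSylIn p Q L) : K ⊔ Q = L := by
  have hp : p.Prime := Fact.out
  apply le_antisymm (sup_le hKL hQ.1)
  rw [← Subgroup.relIndex_eq_one]
  have h1 : (K ⊔ Q).relIndex L ∣ K.relIndex L := Subgroup.relIndex_dvd_of_le_left L le_sup_left
  have h2 : (K ⊔ Q).relIndex L ∣ Q.relIndex L := Subgroup.relIndex_dvd_of_le_left L le_sup_right
  rw [hk] at h1
  obtain ⟨j, -, hj⟩ := (Nat.dvd_prime_pow hp).mp h1
  rw [hj] at h2 ⊢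
  cases j with
  | zero => simp
  | succ j => exact absurd ((dvd_pow_self p (Nat.succ_ne_zero j)).trans h2) hQ.2.2

theorem coprime_card [Finite G] {p : ℕ} [Fact p.Prime] {K T : Subgroup G}
    (hKp : ¬ p ∣ Nat.card K) (hT : IsPGroup p T) : (Nat.card K).Coprime (Nat.card T) := by
  have hp : p.Prime := Fact.out
  obtain ⟨n, hn⟩ := IsPGroup.iff_card.mp hT
  rw [hn]
  exact Nat.Coprime.pow_right n ((Nat.Prime.coprime_iff_not_dvd hp).mpr hKp).symm

theorem inf_eq_bot_of_pGroup [Finite G] {p : ℕ} [Fact p.Prime] {K T : Subgroup G}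
    (hKp : ¬ p ∣ Nat.card K) (hT : IsPGroup p T) : K ⊓ T = ⊥ :=
  (Subgroup.disjoint_of_coprime_natCard (coprime_card hKp hT)).eq_bot

/-- A `p`-subgroup is a Sylow subgroup of its product with a normal `p'`-subgroup. -/
theorem isSylIn_sup [Finite G] {p : ℕ} [Fact p.Prime] (K T : Subgroup G) [K.Normal]
    (hKp : ¬ p ∣ Nat.card K) (hT : IsPGroup p T) : IsSylIn p T (K ⊔ T) := by
  refine ⟨le_sup_right, hT, ?_⟩
  have h1 := Cfsg.Agent.Lib.Helper76.PSolv.card_eq_card_mul_relIndex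
    (le_sup_right : T ≤ K ⊔ T)
  have h2 := Cfsg.Agent.Lib.Helper76.PSolv.card_eq_card_mul_relIndex
    (le_sup_left : K ≤ K ⊔ T)
  have h3 : K.relIndex T = Nat.card T := by
    unfold Subgroup.relIndex
    rw [Subgroup.subgroupOf_eq_bot.mpr
      (Subgroup.disjoint_of_coprime_natCard (coprime_card hKp hT)), Subgroup.index_bot]
  rw [Subgroup.relIndex_sup_left, h3] at h2
  have h4 : T.relIndex (K ⊔ T) = Nat.card K := by
    have hpos : 0 < Nat.card T := Nat.card_pos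
    have h5 : Nat.card T * T.relIndex (K ⊔ T) = Nat.card T * Nat.card K := by
      rw [← h1, h2, mul_comm]
    exact Nat.eq_of_mul_eq_mul_left hpos h5
  rw [h4]
  exact hKp

/-- An element of a normal `p'`-subgroup which conjugates an element of a `p`-subgroup into
that subgroup commutes with it. -/
theorem commute_of_conj_mem [Finite G] {p : ℕ} [Fact p.Prime] {K T : Subgroup G} [hK : K.Normal]
    (hKp : ¬ p ∣ Nat.card K) (hT : IsPGroup p T) {x r : G} (hx : x ∈ K) (hr : r ∈ T)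
    (h : x * r * x⁻¹ ∈ T) : x * r = r * x := by
  have h1 : x * r * x⁻¹ * r⁻¹ ∈ K ⊓ T := by
    rw [Subgroup.mem_inf]
    constructor
    · have h2 : r * x⁻¹ * r⁻¹ ∈ K := hK.conj_mem _ (inv_mem hx) r
      have h3 := mul_mem hx h2
      have e : x * (r * x⁻¹ * r⁻¹) = x * r * x⁻¹ * r⁻¹ := by group
      rwa [e] at h3
    · exact mul_mem h (inv_mem hr)
  rw [inf_eq_bot_of_pGroup hKp hT, Subgroup.mem_bot] at h1
  have h4 : x * r * x⁻¹ * r⁻¹ * (r * x) = x * r := by group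
  rw [← h4, h1, one_mul]

/-- Two `R`-invariant Sylow `p`-subgroups of `L` are conjugate under `C_K(R)`. -/
theorem exists_conj_centralizer [Finite G] {p : ℕ} [Fact p.Prime] (K L : Subgroup G)
    [hKn : K.Normal] (hKp : ¬ p ∣ Nat.card K) (hKL : K ≤ L) {k : ℕ}
    (hk : K.relIndex L = p ^ k) (R Q₁ Q₂ : Subgroup G) (h₁ : IsSylIn p Q₁ L)
    (h₂ : IsSylIn p Q₂ L) (hT₁ : IsPGroup p (R ⊔ Q₁ : Subgroup G))
    (hT₂ : IsPGroup p (R ⊔ Q₂ : Subgroup G)) :
    ∃ x ∈ K, x ∈ Subgroup.centralizer (R : Set G) ∧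
      (R ⊔ Q₂).map (MulAut.conj x).toMonoidHom = R ⊔ Q₁ := by
  have hL₁ := sup_eq_of_isSylIn K L Q₁ hKL hk h₁
  have hL₂ := sup_eq_of_isSylIn K L Q₂ hKL hk h₂
  have hX : K ⊔ (R ⊔ Q₂) = K ⊔ (R ⊔ Q₁) := by
    apply le_antisymm
    · refine sup_le le_sup_left (sup_le (le_sup_left.trans le_sup_right) ?_)
      calc Q₂ ≤ L := h₂.1
        _ = K ⊔ Q₁ := hL₁.symm
        _ ≤ K ⊔ (R ⊔ Q₁) := sup_le_sup_left le_sup_right K
    · refine sup_le le_sup_left (sup_le (le_sup_left.trans le_sup_right) ?_)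
      calc Q₁ ≤ L := h₁.1
        _ = K ⊔ Q₂ := hL₂.symm
        _ ≤ K ⊔ (R ⊔ Q₂) := sup_le_sup_left le_sup_right K
  have hS₁ := isSylIn_sup K (R ⊔ Q₁) hKp hT₁
  have hS₂ := isSylIn_sup K (R ⊔ Q₂) hKp hT₂
  rw [hX] at hS₂
  obtain ⟨x, hx, hxc⟩ := IsSylIn.exists_cj_eq hS₁ hS₂
  have hx' : x ∈ ((K : Subgroup G) : Set G) * ((R ⊔ Q₁ : Subgroup G) : Set G) := by
    rw [← Subgroup.normal_mul]
    exact hx
  obtain ⟨y, hy, t, ht, rfl⟩ := Set.mem_mul.mp hx'
  -- `x = y * t`; replace by `t⁻¹ * y * t`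
  have hz : t⁻¹ * y * t ∈ K := by
    have := hKn.conj_mem y hy t⁻¹
    simpa using this
  have hzc : (R ⊔ Q₂).map (MulAut.conj (t⁻¹ * y * t)).toMonoidHom = R ⊔ Q₁ := by
    have e : t⁻¹ * y * t = t⁻¹ * (y * t) := by group
    rw [e, ← cj_cj, hxc]
    exact cj_eq_self_of_mem (inv_mem ht)
  refine ⟨t⁻¹ * y * t, hz, ?_, hzc⟩
  rw [Subgroup.mem_centralizer_iff]
  intro r hr
  have hr1 : r ∈ R ⊔ Q₁ := (le_sup_left : R ≤ R ⊔ Q₁) hr
  have hr2 : t⁻¹ * y * t * r * (t⁻¹ * y * t)⁻¹ ∈ R ⊔ Q₁ := by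
    rw [← hzc]
    exact conj_mem_cj ((le_sup_left : R ≤ R ⊔ Q₂) hr)
  exact (commute_of_conj_mem hKp hT₁ hz hr1 hr2).symm

/-! ### Idempotents -/

/-- The idempotent of the set of characters of `G` over a `G`-stable set `c` of characters of
the normal subgroup `N` is the idempotent of `c`. -/
theorem blockIdem_over [Fintype G] (N : Subgroup G) [hN : N.Normal] [Fintype N]
    (c : Set (IrrCharacter N)) (hst : GStable N hN c) (B : Set (IrrCharacter G))
    (hB : ∀ ψ : IrrCharacter G, ψ ∈ B ↔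
      ∃ θ ∈ c, classInner (fun n : N => (ψ : G → ℂ) n) (θ : N → ℂ) ≠ 0) :
    iota N (blockIdem c) = blockIdem B := by
  classical
  apply eq_of_omega_eq _ _ (iota_mem_center N hN _ (ginv_blockIdem N hN c hst))
    (blockIdem_mem_center _)
  intro ψ
  rw [omega_blockIdem]
  by_cases hψ : ψ ∈ B
  · rw [if_pos hψ]
    exact omega_iota_blockIdem_of_exists N hN c hst ψ ((hB ψ).mp hψ)
  · rw [if_neg hψ]
    apply omega_iota_blockIdem_of_forall N c ψ
    intro θ' hθ'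
    by_contra hne
    exact hψ ((hB ψ).mpr ⟨θ', hθ', hne⟩)

/-- A Brauer pair of `B` at `T`, read in a subgroup `H ≥ T C_G(T)`, is a Brauer pair of a block
`b` of `H` whose idempotent is the restriction of that of `B`. -/
theorem down_pairOf [Finite G] {p : ℕ} [Fact p.Prime] (H T : Subgroup G) (hTH : T ≤ H)
    (hCH : Subgroup.centralizer (T : Set G) ≤ H) (B : Set (IrrCharacter G))
    (b : Set (IrrCharacter H)) (hb : IsPBlock M b)
    (hcoef : ∀ h : H, blockCoeff b h = blockCoeff B (h : G))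
    (f : Set (IrrCharacter (Subgroup.centralizer (T : Set G))))
    (hpair : IsBrauerPairOf p M B T f) :
    IsBrauerPairOf p M b (down H T hTH hCH f).1 (down H T hTH hCH f).2 := by
  have hS := hS_down H T hTH hCH
  refine ⟨⟨hpair.1.1.comap_subtype, isPBlock_pull _ hpair.1.2⟩, hb, ?_⟩
  rintro ξ' ⟨ξ, hξ, rfl⟩
  have h2 := hpair.2.2 ξ hξ
  have h3 := brauerOmega_zIso H (T.subgroupOf H) T hS (blockCoeff B) (blockCoeff b) hcoef
    (ξ : _ → ℂ)
  show MemLocalIdeal M (brauerOmega (T.subgroupOf H) (blockCoeff b)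
    (fun x => (ξ : _ → ℂ) (zIso H (T.subgroupOf H) T hS x)) - 1)
  rw [h3]
  exact h2

/-! ### Uniqueness of Brauer pairs -/

/-- Uniqueness of the Brauer pair at a `p`-subgroup `T` with `C_G(T) ≤ K T`. -/
theorem unique_pair_at [Fintype G] {p : ℕ} [Fact p.Prime] (hM : IsPModular p M)
    (K : Subgroup G) [hK : K.Normal] [Fintype K] (hKp : ¬ p ∣ Nat.card K)
    (θ : IrrCharacter K)
    (hinv : ∀ (g : G) (n : K),
      (θ : K → ℂ) ⟨g * n * g⁻¹, hK.conj_mem n n.2 g⟩ = (θ : K → ℂ) n)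
    (B : Set (IrrCharacter G))
    (hBmem : ∀ χ : IrrCharacter G, χ ∈ B ↔
      classInner (fun n : K => (χ : G → ℂ) n) (θ : K → ℂ) ≠ 0)
    (T : Subgroup G) (hT : IsPGroup p T)
    (hCT : Subgroup.centralizer (T : Set G) ≤ K ⊔ T)
    (h₁ h₂ : Set (IrrCharacter (Subgroup.centralizer (T : Set G))))
    (hp₁ : IsBrauerPairOf p M B T h₁) (hp₂ : IsBrauerPairOf p M B T h₂) : h₁ = h₂ := by
  classical
  have hMp := isPrime_of_isPModular hM
  have hp := (Fact.out : p.Prime)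
  have hc0 : blockOf M (θ : K → ℂ) = {θ} := by
    apply blockOf_eq_singleton_of_defect_zero hM θ
    have h1 : (Nat.card K).factorization p = 0 := Nat.factorization_eq_zero_of_not_dvd hKp
    have h2 := factorization_charDegree_le p θ
    omega
  have hc : IsPBlock M ({θ} : Set (IrrCharacter K)) := by
    rw [← hc0]
    exact isPBlock_blockOf θ
  have hcI : ∀ g : G, cI K hK g θ = θ := by
    intro g
    apply Subtype.ext
    funext n
    rw [cI_apply]
    exact hinv g n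
  have hst : GStable K hK ({θ} : Set (IrrCharacter K)) := by
    intro θ' hθ' g
    rw [Set.mem_singleton_iff] at hθ' ⊢
    rw [hθ']
    exact hcI g
  obtain ⟨H, hHdef⟩ : ∃ H : Subgroup G, H = K ⊔ T := ⟨_, rfl⟩
  have hKH : K ≤ H := by rw [hHdef]; exact le_sup_left
  have hTH : T ≤ H := by rw [hHdef]; exact le_sup_right
  have hCH : Subgroup.centralizer (T : Set G) ≤ H := by rw [hHdef]; exact hCT
  let _ : Fintype H := Fintype.ofFinite _
  have hnH : (K.subgroupOf H).Normal := inferInstance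
  let _ : Fintype (K.subgroupOf H) := Fintype.ofFinite _
  obtain ⟨m, hm⟩ := IsPGroup.iff_card.mp hT
  have hidx : (K.subgroupOf H).index = p ^ m := by
    show K.relIndex H = p ^ m
    rw [hHdef, Subgroup.relIndex_sup_left, ← hm]
    unfold Subgroup.relIndex
    rw [Subgroup.subgroupOf_eq_bot.mpr
      (Subgroup.disjoint_of_coprime_natCard (coprime_card hKp hT)), Subgroup.index_bot]
  obtain ⟨c', hc'def⟩ : ∃ c' : Set (IrrCharacter (K.subgroupOf H)),
      c' = pull (sIso K H hKH) '' ({θ} : Set (IrrCharacter K)) := ⟨_, rfl⟩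
  have hc' : IsPBlock M c' := by
    rw [hc'def]
    exact isPBlock_pull _ hc
  have hst' : GStable (K.subgroupOf H) hnH c' := by
    intro θ' hθ' s
    rw [hc'def] at hθ' ⊢
    obtain ⟨θ₀, hθ₀, rfl⟩ := hθ'
    rw [Set.mem_singleton_iff] at hθ₀
    rw [hθ₀, cI_pull_subgroupOf K H hK hKH hnH s θ, hcI]
    exact Set.mem_image_of_mem _ rfl
  obtain ⟨b, hb, hiota, -, -⟩ :=
    Cfsg.Agent.Lib.Helper16.Fong2.exists_block_of_pow_index p hM (K.subgroupOf H) hidx c' hc' hst'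
  -- `T` is a defect group of `b`
  have hK'p : ¬ p ∣ Nat.card (K.subgroupOf H) := by
    rw [Nat.card_congr (sIso K H hKH).toEquiv]
    exact hKp
  have hT'p : IsPGroup p (T.subgroupOf H) := hT.comap_subtype
  have hsupT : K.subgroupOf H ⊔ T.subgroupOf H = ⊤ := by
    rw [← Subgroup.subgroupOf_sup hKH hTH, ← hHdef, Subgroup.subgroupOf_self]
  have hDT : IsDefectGroup p M b (T.subgroupOf H) := by
    obtain ⟨P, hP⟩ := exists_defectGroup hM b hb
    have hsupP := (Cfsg.Agent.Lib.Helper16.Fong2.defect_of_pow_index p hM (K.subgroupOf H) hidx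
      c' hc' hst' b hiota P hP).1
    have hPsyl := isSylIn_sup (K.subgroupOf H) P hK'p (isPGroup_of_isDefectGroup hP)
    rw [hsupP] at hPsyl
    have hTsyl := isSylIn_sup (K.subgroupOf H) (T.subgroupOf H) hK'p hT'p
    rw [hsupT] at hTsyl
    obtain ⟨x, -, hx⟩ := IsSylIn.exists_cj_eq hTsyl hPsyl
    rw [← hx]
    exact isDefectGroup_conj hP x
  -- coefficients
  have hiotaG : iota K (blockIdem ({θ} : Set (IrrCharacter K))) = blockIdem B := by
    apply blockIdem_over K {θ} hst B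
    intro ψ
    rw [hBmem]
    constructor
    · intro h
      exact ⟨θ, rfl, h⟩
    · rintro ⟨θ', hθ', h⟩
      rw [Set.mem_singleton_iff] at hθ'
      rwa [hθ'] at h
  have hcoef : ∀ h : H, blockCoeff b h = blockCoeff B (h : G) := by
    intro h
    have e1 : blockCoeff b h = (iota (K.subgroupOf H) (blockIdem c')).coeff h := by
      rw [hiota, coeff_blockIdem]
    have e2 : blockCoeff B (h : G) =
        (iota K (blockIdem ({θ} : Set (IrrCharacter K)))).coeff (h : G) := by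
      rw [hiotaG, coeff_blockIdem]
    rw [e1, e2, Cfsg.Agent.Lib.Helper16.Fong2.coeff_iota_blockIdem,
      Cfsg.Agent.Lib.Helper16.Fong2.coeff_iota_blockIdem]
    unfold subgroupBlockCoeff
    by_cases hh : (h : G) ∈ K
    · have hh' : h ∈ K.subgroupOf H := Subgroup.mem_subgroupOf.mpr hh
      rw [dif_pos hh, dif_pos hh', hc'def, blockCoeff_pull]
      rfl
    · have hh' : h ∉ K.subgroupOf H := fun h' => hh (Subgroup.mem_subgroupOf.mp h')
      rw [dif_neg hh, dif_neg hh']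
  -- the two pairs in `H`
  have hpa₁ := down_pairOf H T hTH hCH B b hb hcoef h₁ hp₁
  have hpa₂ := down_pairOf H T hTH hCH B b hb hcoef h₂ hp₂
  have hmax₁ : IsMaximalBrauerPair p M b (T.subgroupOf H) (down H T hTH hCH h₁).2 :=
    isMaximal_of_isDefectGroup hM hpa₁ hDT
  obtain ⟨y, hy⟩ := exists_conj_eq_of_maximal hM hmax₁ (T.subgroupOf H)
    (down H T hTH hCH h₂).2 hpa₂ 1 (cj_one _)
  have hmap : (T.subgroupOf H).map H.subtype = T := Subgroup.map_subgroupOf_eq_of_le hTH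
  have hC' : Subgroup.centralizer ((((T.subgroupOf H).map H.subtype : Subgroup G)) : Set G) ≤
      H := by
    rw [hmap]
    exact hCH
  have hy2 : cjp (y : G) (⟨T, h₂⟩ : BrauerPairIdx G) = ⟨T, h₁⟩ := by
    have h3 := congrArg (up H) hy
    have h4 := up_conj H (down H T hTH hCH h₂) hC' y
    rw [up_down] at h4
    rw [← h4]
    exact h3.trans (up_down H T hTH hCH h₁)
  have hyH : (y : G) ∈ K ⊔ T := hHdef ▸ y.2
  have hy' : (y : G) ∈ ((K : Subgroup G) : Set G) * ((T : Subgroup G) : Set G) := by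
    rw [← Subgroup.normal_mul]
    exact hyH
  obtain ⟨k, hk, t, ht, hkt⟩ := Set.mem_mul.mp hy'
  have hTy : T.map (MulAut.conj (y : G)).toMonoidHom = T := congrArg Sigma.fst hy2
  have hkC : k ∈ Subgroup.centralizer (T : Set G) := by
    rw [Subgroup.mem_centralizer_iff]
    intro s hs
    have h5 : k * s * k⁻¹ ∈ T := by
      have h6 : (y : G) * (t⁻¹ * s * t) * (y : G)⁻¹ ∈
          T.map (MulAut.conj (y : G)).toMonoidHom :=
        conj_mem_cj (mul_mem (mul_mem (inv_mem ht) hs) ht)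
      rw [hTy, ← hkt] at h6
      have e : k * t * (t⁻¹ * s * t) * (k * t)⁻¹ = k * s * k⁻¹ := by group
      rwa [e] at h6
    exact (commute_of_conj_mem hKp hT hk hs h5).symm
  have hbl₂ : IsPBlock M h₂ := hp₂.1.2
  have e1 : cjp t (⟨T, h₂⟩ : BrauerPairIdx G) = ⟨T, h₂⟩ :=
    cjp_eq_self (Subgroup.le_normalizer ht) (stabilizes_of_mem T h₂ ht)
  have e2 : cjp k (⟨T, h₂⟩ : BrauerPairIdx G) = ⟨T, h₂⟩ :=
    cjp_eq_self (Subgroup.centralizer_le_normalizer _ hkC)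
      (stabilizes_of_mem_centralizer T h₂ hkC)
  have e3 : cjp (y : G) (⟨T, h₂⟩ : BrauerPairIdx G) = ⟨T, h₂⟩ := by
    rw [← hkt, ← cjp_mul hMp t k ⟨T, h₂⟩ hbl₂, e1, e2]
  rw [e3] at hy2
  injection hy2 with _ h7
  exact h7.symm

/-- Sigma form of `unique_pair_at`. -/
theorem unique_pair_sigma [Fintype G] {p : ℕ} [Fact p.Prime] (hM : IsPModular p M)
    (K : Subgroup G) [hK : K.Normal] [Fintype K] (hKp : ¬ p ∣ Nat.card K)
    (θ : IrrCharacter K)
    (hinv : ∀ (g : G) (n : K),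
      (θ : K → ℂ) ⟨g * n * g⁻¹, hK.conj_mem n n.2 g⟩ = (θ : K → ℂ) n)
    (B : Set (IrrCharacter G))
    (hBmem : ∀ χ : IrrCharacter G, χ ∈ B ↔
      classInner (fun n : K => (χ : G → ℂ) n) (θ : K → ℂ) ≠ 0)
    (a a' : BrauerPairIdx G) (h : a'.1 = a.1) (hT : IsPGroup p a.1)
    (hCT : Subgroup.centralizer (a.1 : Set G) ≤ K ⊔ a.1)
    (hp₁ : IsBrauerPairOf p M B a.1 a.2) (hp₂ : IsBrauerPairOf p M B a'.1 a'.2) : a' = a := by
  obtain ⟨T, h₁⟩ := a
  obtain ⟨T', h₂⟩ := a'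
  have h' : T' = T := h
  subst h'
  have := unique_pair_at hM K hKp θ hinv B hBmem T' hT hCT h₁ h₂ hp₁ hp₂
  rw [this]

/-- Above a Brauer pair `(R, f)` of `B` there is a Brauer pair at `R Q` for some `R`-invariant
Sylow `p`-subgroup `Q` of the normal subgroup `L`. -/
theorem exists_good_above [Finite G] {p : ℕ} [Fact p.Prime] (hM : IsPModular p M)
    (L : Subgroup G) [hL : L.Normal] (B : Set (IrrCharacter G)) (hB : IsPBlock M B)
    (hsyl : ∀ D : Subgroup G, IsDefectGroup p M B D → ∃ P : Sylow p G, D = (P : Subgroup G))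
    (R : Subgroup G) (f : Set (IrrCharacter (Subgroup.centralizer (R : Set G))))
    (hp : IsBrauerPairOf p M B R f) :
    ∃ (Q : Subgroup G) (a : BrauerPairIdx G), IsSylIn p Q L ∧ a.1 = R ⊔ Q ∧ IsPGroup p a.1 ∧
      IsBrauerPairOf p M B a.1 a.2 ∧
      Relation.ReflTransGen (NormalSubpairRel p M) (⟨R, f⟩ : BrauerPairIdx G) a := by
  obtain ⟨c, hc, hle⟩ := exists_maximal_above B (Nat.card G - Nat.card R) ⟨R, f⟩ ⟨R, f⟩ hp
    Relation.ReflTransGen.refl rfl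
  obtain ⟨S, hS⟩ := hsyl c.1 (isDefectGroup_of_maximal hM hc)
  have hcp : IsPGroup p c.1 := hc.1.1.1
  have hRc : R ≤ c.1 := le_of_subpairLE ⟨R, f⟩ c hle
  have hSyl : IsSylIn p c.1 ⊤ := by
    rw [hS]
    exact isSylIn_of_sylow S le_top
  have hQ : IsSylIn p (c.1 ⊓ L) L :=
    Cfsg.Agent.Lib.Helper16.Fong.isSylIn_inf_of_normal hSyl le_top
      (fun x _ l hl => hL.conj_mem l hl x)
  have hTle : R ⊔ (c.1 ⊓ L) ≤ c.1 := sup_le hRc inf_le_left
  obtain ⟨h, hh⟩ := exists_subpair hM c.1 c.2 hc.1.1 (R ⊔ (c.1 ⊓ L)) hTle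
  have hTp : IsPGroup p (R ⊔ (c.1 ⊓ L) : Subgroup G) := hcp.to_le hTle
  have hBh : IsBrauerPairOf p M B (R ⊔ (c.1 ⊓ L)) h :=
    (isBrauerPairOf_iff_of_le hM B hB ⟨R ⊔ (c.1 ⊓ L), h⟩ c hh).mp hc.1
  obtain ⟨f', hf'⟩ := exists_subpair hM (R ⊔ (c.1 ⊓ L)) h hBh.1 R le_sup_left
  have hff : f' = f :=
    subpair_unique hM (Nat.card c.1) c.1 rfl c.2 R f' f hc.1.1
      (Relation.ReflTransGen.trans hf' hh) hle
  rw [hff] at hf'
  exact ⟨c.1 ⊓ L, ⟨R ⊔ (c.1 ⊓ L), h⟩, hQ, rfl, hTp, hBh, hf'⟩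

/-- **Principal type**: uniqueness of the Brauer pair of `B` at every `p`-subgroup. -/
theorem unique_induced [Fintype G] {p : ℕ} [Fact p.Prime] (hM : IsPModular p M)
    (K : Subgroup G) [hK : K.Normal] [Fintype K] (hKp : ¬ p ∣ Nat.card K)
    (L : Subgroup G) [hL : L.Normal] (hKL : K ≤ L) {k : ℕ} (hk : K.relIndex L = p ^ k)
    (hCL : ∀ Q : Subgroup G, IsSylIn p Q L → Subgroup.centralizer (Q : Set G) ≤ L)
    (θ : IrrCharacter K)
    (hinv : ∀ (g : G) (n : K),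
      (θ : K → ℂ) ⟨g * n * g⁻¹, hK.conj_mem n n.2 g⟩ = (θ : K → ℂ) n)
    (B : Set (IrrCharacter G)) (hB : IsPBlock M B)
    (hBmem : ∀ χ : IrrCharacter G, χ ∈ B ↔
      classInner (fun n : K => (χ : G → ℂ) n) (θ : K → ℂ) ≠ 0)
    (hsyl : ∀ D : Subgroup G, IsDefectGroup p M B D → ∃ P : Sylow p G, D = (P : Subgroup G))
    (R : Subgroup G) (f₁ f₂ : Set (IrrCharacter (Subgroup.centralizer (R : Set G))))
    (hp₁ : IsBrauerPairOf p M B R f₁) (hp₂ : IsBrauerPairOf p M B R f₂) : f₁ = f₂ := by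
  have hMp := isPrime_of_isPModular hM
  obtain ⟨Q₁, a₁, hQ₁, ha₁, hpa₁, hBa₁, hle₁⟩ := exists_good_above hM L B hB hsyl R f₁ hp₁
  obtain ⟨Q₂, a₂, hQ₂, ha₂, hpa₂, hBa₂, hle₂⟩ := exists_good_above hM L B hB hsyl R f₂ hp₂
  have hT₁ : IsPGroup p (R ⊔ Q₁ : Subgroup G) := ha₁ ▸ hpa₁
  have hT₂ : IsPGroup p (R ⊔ Q₂ : Subgroup G) := ha₂ ▸ hpa₂
  obtain ⟨x, hxK, hxC, hxT⟩ := exists_conj_centralizer K L hKp hKL hk R Q₁ Q₂ hQ₁ hQ₂ hT₁ hT₂
  have hCT : Subgroup.centralizer (a₁.1 : Set G) ≤ K ⊔ a₁.1 := by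
    rw [ha₁]
    calc Subgroup.centralizer ((R ⊔ Q₁ : Subgroup G) : Set G)
        ≤ Subgroup.centralizer (Q₁ : Set G) :=
          Subgroup.centralizer_le (show Q₁ ≤ R ⊔ Q₁ from le_sup_right)
      _ ≤ L := hCL Q₁ hQ₁
      _ = K ⊔ Q₁ := (sup_eq_of_isSylIn K L Q₁ hKL hk hQ₁).symm
      _ ≤ K ⊔ (R ⊔ Q₁) := sup_le_sup_left le_sup_right K
  have hfst : (cjp x a₂).1 = a₁.1 := by
    show a₂.1.map (MulAut.conj x).toMonoidHom = a₁.1
    rw [ha₂, ha₁]
    exact hxT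
  have hBc : IsBrauerPairOf p M B (cjp x a₂).1 (cjp x a₂).2 :=
    isBrauerPairOf_conj B a₂.1 x hBa₂
  have heq : cjp x a₂ = a₁ :=
    unique_pair_sigma hM K hKp θ hinv B hBmem a₁ (cjp x a₂) hfst hpa₁ hCT hBa₁ hBc
  have hle₂' := subpairLE_conj (M := M) (p := p) x hle₂
  have hself : cjp x (⟨R, f₂⟩ : BrauerPairIdx G) = ⟨R, f₂⟩ :=
    cjp_eq_self (Subgroup.centralizer_le_normalizer _ hxC)
      (stabilizes_of_mem_centralizer R f₂ hxC)
  rw [hself, heq] at hle₂'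
  exact subpair_unique hM (Nat.card a₁.1) a₁.1 rfl a₁.2 R f₁ f₂ hBa₁.1 hle₁ hle₂'

end Cfsg.Agent.Lib.Helper16.PCon2
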