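import Cfsg.Agent.Lib.Helper16.PCon2
import Cfsg.Agent.Lib.Helper75.SelfCentCore

/-!
# Blocks over an invariant character of `O_{p'}(G)` in the `p`-constrained case

`main`: if a Sylow `p`-subgroup `Q` of `O_{p',p}(G)` satisfies `C_G(Q) ≤ O_{p',p}(G)` and `θ` is
a `G`-invariant irreducible character of `O_{p'}(G)`, then the characters of `G` over `θ` form
a block with Sylow defect groups, which is of principal type: for each `p`-subgroup `R` exactly
one block of `C_G(R)` induces it.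
-/

set_option autoImplicit false
open Cfsg

namespace Cfsg.Agent.Lib.Helper16.PCon3

open Cfsg.Agent.Lib.Helper77.LocalRing Cfsg.Agent.Lib.Helper33.Conj
open Cfsg.Agent.Lib.Helper77.BPInd Cfsg.Agent.Lib.Helper77.BPSubpair
open Cfsg.Agent.Lib.Helper77.BPNormal Cfsg.Agent.Lib.Helper16.BPLocal
open Cfsg.Agent.Lib.Helper16.PCon Cfsg.Agent.Lib.Helper16.PCon2 Cfsg.Agent.Lib.CT.FongPS2

universe u
variable {G : Type u} [Group G] {M : Ideal AlgInt}

theorem main [Fintype G] (p : ℕ) [Fact p.Prime] (hM : IsPModular p M) (K : Subgroup G)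
    (hK : K = pPrimeCore p G) [Fintype K] (L : Subgroup G) (hL : L = pPrimePCore p G)
    (Q : Subgroup G) (hQL : Q ≤ L) (hQp : IsPGroup p Q) (hQS : ¬ p ∣ Q.relIndex L)
    (hCQ : Subgroup.centralizer (Q : Set G) ≤ L) (θ : IrrCharacter K)
    (hθ : ∀ g : G, IsConjCharOf K g (θ : K → ℂ) (θ : K → ℂ))
    (B : Set (IrrCharacter G))
    (hBdef : ∀ χ : IrrCharacter G, χ ∈ B ↔
      classInner (fun k : K => (χ : G → ℂ) k) (θ : K → ℂ) ≠ 0) :
    IsPBlock M B ∧ (∀ S : Sylow p G, IsDefectGroup p M B S) ∧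
      ∀ R : Subgroup G, IsPGroup p R →
        ∃! f : Set (IrrCharacter (Subgroup.centralizer (R : Set G))),
          IsInducedBlock M (Subgroup.centralizer (R : Set G)) f B := by
  classical
  have hMp := isPrime_of_isPModular hM
  have hp := (Fact.out : p.Prime)
  have hKn : K.Normal := by
    rw [hK]
    exact Cfsg.Agent.Lib.Helper75.SelfCentCore.pPrimeCore_normal G p
  have hLn : L.Normal := by
    rw [hL]
    exact Cfsg.Agent.Lib.Helper11.PConstr.pPrimePCore_normal p G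
  have hKL : K ≤ L := by
    rw [hK, hL]
    exact Cfsg.Agent.Lib.Helper11.PConstr.pPrimeCore_le_pPrimePCore p G
  have hKp : ¬ p ∣ Nat.card K := by
    have hcop : (Nat.card K).Coprime p := by
      rw [hK]
      exact Cfsg.Agent.Lib.Helper76.PSolv.pPrimeCore_coprime p
    exact fun h => hp.one_lt.ne' (Nat.Coprime.eq_one_of_dvd hcop.symm h)
  obtain ⟨k, hk⟩ : ∃ k : ℕ, K.relIndex L = p ^ k := by
    rw [hK, hL]
    exact relIndex_pPrimeCore (G := G) p
  have hQsyl : IsSylIn p Q L := ⟨hQL, hQp, hQS⟩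
  have hCL : ∀ Q' : Subgroup G, IsSylIn p Q' L → Subgroup.centralizer (Q' : Set G) ≤ L := by
    intro Q' hQ'
    obtain ⟨x, hxL, hx⟩ := IsSylIn.exists_cj_eq hQ' hQsyl
    rw [← hx, centralizer_cj]
    calc (Subgroup.centralizer (Q : Set G)).map (MulAut.conj x).toMonoidHom
        ≤ L.map (MulAut.conj x).toMonoidHom := cj_mono hCQ
      _ = L := cj_eq_self_of_mem hxL
  have hinv : ∀ (g : G) (n : K),
      (θ : K → ℂ) ⟨g * n * g⁻¹, hKn.conj_mem n n.2 g⟩ = (θ : K → ℂ) n :=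
    fun g n => hθ g n ⟨g * n * g⁻¹, hKn.conj_mem n n.2 g⟩ rfl
  obtain ⟨B', hB', hmem, hall, hsyl⟩ := fong_gen p hM K hKp L hLn hKL k hk
    (fun Q' _ hQ'p hsup => hCL Q' (by
      have h1 := isSylIn_sup K Q' hKp hQ'p
      rwa [hsup] at h1)) θ hinv
  have hBB : B = B' := by
    ext χ
    rw [hBdef, hmem]
  subst hBB
  refine ⟨hB', hall, ?_⟩
  intro R hR
  obtain ⟨S, hRS⟩ := hR.exists_le_sylow
  obtain ⟨e, hmax⟩ := exists_maximal_pair hM B hB' S (hall S)
  obtain ⟨f, hf⟩ := exists_subpair hM S e hmax.1.1 R hRS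
  have hpf : IsBrauerPairOf p M B R f :=
    (isBrauerPairOf_iff_of_le hM B hB' ⟨R, f⟩ ⟨S, e⟩ hf).mp hmax.1
  refine ⟨f, (isBrauerPairOf_iff_isInducedBlock hM R hR f B).mp hpf, ?_⟩
  intro f' hf'
  have hpf' := (isBrauerPairOf_iff_isInducedBlock hM R hR f' B).mpr hf'
  exact unique_induced hM K hKp L hKL hk hCL θ hinv B hB' hmem hsyl R f' f hpf' hpf

end Cfsg.Agent.Lib.Helper16.PCon3
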