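import Mathlib
import Cfsg.Agent.Lib.Helper1.PDStmt

/-!
Piece SYLB of S4020 (helper16, second seat): a Sylow subgroup containing `z`, `b` and
centralizing `b`.
-/

set_option autoImplicit false
set_option linter.unusedVariables false
set_option linter.style.haveILetI false

universe u

namespace Cfsg.Agent.Lib.Helper16.PDSYLB

open Cfsg.Agent.Lib.Helper1.PDStmt

theorem main : SylB.{u} := by
  intro X _ _ p _ P z hz hzc b hb ⟨k, hk⟩
  have hbmem : b ∈ (Subgroup.zpowers z).map (MulAut.conj k).toMonoidHom := by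
    rw [← hk]
    exact Subgroup.mem_zpowers b
  obtain ⟨zi, hzi, hzib⟩ := Subgroup.mem_map.mp hbmem
  have hb_eq : b = k * zi * k⁻¹ := by
    rw [← hzib]
    rfl
  have hzic : ∀ x ∈ (P : Subgroup X), x * zi = zi * x := by
    intro x hx
    obtain ⟨n, rfl⟩ := Subgroup.mem_zpowers_iff.mp hzi
    have hcomm : Commute x z := hzc x hx
    exact (hcomm.zpow_right n).eq
  obtain ⟨C, hCmem, hPC⟩ : ∃ C : Subgroup X, (∀ y : X, y ∈ C ↔ b * y = y * b) ∧
      (P : Subgroup X).map (MulAut.conj k).toMonoidHom ≤ C := by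
    have hCm : ∀ y : X, y ∈ Subgroup.centralizer ({b} : Set X) ↔ b * y = y * b := by
      intro y
      rw [Subgroup.mem_centralizer_iff]
      simp
    refine ⟨Subgroup.centralizer ({b} : Set X), hCm, ?_⟩
    rintro _ ⟨x, hx, rfl⟩
    rw [hCm]
    show b * (k * x * k⁻¹) = k * x * k⁻¹ * b
    rw [hb_eq]
    have h1 := hzic x hx
    calc k * zi * k⁻¹ * (k * x * k⁻¹) = k * (zi * x) * k⁻¹ := by group
      _ = k * (x * zi) * k⁻¹ := by rw [h1]
      _ = k * x * k⁻¹ * (k * zi * k⁻¹) := by group
  have hzC : z ∈ C := (hCmem z).mpr (hzc b hb)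
  have hbC : b ∈ C := (hCmem b).mpr rfl
  have hPcard := P.card_eq_multiplicity
  have hP2card : Nat.card ((P : Subgroup X).map (MulAut.conj k).toMonoidHom)
      = Nat.card (P : Subgroup X) :=
    Subgroup.card_map_of_injective (MulAut.conj k).injective
  have hP2p : IsPGroup p ((P : Subgroup X).map (MulAut.conj k).toMonoidHom) :=
    P.isPGroup'.map _
  have hTp : IsPGroup p (((P : Subgroup X).map (MulAut.conj k).toMonoidHom).subgroupOf C) :=
    hP2p.comap_of_injective C.subtype C.subtype_injective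
  have hTcard : Nat.card (((P : Subgroup X).map (MulAut.conj k).toMonoidHom).subgroupOf C)
      = Nat.card (P : Subgroup X) := by
    rw [← hP2card]
    exact Nat.card_congr (Subgroup.subgroupOfEquivOfLe hPC).toEquiv
  obtain ⟨Q₂, hQ₂⟩ := hTp.exists_le_sylow
  have hHp : IsPGroup p ((Subgroup.closure ({z, b} : Set X)).subgroupOf C) := by
    have hH : Subgroup.closure ({z, b} : Set X) ≤ (P : Subgroup X) := by
      rw [Subgroup.closure_le]
      intro y hy
      simp only [Set.mem_insert_iff, Set.mem_singleton_iff] at hy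
      rcases hy with rfl | rfl
      · exact hz
      · exact hb
    exact (P.isPGroup'.to_le hH).comap_of_injective C.subtype C.subtype_injective
  obtain ⟨Q, hQ⟩ := hHp.exists_le_sylow
  have hQcard : Nat.card (Q : Subgroup C) = Nat.card (Q₂ : Subgroup C) := by
    rw [Q.card_eq_multiplicity, Q₂.card_eq_multiplicity]
  have hge : Nat.card (P : Subgroup X) ≤ Nat.card (Q : Subgroup C) := by
    rw [hQcard, ← hTcard]
    exact Subgroup.card_le_of_le hQ₂
  have hmapcard : Nat.card ((Q : Subgroup C).map C.subtype) = Nat.card (Q : Subgroup C) :=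
    Subgroup.card_map_of_injective C.subtype_injective
  have hmapp : IsPGroup p ((Q : Subgroup C).map C.subtype) := Q.isPGroup'.map _
  obtain ⟨S, hS⟩ := hmapp.exists_le_sylow
  have hle : Nat.card ((Q : Subgroup C).map C.subtype) ≤ Nat.card (S : Subgroup X) :=
    Subgroup.card_le_of_le hS
  have hScard := S.card_eq_multiplicity
  have hcard : Nat.card ((Q : Subgroup C).map C.subtype)
      = p ^ (Nat.card X).factorization p := by
    apply le_antisymm
    · calc Nat.card ((Q : Subgroup C).map C.subtype) ≤ Nat.card (S : Subgroup X) := hle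
        _ = p ^ (Nat.card X).factorization p := hScard
    · calc p ^ (Nat.card X).factorization p = Nat.card (P : Subgroup X) := hPcard.symm
        _ ≤ Nat.card (Q : Subgroup C) := hge
        _ = Nat.card ((Q : Subgroup C).map C.subtype) := hmapcard.symm
  refine ⟨Sylow.ofCard _ hcard, ?_, ?_, ?_⟩
  · rw [Sylow.coe_ofCard]
    refine Subgroup.mem_map.mpr ⟨⟨z, hzC⟩, hQ ?_, rfl⟩
    exact Subgroup.mem_subgroupOf.mpr (Subgroup.subset_closure (by simp))
  · rw [Sylow.coe_ofCard]
    refine Subgroup.mem_map.mpr ⟨⟨b, hbC⟩, hQ ?_, rfl⟩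
    exact Subgroup.mem_subgroupOf.mpr (Subgroup.subset_closure (by simp))
  · intro y hy
    rw [Sylow.coe_ofCard] at hy
    obtain ⟨⟨y', hy'C⟩, _, rfl⟩ := Subgroup.mem_map.mp hy
    exact ((hCmem y').mp hy'C).symm

end Cfsg.Agent.Lib.Helper16.PDSYLB
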