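import Mathlib
import Cfsg.Prelude.Def_BrauerPairs
import Cfsg.Prelude.Def_BlockRank
import Cfsg.Agent.Lib.Helper16.Weight
import Cfsg.Agent.Lib.Helper16.Fong2
import Cfsg.Agent.Lib.CT.FrobRec
import Cfsg.Agent.Lib.CT.Orth
import Cfsg.Agent.S0927
import Cfsg.Agent.S4996

/-!
# Blocks of a normal subgroup of `p`-power index: abelian defect groups

`G/N` a `p`-group, `b` a `G`-stable block of `N`, `B` the block of `G` with the same idempotent,
`P` an abelian defect group of `B`.  Then restriction is a map `Irr(B) → Irr(b)` with all fibres of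
size `[G : N]`, and `l(B) = l(b)`.
-/

set_option autoImplicit false

namespace Cfsg.Agent.Lib.Helper16.PIndex

open Cfsg Cfsg.Agent.Lib.Helper77.LocalRing Cfsg.Agent.Lib.Helper77.BlockIdem
  Cfsg.Agent.Lib.CT.Wedderburn Cfsg.Agent.Lib.Helper16.ZR
  Cfsg.Agent.Lib.Helper16.MinMax Cfsg.Agent.Lib.Helper16.Fong2
  Cfsg.Agent.Lib.Helper16.Weight Cfsg.Agent.Lib.CT.FrobRec Cfsg.Agent.Lib.CT.Orth
  Cfsg.Agent.Lib.Helper16.Normal

open scoped ComplexConjugate Pointwise

universe u
variable {G : Type u} [Group G] {M : Ideal AlgInt}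

/-- Every member of `B` restricts irreducibly to `N`. -/
theorem restrict_irr [Fintype G] (p : ℕ) [Fact p.Prime] (hM : IsPModular p M)
    (N : Subgroup G) [hN : N.Normal] (b : Set (IrrCharacter N))
    (B : Set (IrrCharacter G)) (hB : IsPBlock M B)
    (hidem : iota N (blockIdem b) = blockIdem B)
    (P : Subgroup G) (hPD : IsDefectGroup p M B P)
    (hPab : ∀ x ∈ P, ∀ y ∈ P, x * y = y * x) (hNP : N ⊔ P = ⊤)
    (χ : IrrCharacter G) (hχ : χ ∈ B) :
    IsIrrCharacter N (fun n : N => (χ : G → ℂ) n) := by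
  classical
  have hMp := isPrime_of_isPModular hM
  obtain ⟨y, hy, Pc, hPc⟩ := hPD
  have hyN : y ∈ N := by
    by_contra hyN
    have h0 : blockCoeff B y = 0 := by
      rw [← coeff_blockIdem, ← hidem, coeff_iota_blockIdem]
      unfold subgroupBlockCoeff
      rw [dif_neg hyN]
    exact hy.2.1 (h0 ▸ memLocalIdeal_zero hMp)
  by_contra hirr
  obtain ⟨x, hx⟩ := (Cfsg.Agent.S4996.result N χ).mp hirr
  have hxm : x ∈ (N : Set G) * (P : Set G) := by
    rw [← Subgroup.normal_mul]
    have : x ∈ N ⊔ P := hNP ▸ Subgroup.mem_top x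
    exact this
  obtain ⟨n, hn, u, hu, rfl⟩ := Set.mem_mul.mp hxm
  have hu' : u ∈ (Pc : Subgroup (Subgroup.centralizer ({y} : Set G))).map
      (Subgroup.centralizer ({y} : Set G)).subtype := hPc ▸ hu
  obtain ⟨u', hu'P, rfl⟩ := Subgroup.mem_map.mp hu'
  have hcomm : ∀ w ∈ (Pc : Subgroup (Subgroup.centralizer ({y} : Set G))), u' * w = w * u' := by
    intro w hw
    apply Subtype.ext
    have hwP : (w : G) ∈ P := by
      rw [hPc]
      exact Subgroup.mem_map_of_mem _ hw
    have := hPab _ hu w hwP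
    simpa using this
  have hcc := (Cfsg.Agent.S0927.result p M hM B hB y hy Pc u' hu'P).2 hcomm χ hχ
  have hne : (χ : G → ℂ) ((u' : G) * y) ≠ 0 := by
    intro h0
    apply hcc
    unfold centralChar
    rw [h0, mul_zero, zero_div]
    exact memLocalIdeal_zero hMp
  have huy : (u' : G) * y = y * (u' : G) :=
    (mem_centralizer_singleton.mp u'.2).symm
  have h1 := hx ⟨y * n⁻¹, N.mul_mem hyN (N.inv_mem hn)⟩
  apply hne
  rw [huy]
  have h2 : y * n⁻¹ * (n * (u' : G)) = y * (u' : G) := by group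
  simpa [h2] using h1

/-- The restriction of a member of `B` is a member of `b`. -/
theorem restrict_mem [Fintype G] (N : Subgroup G) [Fintype N] (b : Set (IrrCharacter N))
    (B : Set (IrrCharacter G)) (hidem : iota N (blockIdem b) = blockIdem B)
    (χ : IrrCharacter G) (hχ : χ ∈ B)
    (hirr : IsIrrCharacter N (fun n : N => (χ : G → ℂ) n)) :
    (⟨fun n : N => (χ : G → ℂ) n, hirr⟩ : IrrCharacter N) ∈ b := by
  classical
  apply constituent_mem N b χ
  · rw [hidem, omega_blockIdem, if_pos hχ]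
  · have h := irr_orthonormal (⟨fun n : N => (χ : G → ℂ) n, hirr⟩ : IrrCharacter N)
      ⟨fun n : N => (χ : G → ℂ) n, hirr⟩
    rw [if_pos rfl] at h
    show classInner (fun n : N => (χ : G → ℂ) n) (fun n : N => (χ : G → ℂ) n) ≠ 0
    have h' : classInner (fun n : N => (χ : G → ℂ) n) (fun n : N => (χ : G → ℂ) n) = 1 := h
    rw [h']
    exact one_ne_zero

/-- The fibre of restriction over a member of `b` has `[G : N]` elements. -/
theorem card_fibre [Fintype G] (N : Subgroup G) [Fintype N]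
    (b : Set (IrrCharacter N)) (B : Set (IrrCharacter G))
    (hres : ∀ χ ∈ B, IsIrrCharacter N (fun n : N => (χ : G → ℂ) n))
    (hcov : ∀ χ : IrrCharacter G, ∀ θ ∈ b,
      classInner (fun n : N => (χ : G → ℂ) n) (θ : N → ℂ) ≠ 0 → χ ∈ B)
    (θ : IrrCharacter N) (hθ : θ ∈ b) :
    Nat.card {χ : IrrCharacter G // χ ∈ B ∧ ∀ n : N, (χ : G → ℂ) n = (θ : N → ℂ) n}
      = N.index := by
  classical
  have := finite_irrCharacter G
  have := Fintype.ofFinite (IrrCharacter G)
  have h1 : indFun N (θ : N → ℂ) 1 = (N.index : ℂ) * (θ : N → ℂ) 1 := indFun_one N _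
  have h2 := classFunction_expand_sum (indFun N (θ : N → ℂ)) (indFun_isClassFunction N _) 1
  have hterm : ∀ χ : IrrCharacter G,
      classInner (indFun N (θ : N → ℂ)) (χ : G → ℂ) * (χ : G → ℂ) 1
        = if (χ ∈ B ∧ ∀ n : N, (χ : G → ℂ) n = (θ : N → ℂ) n) then (θ : N → ℂ) 1 else 0 := by
    intro χ
    rw [frobenius_reciprocity N (θ : N → ℂ) (χ : G → ℂ) (irr_isClassFunction χ)]
    by_cases hF : χ ∈ B ∧ ∀ n : N, (χ : G → ℂ) n = (θ : N → ℂ) n
    · rw [if_pos hF]
      have hfun : (fun h : N => (χ : G → ℂ) h) = (θ : N → ℂ) := funext hF.2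
      rw [hfun]
      have ho := irr_orthonormal θ θ
      rw [if_pos rfl] at ho
      rw [ho, one_mul]
      have := hF.2 1
      simpa using this
    · rw [if_neg hF]
      have h0 : classInner (θ : N → ℂ) (fun h : N => (χ : G → ℂ) h) = 0 := by
        by_contra hne
        have hne' : classInner (fun h : N => (χ : G → ℂ) h) (θ : N → ℂ) ≠ 0 := by
          intro h0
          apply hne
          rw [Cfsg.Agent.Lib.CT.Clifford.classInner_conj_symm, h0, map_zero]
        have hχB := hcov χ θ hθ hne'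
        have hirr := hres χ hχB
        have ho := irr_orthonormal θ ⟨fun n : N => (χ : G → ℂ) n, hirr⟩
        have ho' : classInner (θ : N → ℂ) (fun h : N => (χ : G → ℂ) h)
            = if θ = ⟨fun n : N => (χ : G → ℂ) n, hirr⟩ then 1 else 0 := ho
        by_cases heq : θ = ⟨fun n : N => (χ : G → ℂ) n, hirr⟩
        · apply hF
          refine ⟨hχB, fun n => ?_⟩
          have := congrArg (fun t : IrrCharacter N => (t : N → ℂ) n) heq
          exact this.symm
        · rw [if_neg heq] at ho'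
          exact hne ho'
      rw [h0, zero_mul]
  rw [h1] at h2
  rw [Finset.sum_congr rfl (fun χ _ => hterm χ)] at h2
  rw [← Finset.sum_filter, Finset.sum_const, nsmul_eq_mul] at h2
  have hθ1 : (θ : N → ℂ) 1 ≠ 0 := by
    exact Cfsg.Agent.Lib.CT.Wedderburn.irr_apply_one_ne_zero θ.2
  have h3 : (N.index : ℂ) = ((Finset.univ.filter (fun χ : IrrCharacter G =>
      χ ∈ B ∧ ∀ n : N, (χ : G → ℂ) n = (θ : N → ℂ) n)).card : ℂ) :=
    mul_right_cancel₀ hθ1 h2
  have h4 : N.index = (Finset.univ.filter (fun χ : IrrCharacter G =>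
      χ ∈ B ∧ ∀ n : N, (χ : G → ℂ) n = (θ : N → ℂ) n)).card := by exact_mod_cast h3
  rw [h4, Nat.card_eq_fintype_card, Fintype.card_subtype]

/-- Counting `B` through the restriction map. -/
theorem card_eq_index_mul [Finite G] (N : Subgroup G)
    (b : Set (IrrCharacter N)) (B : Set (IrrCharacter G))
    (hres : ∀ χ ∈ B, ∃ θ ∈ b, ∀ n : N, (χ : G → ℂ) n = (θ : N → ℂ) n)
    (hfib : ∀ θ ∈ b,
      Nat.card {χ : IrrCharacter G // χ ∈ B ∧ ∀ n : N, (χ : G → ℂ) n = (θ : N → ℂ) n}
        = N.index) :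
    Nat.card B = N.index * Nat.card b := by
  classical
  have := finite_irrCharacter G
  have := finite_irrCharacter N
  have := Fintype.ofFinite (IrrCharacter G)
  have := Fintype.ofFinite (IrrCharacter N)
  have := Fintype.ofFinite B
  have := Fintype.ofFinite b
  choose r hr hr' using hres
  let f : B → b := fun χ => ⟨r χ.1 χ.2, hr χ.1 χ.2⟩
  have e1 : B ≃ Σ θ : b, {χ : B // f χ = θ} := (Equiv.sigmaFiberEquiv f).symm
  have e2 : ∀ θ : b, {χ : B // f χ = θ} ≃
      {χ : IrrCharacter G // χ ∈ B ∧ ∀ n : N, (χ : G → ℂ) n = ((θ : IrrCharacter N) : N → ℂ) n} := by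
    intro θ
    refine
      { toFun := fun χ => ⟨χ.1.1, χ.1.2, fun n => ?_⟩
        invFun := fun χ => ⟨⟨χ.1, χ.2.1⟩, ?_⟩
        left_inv := fun χ => rfl
        right_inv := fun χ => rfl }
    · have h := hr' χ.1.1 χ.1.2 n
      rw [h]
      have h2 : r χ.1.1 χ.1.2 = (θ : IrrCharacter N) := congrArg Subtype.val χ.2
      rw [h2]
    · apply Subtype.ext
      apply Subtype.ext
      funext n
      show ((r χ.1 χ.2.1 : IrrCharacter N) : N → ℂ) n = ((θ : IrrCharacter N) : N → ℂ) n
      rw [← hr' χ.1 χ.2.1 n, χ.2.2 n]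
  rw [Nat.card_congr e1, Nat.card_sigma]
  rw [Finset.sum_congr rfl (fun θ _ => (Nat.card_congr (e2 θ)).trans (hfib θ.1 θ.2))]
  rw [Finset.sum_const, Finset.card_univ, smul_eq_mul, Nat.card_eq_fintype_card, mul_comm]

/-- `p`-regular elements lie in a normal subgroup of `p`-power index. -/
theorem mem_of_isPRegular [Finite G] (p : ℕ) [Fact p.Prime] (N : Subgroup G) [N.Normal] {k : ℕ}
    (hk : N.index = p ^ k) (g : G) (hg : IsPRegular p g) : g ∈ N := by
  have hp : p.Prime := Fact.out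
  rw [← QuotientGroup.eq_one_iff]
  have h1 : (QuotientGroup.mk g : G ⧸ N) ^ orderOf g = 1 := by
    rw [← QuotientGroup.mk_pow, pow_orderOf_eq_one, QuotientGroup.mk_one]
  have h2 : (QuotientGroup.mk g : G ⧸ N) ^ (p ^ k) = 1 := by
    rw [← hk, Subgroup.index_eq_card]
    exact pow_card_eq_one'
  have h3 : orderOf (QuotientGroup.mk g : G ⧸ N) ∣ Nat.gcd (orderOf g) (p ^ k) :=
    Nat.dvd_gcd (orderOf_dvd_of_pow_eq_one h1) (orderOf_dvd_of_pow_eq_one h2)
  have h4 : Nat.gcd (orderOf g) (p ^ k) = 1 :=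
    Nat.Coprime.pow_right k ((Nat.Prime.coprime_iff_not_dvd hp).mpr hg).symm
  rw [h4, Nat.dvd_one, orderOf_eq_one_iff] at h3
  exact h3

/-- Extension by zero as a linear map. -/
noncomputable def extLin (N : Subgroup G) : (N → ℂ) →ₗ[ℂ] (G → ℂ) where
  toFun := extendByZero N
  map_add' := fun θ₁ θ₂ => extendByZero_add N θ₁ θ₂
  map_smul' := fun c θ => extendByZero_smul N θ c

theorem extLin_injective (N : Subgroup G) : Function.Injective (extLin N) := by
  intro θ θ' h
  funext n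
  have h1 : extendByZero N θ (n : G) = extendByZero N θ' (n : G) := congrFun h (n : G)
  rwa [extendByZero_apply_coe, extendByZero_apply_coe] at h1

/-- The `p`-regular part of `χ` is the extension by zero of the `p`-regular part of `χ|_N`. -/
theorem pRegularPart_eq_ext [Finite G] (p : ℕ) [Fact p.Prime] (N : Subgroup G) [N.Normal] {k : ℕ}
    (hk : N.index = p ^ k) (χ : G → ℂ) (θ : N → ℂ) (h : ∀ n : N, χ n = θ n) :
    pRegularPart p χ = extLin N (pRegularPart p θ) := by
  classical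
  funext g
  show pRegularPart p χ g = extendByZero N (pRegularPart p θ) g
  by_cases hg : g ∈ N
  · rw [extendByZero_apply_of_mem N _ hg]
    unfold pRegularPart
    have hiff : IsPRegular p (⟨g, hg⟩ : N) ↔ IsPRegular p g := by
      unfold IsPRegular
      rw [← Subgroup.orderOf_coe]
    by_cases hr : IsPRegular p g
    · rw [if_pos hr, if_pos (hiff.mpr hr)]
      exact h ⟨g, hg⟩
    · rw [if_neg hr, if_neg (fun h' => hr (hiff.mp h'))]
  · rw [extendByZero_apply_of_not_mem N _ hg]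
    unfold pRegularPart
    rw [if_neg (fun hr => hg (mem_of_isPRegular p N hk g hr))]

/-- Equality of `p`-regular ranks. -/
theorem blockRank_eq [Finite G] (p : ℕ) [Fact p.Prime] (N : Subgroup G) [N.Normal] {k : ℕ}
    (hk : N.index = p ^ k) (b : Set (IrrCharacter N)) (B : Set (IrrCharacter G))
    (hres : ∀ χ ∈ B, ∃ θ ∈ b, ∀ n : N, (χ : G → ℂ) n = (θ : N → ℂ) n)
    (hsurj : ∀ θ ∈ b, ∃ χ ∈ B, ∀ n : N, (χ : G → ℂ) n = (θ : N → ℂ) n) :
    blockRank p B = blockRank p b := by
  classical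
  unfold blockRank
  have himg : (fun χ : IrrCharacter G => pRegularPart p (χ : G → ℂ)) '' B
      = (extLin N) '' ((fun θ : IrrCharacter N => pRegularPart p (θ : N → ℂ)) '' b) := by
    ext F
    constructor
    · rintro ⟨χ, hχ, rfl⟩
      obtain ⟨θ, hθ, hχθ⟩ := hres χ hχ
      exact ⟨pRegularPart p (θ : N → ℂ), ⟨θ, hθ, rfl⟩,
        (pRegularPart_eq_ext p N hk (χ : G → ℂ) (θ : N → ℂ) hχθ).symm⟩
    · rintro ⟨_, ⟨θ, hθ, rfl⟩, rfl⟩
      obtain ⟨χ, hχ, hχθ⟩ := hsurj θ hθ
      exact ⟨χ, hχ, pRegularPart_eq_ext p N hk (χ : G → ℂ) (θ : N → ℂ) hχθ⟩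
  rw [himg, ← Submodule.map_span]
  exact (LinearEquiv.finrank_eq (Submodule.equivMapOfInjective (extLin N) (extLin_injective N)
    (Submodule.span ℂ ((fun θ : IrrCharacter N => pRegularPart p (θ : N → ℂ)) '' b)))).symm

end Cfsg.Agent.Lib.Helper16.PIndex
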